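import Mathlib
import Cfsg.Prelude.Def_Sporadic
import Cfsg.Prelude.Def_LieTwisted
import Cfsg.Prelude.Def_Local
import Cfsg.Agent.Inv.FzBasic
import Cfsg.Agent.S1074

/-! Definitions for S3586 / S3535 (isospectral groups have no factor of sporadic order). -/

set_option autoImplicit false

namespace Cfsg.Agent.SpS

open Subgroup

/-- `m` is the order of an element of `G`. -/
def Om (G : Type*) [Group G] (m : ℕ) : Prop := ∃ g : G, orderOf g = m

/-- every element order of `G` divides a member of `l`. -/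
def Ub (G : Type*) [Group G] (l : List ℕ) : Prop := ∀ g : G, ∃ d ∈ l, orderOf g ∣ d

/-- The 26 sporadic orders and the order of the Tits group. -/
def sp : List ℕ := [7920, 95040, 443520, 10200960, 244823040, 175560, 604800, 50232960,
  86775571046077562880, 4157776806543360000, 42305421312000, 495766656000, 64561751654400,
  4089470473293004800, 1255205709190661721292800, 44352000, 898128000, 4030387200, 145926144000,
  448345497600, 460815505920, 273030912000000, 51765179004000000, 90745943887872000,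
  4154781481226426191177580544000000, 808017424794512875886459904961710757005754368000000000,
  17971200]

/-- `X` is a non-abelian simple composition factor of `G` whose order is in `sp`, and some odd
prime of `G` is not adjacent to `2`. -/
structure Sf (G X : Type*) [Group G] [Group X] : Prop where
  simp : IsSimpleGroup X
  nab : ¬ IsMulCommutative X
  mem : Nat.card X ∈ sp
  cf : ∃ (H : Subgroup G) (f : H →* X), H.IsSubnormal ∧ Function.Surjective f
  odd : ∃ r : ℕ, r.Prime ∧ r ≠ 2 ∧ Om G r ∧ ¬ Om G (2 * r)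

/-- `G / K` is almost simple with socle `S ≅ X`, `K` solvable. -/
structure Cx (G X : Type*) [Group G] [Group X] where
  K : Subgroup G
  [nK : K.Normal]
  sK : Group.IsSolvable K
  S : Subgroup (G ⧸ K)
  [nS : S.Normal]
  cen : centralizer (S : Set (G ⧸ K)) = ⊥
  e : S ≃* X

attribute [instance] Cx.nK Cx.nS

section Basic

variable {G X : Type*} [Group G] [Group X]

theorem Om.of_dvd [Finite G] {m d : ℕ} (h : Om G m) (hd : d ∣ m) : Om G d := by
  obtain ⟨g, rfl⟩ := h
  exact ⟨_, orderOf_pow_orderOf_div (orderOf_pos g).ne' hd⟩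

theorem Om.of_surj [Finite G] (f : G →* X) (hf : Function.Surjective f) {m : ℕ} (h : Om X m) :
    Om G m := by
  obtain ⟨x, rfl⟩ := h
  obtain ⟨g, rfl⟩ := hf x
  exact Om.of_dvd ⟨g, rfl⟩ (orderOf_map_dvd f g)

theorem Om.of_inj (f : X →* G) (hf : Function.Injective f) {m : ℕ} (h : Om X m) : Om G m := by
  obtain ⟨x, rfl⟩ := h
  exact ⟨f x, orderOf_injective f hf x⟩

theorem Om.of_sub {H : Subgroup G} {m : ℕ} (h : Om H m) : Om G m :=
  h.of_inj H.subtype H.subtype_injective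

theorem Om.of_prime [Finite G] {r : ℕ} (hr : r.Prime) (h : r ∣ Nat.card G) : Om G r :=
  haveI := Fact.mk hr
  exists_prime_orderOf_dvd_card' r h

theorem Om.dvd_card {m : ℕ} (h : Om G m) : m ∣ Nat.card G := by
  obtain ⟨g, rfl⟩ := h
  exact orderOf_dvd_natCard g

theorem Om.mul [Finite G] {x y : G} (h : Commute x y) {a b : ℕ} (hx : a ∣ orderOf x)
    (hy : b ∣ orderOf y) (hc : a.Coprime b) : Om G (a * b) := by
  have h1 := orderOf_pow_orderOf_div (orderOf_pos x).ne' hx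
  have h2 := orderOf_pow_orderOf_div (orderOf_pos y).ne' hy
  exact ⟨_, ((h.pow_pow _ _).orderOf_mul_eq_mul_orderOf_of_coprime (by rwa [h1, h2])).trans
    (by rw [h1, h2])⟩

theorem Ub.not_om {l : List ℕ} (h : Ub G l) {m : ℕ} (hm : ∀ d ∈ l, ¬ m ∣ d) : ¬ Om G m := by
  rintro ⟨g, rfl⟩
  obtain ⟨d, h1, h2⟩ := h g
  exact hm d h1 h2

theorem ub_of_om {l : List ℕ} (h : ∀ m, Om X m → Om G m) (u : Ub G l) : Ub X l := fun x => by
  obtain ⟨g, hg⟩ := h _ ⟨x, rfl⟩
  exact hg ▸ u g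

theorem om_iff_of_range {L : Type*} [Group L]
    (h : Set.range (orderOf : G → ℕ) = Set.range (orderOf : L → ℕ)) (m : ℕ) : Om G m ↔ Om L m :=
  Set.ext_iff.1 h m

theorem Sf.finite [Finite G] (h : Sf G X) : Finite X := by
  obtain ⟨H, f, -, hf⟩ := h.cf
  exact Finite.of_surjective f hf

theorem Sf.om [Finite G] (h : Sf G X) {m : ℕ} (hm : Om X m) : Om G m := by
  obtain ⟨H, f, -, hf⟩ := h.cf
  exact (hm.of_surj f hf).of_sub

theorem Sf.om_prime [Finite G] (h : Sf G X) {r : ℕ} (hr : r.Prime) (hd : r ∣ Nat.card X) :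
    Om G r :=
  haveI := h.finite
  h.om (Om.of_prime hr hd)

theorem Cx.om_bar [Finite G] (c : Cx G X) {m : ℕ} (hm : Om (G ⧸ c.K) m) : Om G m :=
  hm.of_surj _ (QuotientGroup.mk'_surjective c.K)

theorem Cx.card [Finite G] (c : Cx G X) :
    Nat.card G = Nat.card c.K * (Nat.card X * c.S.index) := by
  rw [← Nat.card_congr c.e.toEquiv, card_mul_index, ← index_eq_card, card_mul_index]

theorem mem_sp_of_sporadic (h : Cfsg.IsSporadic X) : Nat.card X ∈ sp := by
  unfold Cfsg.IsSporadic at h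
  rcases h with h | h | h | h | h | h | h | h | h | h | h | h | h | h | h | h | h | h | h | h | h |
    h | h | h | h | h <;> (rw [h.2]; decide)

theorem card_tits (h : Nonempty (X ≃* Cfsg.Lie.TitsGroup)) : Nat.card X = 17971200 := by
  obtain ⟨e⟩ := h
  exact (Nat.card_congr e.toEquiv).trans S1074.result.2.2.2

/-- The data of the statements. -/
theorem Sf.of_quot {H : Subgroup G} (hH : H.IsSubnormal) (N : Subgroup H) [N.Normal]
    (hs : IsSimpleGroup (H ⧸ N)) (hn : ¬ IsMulCommutative (H ⧸ N)) (hm : Nat.card (H ⧸ N) ∈ sp)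
    (ho : ∃ r : ℕ, r.Prime ∧ r ≠ 2 ∧ Om G r ∧ ¬ Om G (2 * r)) : Sf G (H ⧸ N) :=
  ⟨hs, hn, hm, ⟨H, QuotientGroup.mk' N, hH, QuotientGroup.mk'_surjective N⟩, ho⟩

end Basic

/-! ### The `p`-local setting (`p = 5`: HS, McL orders; `p = 7`: He order) -/

section Local

variable {X : Type*} [Group X]

/-- centralizer of an element -/
abbrev Ce (x : X) : Subgroup X := centralizer ({x} : Set X)

/-- `O_{p'}(C(x))` -/
abbrev Dx (p : ℕ) (x : X) : Subgroup X := Cfsg.centralizerPPrimeCore p x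

/-- Sylow `p`-subgroups have order `p ^ 3`; an element commuting with an element of order `p` has
order dividing `2 p` or `3 p`. -/
structure PL (p : ℕ) (X : Type*) [Group X] : Prop where
  p57 : p = 5 ∨ p = 7
  d3 : p ^ 3 ∣ Nat.card X
  d4 : ¬ p ^ 4 ∣ Nat.card X
  cen : ∀ x y : X, orderOf x = p → Commute x y → y ^ (2 * p) = 1 ∨ y ^ (3 * p) = 1

/-- every element has order at most three -/
def Sm (D : Subgroup X) : Prop := ∀ y ∈ D, y ^ 2 = 1 ∨ y ^ 3 = 1

/-- `C(x) = O_{p'}(C(x)) N_{C(x)}(P)` for each Sylow `p`-subgroup `P` of `C(x)`. -/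
def Sol (p : ℕ) (x : X) : Prop :=
  ∀ P : Subgroup X, Inv.Fz.IsSylIn p P (Ce x) → ∀ c ∈ Ce x, ∃ d ∈ Dx p x, d⁻¹ * c ∈ normalizer (P : Set X)

/-- `C(x) = L × W` with `L ≅ A₅` and `W` a `5`-group. -/
def Alt (x : X) : Prop :=
  ∃ L W : Subgroup X, Nonempty (L ≃* alternatingGroup (Fin 5)) ∧ IsPGroup 5 W ∧ x ∈ W ∧
    L ≤ centralizer (W : Set X) ∧ L ⊓ W = ⊥ ∧ L ⊔ W = Ce x

/-- A Sylow `p`-subgroup `R`, extraspecial of order `p ^ 3` and exponent `p`, with centre `⟨z⟩`,
coordinates `κ` on `R / ⟨z⟩` and the action `φ` of `N(R)` on them. -/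
structure Ex (p : ℕ) (X : Type*) [Group X] where
  R : Subgroup X
  z : X
  card : Nat.card R = p ^ 3
  exp : ∀ x ∈ R, x ^ p = 1
  oz : orderOf z = p
  zc : ∀ x, x ∈ zpowers z ↔ x ∈ R ∧ x ∈ centralizer (R : Set X)
  κ : X → Fin 2 → ZMod p
  κ_mul : ∀ x ∈ R, ∀ y ∈ R, κ (x * y) = κ x + κ y
  κ_ker : ∀ x ∈ R, κ x = 0 ↔ x ∈ zpowers z
  κ_surj : ∀ v, ∃ x ∈ R, κ x = v
  comm : ∀ x ∈ R, ∀ y ∈ R, x * y * x⁻¹ * y⁻¹ = z ^ (κ x 0 * κ y 1 - κ x 1 * κ y 0).val
  φ : normalizer (R : Set X) →* GL (Fin 2) (ZMod p)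
  φ_κ : ∀ g : normalizer (R : Set X), ∀ x ∈ R,
    κ (g * x * (g : X)⁻¹) = (φ g : Matrix (Fin 2) (Fin 2) (ZMod p)).mulVec (κ x)
  φ_det : ∀ g : normalizer (R : Set X),
    g * z * (g : X)⁻¹ = z ^ ((φ g : Matrix (Fin 2) (Fin 2) (ZMod p)).det).val
  φ_ker : ∀ g : normalizer (R : Set X), φ g = 1 ↔ (g : X) ∈ R ⊔ centralizer (R : Set X)

variable {p : ℕ}

/-- `U` is a conjugate of the centre of `R`. -/
def Ex.Zc (E : Ex p X) (U : Subgroup X) : Prop := ∃ g : X, U = zpowers (g * E.z * g⁻¹)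

/-- number of conjugates of the centre of `R` inside `Y` -/
noncomputable def Ex.nz (E : Ex p X) (Y : Subgroup X) : ℕ := Set.ncard {U | E.Zc U ∧ U ≤ Y}

/-- `x ∈ R` is non-central and generates a conjugate of the centre. -/
def Ex.Ess (E : Ex p X) (x : X) : Prop := x ∈ E.R ∧ x ∉ zpowers E.z ∧ E.Zc (zpowers x)

/-- `x ∈ R` generates a subgroup of order `p` that is not conjugate to the centre. -/
def Ex.Non (E : Ex p X) (x : X) : Prop := x ∈ E.R ∧ x ≠ 1 ∧ ¬ E.Zc (zpowers x)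

/-- the image of `N(R)` in `GL₂(p)` -/
def Ex.im (E : Ex p X) : Subgroup (GL (Fin 2) (ZMod p)) := E.φ.range

end Local

end Cfsg.Agent.SpS
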