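import Mathlib
import Cfsg.Agent.SpS.Defs
import Cfsg.Agent.GT.FrobeniusBasic

/-! Frattini bounds for the index of the socle (S3586/S3535, piece Bd). -/

set_option autoImplicit false
set_option linter.unusedSectionVars false
set_option linter.unusedVariables false

namespace Cfsg.Agent.SpS

open Subgroup

namespace Bd

variable {B : Type*} [Group B] [Finite B]

theorem free (T : Subgroup B) {s k : ℕ} (hs : s.Prime) (hk : s ^ k ∣ Nat.card (normalizer (T : Set B)))
    (h : ∀ x ∈ T, x ≠ 1 → ∀ y, s ∣ orderOf y → ¬ Commute x y) : s ^ k ∣ Nat.card T - 1 := by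
  have := Fact.mk hs
  obtain ⟨Q, hQ⟩ := Sylow.exists_subgroup_card_pow_prime s hk
  let _ : MulAction Q T := MulAction.compHom T (T.normalizerMonoidHom.comp Q.subtype)
  rw [← hQ]
  refine GT.Frob.card_dvd_card_sub_one_of_free (A := Q) (1 : T) (fun a => map_one (T.normalizerMonoidHom a))
    fun a x hx e => by_contra fun ha => ?_
  have e1 : (a : B) * x * (a : B)⁻¹ = x := congrArg Subtype.val e
  refine h x x.2 (fun e => hx (Subtype.ext e)) a ?_ (mul_inv_eq_iff_eq_mul.1 e1).symm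
  rw [orderOf_coe, orderOf_coe]
  obtain ⟨j, -, hj⟩ := (Nat.dvd_prime_pow hs).1 (hQ ▸ orderOf_dvd_natCard a)
  rw [hj]
  exact dvd_pow_self s fun e => ha (orderOf_eq_one_iff.1 (by rw [hj, e, pow_zero]))

theorem frat (S : Subgroup B) [S.Normal] {r : ℕ} [Fact r.Prime] (P : Sylow r S) :
    Nat.card (normalizer ((P : Subgroup S).map S.subtype : Set B)) =
      S.index * Nat.card ↥(S ⊓ normalizer ((P : Subgroup S).map S.subtype : Set B)) := by
  set N := normalizer ((P : Subgroup S).map S.subtype : Set B)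
  rw [← relIndex_top_right, ← Sylow.normalizer_sup_eq_top P, relIndex_sup_right, mul_comm,
    ← Nat.card_congr (subgroupOfEquivOfLe (inf_le_right : S ⊓ N ≤ N)).toEquiv, inf_subgroupOf_right]
  exact (card_mul_index _).symm

end Bd

variable {G X : Type*} [Group G] [Finite G] [Group X] [Finite X] {p : ℕ}

theorem Cx.outTwo (c : Cx G X) (h : Sf G X) {r k : ℕ} (hr : r.Prime) (h2 : r ≠ 2)
    (hn : ¬ Om G (2 * r)) (hk : r ^ k ∣ c.S.index) : r ^ k ∣ 2 ^ padicValNat 2 (Nat.card X) - 1 := by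
  obtain ⟨P⟩ : Nonempty (Sylow 2 c.S) := inferInstance
  have hc : Nat.card ((P : Subgroup c.S).map c.S.subtype) = 2 ^ padicValNat 2 (Nat.card X) := by
    rw [card_map_of_injective c.S.subtype_injective, P.card_eq_multiplicity, Nat.card_congr c.e.toEquiv,
      Nat.factorization_def _ Nat.prime_two]
  rw [← hc]
  refine Bd.free _ hr (hk.trans ⟨_, Bd.frat c.S P⟩) fun x hx h1 y hy e => hn (c.om_bar (Om.mul e ?_ hy
    ((Nat.coprime_primes Nat.prime_two hr).2 h2.symm)))
  obtain ⟨j, hj⟩ := IsPGroup.iff_orderOf.1 (P.isPGroup'.map c.S.subtype) ⟨x, hx⟩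
  rw [orderOf_mk] at hj
  rw [hj]
  exact dvd_pow_self 2 fun e => h1 (orderOf_eq_one_iff.1 (by rw [hj, e, pow_zero]))

theorem Cx.t3e (c : Cx G X) {r s : ℕ} (hr : r.Prime) (hs : s.Prime) (hrs : r ≠ s) {x : X}
    (hx : orderOf x = r) (h2 : ¬ r ^ 2 ∣ Nat.card X) (hn : ¬ Om G (r * s)) {e : ℕ}
    (he : Nat.card (normalizer (zpowers x : Set X)) = Nat.card (Ce x) * e) {k : ℕ}
    (hk : s ^ k ∣ c.S.index * e) : s ^ k ∣ r - 1 := by
  have := Fact.mk hr
  have hR : Nat.card ((zpowers x).map c.e.symm.toMonoidHom) = r := by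
    rw [card_map_of_injective c.e.symm.injective, Nat.card_zpowers, hx]
  let P : Sylow r c.S := (IsPGroup.of_card (n := 1) (hR.trans (pow_one r).symm)).toSylow fun hd => h2 (by
    rw [← Nat.card_congr c.e.toEquiv, ← card_mul_index ((zpowers x).map c.e.symm.toMonoidHom), hR, pow_two]
    exact Nat.mul_dvd_mul_left r hd)
  have hc : Nat.card ((P : Subgroup c.S).map c.S.subtype) = r := by
    rw [card_map_of_injective c.S.subtype_injective]; exact hR
  have hle : ((normalizer (zpowers x : Set X)).map c.e.symm.toMonoidHom).map c.S.subtype ≤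
      c.S ⊓ normalizer ((P : Subgroup c.S).map c.S.subtype : Set (G ⧸ c.K)) :=
    le_inf (map_subtype_le _) ((map_mono (le_normalizer_map _)).trans (le_normalizer_map _))
  have hd := card_dvd_of_le hle
  rw [card_map_of_injective c.S.subtype_injective, card_map_of_injective c.e.symm.injective, he] at hd
  rw [← hc]
  refine Bd.free _ hs (hk.trans ?_) fun y hy h1 z hz e => hn (c.om_bar (Om.mul e ?_ hz
    ((Nat.coprime_primes hr hs).2 hrs)))
  · rw [Bd.frat c.S P]
    exact Nat.mul_dvd_mul_left _ ((Dvd.intro_left _ rfl).trans hd)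
  · have := hc ▸ orderOf_dvd_natCard (⟨y, hy⟩ : (P : Subgroup c.S).map c.S.subtype)
    rw [orderOf_mk] at this
    exact (((Nat.dvd_prime hr).1 this).resolve_left fun e => h1 (orderOf_eq_one_iff.1 e)).symm.dvd

theorem Cx.t3 (c : Cx G X) {r s : ℕ} (hr : r.Prime) (hs : s.Prime) (hrs : r ≠ s)
    (h1 : r ∣ Nat.card X) (h2 : ¬ r ^ 2 ∣ Nat.card X) (hn : ¬ Om G (r * s)) (hd : ¬ s ∣ r - 1) :
    ¬ s ∣ c.S.index := fun hi => by
  obtain ⟨x, hx⟩ := Om.of_prime hr h1
  obtain ⟨e, he⟩ : Nat.card (Ce x) ∣ Nat.card (normalizer (zpowers x : Set X)) := card_dvd_of_le (by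
    rw [Ce, ← centralizer_closure, ← zpowers_eq_closure]
    exact centralizer_le_normalizer _)
  exact hd (pow_one s ▸ c.t3e hr hs hrs hx h2 hn he (k := 1) ((pow_one s).symm ▸ hi.mul_right e))

theorem Cx.om_bar' (c : Cx G X) {m : ℕ} (hm : Om G m) (h1 : m.Coprime (Nat.card c.K)) :
    Om (G ⧸ c.K) m := by
  obtain ⟨g, rfl⟩ := hm
  refine ⟨g, Nat.dvd_antisymm (orderOf_map_dvd (QuotientGroup.mk' c.K) g) (h1.dvd_of_dvd_mul_right ?_)⟩
  have hk : g ^ orderOf (g : G ⧸ c.K) ∈ c.K := by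
    rw [← QuotientGroup.eq_one_iff, QuotientGroup.mk_pow, pow_orderOf_eq_one]
  rw [orderOf_dvd_iff_pow_eq_one, pow_mul]
  exact congrArg Subtype.val (pow_card_eq_one' (x := (⟨_, hk⟩ : c.K)))

theorem Cx.om_X (c : Cx G X) {m : ℕ} (hm : Om G m) (h1 : m.Coprime (Nat.card c.K))
    (h2 : m.Coprime c.S.index) : Om X m := by
  obtain ⟨g, rfl⟩ := c.om_bar' hm h1
  have hg : g ∈ c.S := by
    rw [← QuotientGroup.eq_one_iff, ← orderOf_eq_one_iff]
    exact Nat.eq_one_of_dvd_coprimes h2 (orderOf_map_dvd (QuotientGroup.mk' c.S) g) (orderOf_dvd_natCard _)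
  exact Om.of_inj c.e.toMonoidHom c.e.injective ⟨⟨g, hg⟩, orderOf_mk g hg⟩

theorem Cx.om_X' (c : Cx G X) {m : ℕ} (hm : Om G m) (h1 : m.Coprime (Nat.card c.K))
    (h2 : c.S.index = 1) : Om X m := c.om_X hm h1 (h2 ▸ Nat.coprime_one_right m)

end Cfsg.Agent.SpS
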