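import Mathlib
import Cfsg.Agent.SpS.Defs
import Cfsg.Agent.S3099
import Cfsg.Agent.GT.CoprimeGen
import Cfsg.Agent.GT.PGroupRank
import Cfsg.Agent.GT.PPrimeCore
import Cfsg.Agent.GT.Quasisimple
import Cfsg.Agent.Cl.PSL2Solv
import Cfsg.Agent.Cl.PSL2Pairs
import Cfsg.Agent.Cl.LinearBasic

/-! A group of 2-rank one has no simple quotient of sporadic order. -/

set_option autoImplicit false
set_option linter.unusedSectionVars false
set_option linter.unusedVariables false

namespace Cfsg.Agent.SpS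

open Subgroup

namespace R1

open Cfsg Cfsg.Agent.GT
open scoped commutatorElement

/-- Bracketing values. -/
def br : List ℕ := [25, 57, 96, 273, 788, 70, 106, 464, 5577965, 2025957, 43901, 9971, 50543, 2014801,
  135909026, 445, 1215, 2005, 6633, 9643, 9731, 81736, 469557, 566177, 202547114678,
  1173501297218634645, 330]

theorem br_ok : ∀ N ∈ sp, Even N ∧ N ≠ 2520 ∧
    ∃ a ∈ br, a * (a ^ 2 - 1) < N * 2 ∧ N * 2 < (a + 1) * ((a + 1) ^ 2 - 1) := by decide +kernel

theorem mono {a b : ℕ} (h : a ≤ b) : a * (a ^ 2 - 1) ≤ b * (b ^ 2 - 1) :=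
  Nat.mul_le_mul h (Nat.sub_le_sub_right (Nat.pow_le_pow_left h 2) 1)

theorem no_q {N q : ℕ} (h : N ∈ sp) : N * 2 ≠ q * (q ^ 2 - 1) := fun e => by
  obtain ⟨-, -, a, -, h1, h2⟩ := br_ok N h
  rcases le_or_gt q a with h3 | h3
  · exact absurd (h1.trans_le (e.le.trans (mono h3))) (lt_irrefl _)
  · exact absurd (h2.trans_le ((mono h3).trans e.ge)) (lt_irrefl _)

variable {H X : Type*} [Group H] [Group X]

theorem card_eq (hH : IsSimpleGroup (H ⧸ center H)) (g : H →* X) (hg : Function.Surjective g)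
    (hs : IsSimpleGroup X) (ha : ¬ IsMulCommutative X) : Nat.card X = Nat.card (H ⧸ center H) := by
  have hc : center X = ⊥ := ((inferInstance : (center X).Normal).eq_bot_or_eq_top).resolve_right
    fun h => ha ⟨⟨fun a b => (mem_center_iff.1 (h ▸ mem_top b) a)⟩⟩
  have hk : center H ≤ g.ker := fun z hz => by
    rw [MonoidHom.mem_ker, ← mem_bot, ← hc, mem_center_iff]
    intro y
    obtain ⟨y, rfl⟩ := hg y
    rw [← map_mul, ← map_mul, mem_center_iff.1 hz]
  have hs' : Function.Surjective (QuotientGroup.lift (center H) g hk) :=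
    QuotientGroup.lift_surjective_of_surjective _ g hg hk
  refine (Nat.card_congr (Equiv.ofBijective _ ⟨(MonoidHom.ker_eq_bot_iff _).1 ?_, hs'⟩)).symm
  refine ((inferInstance : (QuotientGroup.lift (center H) g hk).ker.Normal).eq_bot_or_eq_top).resolve_right
    fun h => ?_
  obtain ⟨x, hx⟩ := exists_ne (1 : X)
  obtain ⟨y, rfl⟩ := hs' x
  exact hx (show y ∈ (QuotientGroup.lift (center H) g hk).ker from h ▸ mem_top y)

theorem perf [Finite H] [Finite X] (hP : Group.IsPerfect H) (h1 : PRankLE 2 1 H) (g : H →* X)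
    (hg : Function.Surjective g) (hs : IsSimpleGroup X) (ha : ¬ IsMulCommutative X)
    (hm : Nat.card X ∈ sp) : False := by
  obtain ⟨he, h7, -⟩ := br_ok _ hm
  have hk : oddCore H ≤ g.ker := by
    rcases ((inferInstance : (oddCore H).Normal).map g hg).eq_bot_or_eq_top with h | h
    · exact (Subgroup.map_eq_bot_iff _).1 h
    · have := card_map_dvd (oddCore H) g
      rw [h, card_top] at this
      exact absurd (odd_card_oddCore.of_dvd_nat this) (Nat.not_odd_iff_even.2 he)
  have hs' : Function.Surjective (QuotientGroup.lift (oddCore H) g hk) :=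
    QuotientGroup.lift_surjective_of_surjective _ g hg hk
  rcases S3099.result hP h1 (even_iff_two_dvd.2 ((even_iff_two_dvd.1 he).trans
    (card_dvd_of_surjective g hg))) with ⟨F, _, _, ho, h3, ⟨e⟩⟩ | ⟨-, ⟨e⟩, -⟩
  · rw [← Nat.card_eq_fintype_card] at ho h3
    have h4 := card_eq (Cl.L2.isSimpleGroup_PSL (F := F) h3)
      ((QuotientGroup.lift (oddCore H) g hk).comp e.symm.toMonoidHom) (hs'.comp e.symm.surjective) hs ha
    have h5 := card_eq_card_quotient_mul_card_subgroup (center (Matrix.SpecialLinearGroup (Fin 2) F))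
    rw [← h4, Cl.L2.card_center_SL, Cl.card_sl_two, Nat.gcd_eq_left (by
      obtain ⟨k, hk⟩ := ho
      exact ⟨k, by omega⟩)] at h5
    exact no_q hm h5.symm
  · have : IsSimpleGroup (alternatingGroup (Fin 7)) := alternatingGroup.isSimpleGroup (by simp)
    refine h7 ?_
    rw [card_eq e.isSimpleGroup _ hs' hs ha, Nat.card_congr e.toEquiv, nat_card_alternatingGroup]
    simp [Nat.factorial]

theorem gen [Finite H] [Finite X] (h1 : PRankLE 2 1 H) (g : H →* X)
    (hg : Function.Surjective g) (hs : IsSimpleGroup X) (ha : ¬ IsMulCommutative X)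
    (hm : Nat.card X ∈ sp) : False := by
  obtain ⟨Y, hY, hmin⟩ := (wellFounded_lt (α := Subgroup H)).has_min {Y | Y.map g = ⊤}
    ⟨⊤, map_top_of_surjective g hg⟩
  have h2 : ⁅Y, Y⁆ = Y := by
    by_contra hne
    refine hmin ⁅Y, Y⁆ ?_ (lt_of_le_of_ne (commutator_le_self Y) hne)
    change Subgroup.map g ⁅Y, Y⁆ = ⊤
    rw [map_commutator, hY]
    exact (IsQuasisimple.of_isSimpleGroup ha).commutator_eq_top
  refine perf (isPerfect_iff.2 h2) (h1.subgroup Y) (g.comp Y.subtype) (fun x => ?_) hs ha hm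
  obtain ⟨y, hy, e⟩ : x ∈ Y.map g := hY ▸ mem_top x
  exact ⟨⟨y, hy⟩, e⟩

end R1

variable {G X : Type*} [Group G] [Finite G] [Group X] [Finite X] {p : ℕ}

theorem rank1 {r : ℕ} (hr : r.Prime) (h2 : r ≠ 2) (hn : ¬ Om G (2 * r)) {P Y : Subgroup G}
    (hP : IsPGroup r P) (h0 : P ≠ ⊥) (hY : Y ≤ normalizer (P : Set G)) (f : Y →* X)
    (hf : Function.Surjective f) (hs : IsSimpleGroup X) (ha : ¬ IsMulCommutative X)
    (hm : Nat.card X ∈ sp) : False := by
  refine R1.gen ?_ f hf hs ha hm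
  by_contra h
  have := Fact.mk hr
  obtain ⟨A, hA, hE, hc⟩ := GT.PG.not_pRankLE_subgroup_iff.1 h
  obtain ⟨k, hk⟩ := IsPGroup.iff_card.1 hP
  have hcop : Nat.Coprime 2 r := (Nat.coprime_primes Nat.prime_two hr).2 h2.symm
  obtain ⟨a, haA, a1, h3⟩ := GT.CopAct.exists_inf_centralizer_ne_bot hE.1
    (GT.CopAct.not_isCyclic_of_isElementaryAbelian hE hc.ge) (hA.trans hY)
    (by rw [hc, hk]; exact Nat.Coprime.pow _ _ hcop) h0
  obtain ⟨⟨v, hv, hv'⟩, v1⟩ := ne_bot_iff_exists_ne_one.1 h3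
  refine hn (Om.mul (x := a) (y := v) (mem_centralizer_singleton_iff.1 hv').symm ?_ ?_ hcop)
  · rw [orderOf_eq_prime (hE.2 a haA) a1]
  · obtain ⟨j, hj⟩ := IsPGroup.iff_orderOf.1 hP ⟨v, hv⟩
    rw [← orderOf_coe] at hj
    rw [hj]
    refine dvd_pow_self r fun e => v1 (Subtype.ext ?_)
    rw [e, pow_zero, orderOf_eq_one_iff] at hj
    exact hj

end Cfsg.Agent.SpS
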