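import Mathlib
import Cfsg.Agent.SpS.Defs
import Cfsg.Agent.SpS.Bd
import Cfsg.Agent.FG.H98FourA
import Cfsg.Agent.Inv.Basic

/-! Cyclic Sylow subgroups in normalizers (S3586/S3535, piece T46). -/

set_option autoImplicit false
set_option linter.unusedSectionVars false
set_option linter.unusedVariables false

namespace Cfsg.Agent.SpS

open Subgroup

namespace T46

variable {B : Type*} [Group B] [Finite B]

theorem notMem_zpowers {a b : B} (ha : orderOf a = 2) (hb : orderOf b = 2) (h : a ≠ b) :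
    b ∉ zpowers a := by
  intro hm
  obtain ⟨k, rfl⟩ := mem_zpowers_iff.1 hm
  have h2 : a ^ (2 : ℤ) = 1 := by
    have := pow_orderOf_eq_one a
    rw [ha] at this
    exact_mod_cast this
  obtain ⟨j, rfl | rfl⟩ := Int.even_or_odd' k
  · rw [zpow_mul, h2, one_zpow, orderOf_one] at hb
    omega
  · rw [zpow_add_one, zpow_mul, h2, one_zpow, one_mul] at h
    exact h rfl

/-- Without four-groups all involutions are conjugate. -/
theorem conj_inv {M : Subgroup B}
    (h4 : ∀ a ∈ M, ∀ b ∈ M, orderOf a = 2 → orderOf b = 2 → Commute a b → a = b) {u v : B}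
    (hu : u ∈ M) (hv : v ∈ M) (ou : orderOf u = 2) (ov : orderOf v = 2) :
    ∃ d ∈ zpowers (u * v), d * u * d⁻¹ = v := by
  have u2 : u * u = 1 := by rw [← pow_two, ← ou, pow_orderOf_eq_one]
  have v2 : v * v = 1 := by rw [← pow_two, ← ov, pow_orderOf_eq_one]
  rcases Nat.even_or_odd (orderOf (u * v)) with he | ho
  · have ow : orderOf ((u * v) ^ (orderOf (u * v) / 2)) = 2 :=
      orderOf_pow_orderOf_div (orderOf_pos _).ne' he.two_dvd
    generalize orderOf (u * v) / 2 = m at ow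
    have wM : (u * v) ^ m ∈ M := pow_mem (mul_mem hu hv) m
    have w2 : ((u * v) ^ m)⁻¹ = (u * v) ^ m := by
      rw [inv_eq_iff_mul_eq_one, ← pow_two, ← ow, pow_orderOf_eq_one]
    have iu : u⁻¹ = u := inv_eq_of_mul_eq_one_right u2
    have iv : v⁻¹ = v := inv_eq_of_mul_eq_one_right v2
    have c1 : u * (u * v) ^ m * u⁻¹ = (u * v) ^ m := by
      rw [← conj_pow, ← w2, ← inv_pow, mul_inv_rev, iu, iv, ← mul_assoc, u2, one_mul]
    have c2 : v * (u * v) ^ m * v⁻¹ = (u * v) ^ m := by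
      rw [← conj_pow, ← w2, ← inv_pow, mul_inv_rev, iu, iv, mul_assoc, mul_assoc, v2, mul_one]
    have e1 := h4 _ hu _ wM ou ow (mul_inv_eq_iff_eq_mul.1 c1)
    have e2 := h4 _ hv _ wM ov ow (mul_inv_eq_iff_eq_mul.1 c2)
    exact ⟨1, one_mem _, by rw [one_mul, inv_one, mul_one, e1, ← e2]⟩
  · exact Inv.exists_conj_of_odd u2 v2 ho

theorem main (S : Subgroup B) [S.Normal] {r : ℕ} [hr : Fact r.Prime] (h2 : r ≠ 2) (hn : ¬ Om B (2 * r))
    (P : Sylow r S) (h1 : r ∣ Nat.card S)
    (he : 2 ∣ Nat.card ↥(S ⊓ normalizer ((P : Subgroup S).map S.subtype : Set B))) : ¬ r ∣ S.index := by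
  have hc : Nat.Coprime 2 r := (Nat.coprime_primes Nat.prime_two hr.1).2 h2.symm
  have hne : (P : Subgroup S).map S.subtype ≠ ⊥ := fun e =>
    P.ne_bot_of_dvd_card h1 ((map_eq_bot_iff_of_injective _ S.subtype_injective).1 e)
  have htop := Sylow.normalizer_sup_eq_top P
  have hP := P.isPGroup'.map S.subtype
  generalize (P : Subgroup S).map S.subtype = R at he hne htop hP
  have h4 : ∀ a ∈ S ⊓ normalizer (R : Set B), ∀ b ∈ S ⊓ normalizer (R : Set B),
      orderOf a = 2 → orderOf b = 2 → Commute a b → a = b := by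
    intro a ha b hb oa ob hab
    by_contra hd
    obtain ⟨x, -, y, -, ox, oy, hxy⟩ := (FG.H98.rk2_of_pair Nat.prime_two ha hb oa ob hab
      (notMem_zpowers oa ob hd)).exists_not_fr Nat.prime_two inf_le_right hr.1 h2.symm hP hne
    exact hn (Om.mul hxy ox.symm.dvd oy.symm.dvd hc)
  obtain ⟨⟨u, hu⟩, ou⟩ := exists_prime_orderOf_dvd_card' (G := ↥(S ⊓ normalizer (R : Set B))) 2 he
  rw [orderOf_mk] at ou
  have ht : centralizer ({u} : Set B) ⊔ S = ⊤ := by
    rw [eq_top_iff, ← htop]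
    refine sup_le (fun g hg => ?_) le_sup_right
    have hv : g * u * g⁻¹ ∈ S ⊓ normalizer (R : Set B) :=
      mem_inf.2 ⟨Normal.conj_mem inferInstance _ hu.1 g,
        mul_mem (mul_mem hg (mem_inf.1 hu).2) (inv_mem hg)⟩
    obtain ⟨d, hd, e⟩ := conj_inv h4 hu hv ou
      (by rw [← ou]; exact (SemiconjBy.orderOf_eq g (by simp [SemiconjBy])).symm)
    have dS : d ∈ S := (zpowers_le.2 (mul_mem hu.1 hv.1)) hd
    have hcu : d⁻¹ * g ∈ centralizer ({u} : Set B) := by
      rw [mem_centralizer_singleton_iff]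
      calc d⁻¹ * g * u = d⁻¹ * (g * u * g⁻¹) * g := by group
        _ = u * (d⁻¹ * g) := by rw [← e]; group
    rw [show g = d * (d⁻¹ * g) by group]
    exact mul_mem (mem_sup_right dS) (mem_sup_left hcu)
  intro hd
  rw [← relIndex_top_right, ← ht, relIndex_sup_right] at hd
  obtain ⟨⟨y, hy⟩, oy⟩ := exists_prime_orderOf_dvd_card' (G := centralizer ({u} : Set B)) r
    (hd.trans (relIndex_dvd_card _ _))
  rw [orderOf_mk] at oy
  exact hn (Om.mul (mem_centralizer_singleton_iff.1 hy).symm ou.symm.dvd oy.symm.dvd hc)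

end T46

variable {G X : Type*} [Group G] [Finite G] [Group X] [Finite X] {p : ℕ}

theorem Cx.t4 (c : Cx G X) {s t k : ℕ} (hs : s.Prime) (ht : t.Prime) (h2 : t ≠ 2) (hst : s ≠ t)
    (hK : s ∣ Nat.card c.K) (hn : ¬ Om G (s * t)) (hk : t ^ k ∣ Nat.card X) : Om G (t ^ k) := by
  have := Fact.mk hs
  have := Fact.mk ht
  obtain ⟨P⟩ : Nonempty (Sylow s c.K) := inferInstance
  have hne : (P : Subgroup c.K).map c.K.subtype ≠ ⊥ := fun e =>
    P.ne_bot_of_dvd_card hK ((map_eq_bot_iff_of_injective _ c.K.subtype_injective).1 e)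
  have hd : t ^ k ∣ Nat.card (normalizer ((P : Subgroup c.K).map c.K.subtype : Set G)) := by
    rw [Bd.frat c.K P]
    refine hk.trans (Dvd.dvd.mul_right ?_ _)
    rw [index_eq_card, ← Nat.card_congr c.e.toEquiv]
    exact card_subgroup_dvd_card _
  have hP := P.isPGroup'.map c.K.subtype
  generalize (P : Subgroup c.K).map c.K.subtype = R at hne hd hP
  obtain ⟨Q, hQ⟩ := Sylow.exists_subgroup_card_pow_prime t hd
  have hc : Nat.card (Q.map (normalizer (R : Set G)).subtype) = t ^ k := by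
    rw [card_map_of_injective (subtype_injective _), hQ]
  have hcyc := FG.H98.isCyclic_of_not_rk2 ht h2 (IsPGroup.of_card hc) fun h => by
    obtain ⟨x, -, y, -, ox, oy, hxy⟩ := h.exists_not_fr ht (map_subtype_le _) hs hst.symm hP hne
    exact hn (Om.mul hxy.symm oy.symm.dvd ox.symm.dvd ((Nat.coprime_primes hs ht).2 hst))
  obtain ⟨g, hg⟩ := hcyc.exists_ofOrder_eq_natCard
  exact Om.of_sub ⟨g, hg.trans hc⟩

theorem Cx.t6 (c : Cx G X) {r : ℕ} [Fact r.Prime] (h2 : r ≠ 2) (hn : ¬ Om G (2 * r)) (R : Sylow r X)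
    (h1 : r ∣ Nat.card X) (he : 2 ∣ Nat.card (normalizer ((R : Subgroup X) : Set X))) :
    ¬ r ∣ c.S.index := by
  let P : Sylow r c.S := R.mapSurjective (f := c.e.symm.toMonoidHom) c.e.symm.surjective
  refine T46.main c.S h2 (fun h => hn (c.om_bar h)) P (by rwa [Nat.card_congr c.e.toEquiv]) ?_
  have hle : ((normalizer ((R : Subgroup X) : Set X)).map c.e.symm.toMonoidHom).map c.S.subtype ≤
      c.S ⊓ normalizer ((P : Subgroup c.S).map c.S.subtype : Set (G ⧸ c.K)) :=
    le_inf (map_subtype_le _) ((map_mono (le_normalizer_map _)).trans (le_normalizer_map _))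
  have hd := card_dvd_of_le hle
  rw [card_map_of_injective c.S.subtype_injective, card_map_of_injective c.e.symm.injective] at hd
  exact he.trans hd

end Cfsg.Agent.SpS
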