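import Mathlib
import Cfsg.Agent.NT.Zsigmondy

/-! The pairs `(q, i)` whose primitive part of `q ^ i - 1` divides the lcm of the sporadic bounds. -/

set_option autoImplicit false

namespace Cfsg.Agent.SpS

open Cfsg.Agent.NT Polynomial

/-- primes and exponents of the universal bound -/
def arL : List (ℕ × ℕ) :=
  [(2, 46), (3, 21), (5, 9), (7, 6), (11, 3), (13, 3), (17, 1), (19, 1), (23, 1), (29, 1), (31, 2), (37, 1),
   (41, 1), (43, 1), (47, 2), (59, 1), (67, 1), (71, 1)]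

def arProd : List (ℕ × ℕ) → ℕ
  | [] => 1
  | x :: L => x.1 ^ x.2 * arProd L

/-- the universal bound -/
def arU : ℕ := arProd arL

/-- all `(q, i, z)`, `z` the primitive part of `q ^ i - 1`, with `z ∣ arU` -/
def arTab : List (ℕ × ℕ × ℕ) :=
  [(2, 3, 7), (3, 3, 13), (4, 3, 7), (5, 3, 31), (6, 3, 43), (7, 3, 19), (9, 3, 91), (10, 3, 37),
   (11, 3, 133), (16, 3, 91), (18, 3, 343), (22, 3, 169), (25, 3, 217), (26, 3, 703), (29, 3, 871),
   (30, 3, 931), (36, 3, 1333), (37, 3, 469), (49, 3, 817), (67, 3, 1519), (79, 3, 2107), (87, 3,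
   7657), (100, 3, 3367), (121, 3, 4921), (163, 3, 8911), (165, 3, 27391), (178, 3, 10621), (191, 3,
   36673), (211, 3, 14911), (315, 3, 99541), (380, 3, 144781), (439, 3, 64387), (565, 3, 106597),
   (676, 3, 152551), (900, 3, 810901), (1369, 3, 625177), (1712, 3, 2932657), (2382, 3, 5676307),
   (2629, 3, 2304757), (3446, 3, 11878363), (11092, 3, 41014519), (25363, 3, 214435711), (2, 4, 5),
   (3, 4, 5), (4, 4, 17), (5, 4, 13), (6, 4, 37), (7, 4, 25), (8, 4, 65), (9, 4, 41), (12, 4, 145),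
   (13, 4, 85), (17, 4, 145), (18, 4, 325), (21, 4, 221), (31, 4, 481), (32, 4, 1025), (43, 4, 925),
   (47, 4, 1105), (57, 4, 1625), (68, 4, 4625), (70, 4, 4901), (73, 4, 2665), (99, 4, 4901), (132,
   4, 17425), (157, 4, 12325), (191, 4, 18241), (268, 4, 71825), (278, 4, 77285), (302, 4, 91205),
   (307, 4, 47125), (993, 4, 493025), (2943, 4, 4330625), (2, 5, 31), (3, 5, 121), (4, 5, 341), (5,
   5, 781), (16, 5, 13981), (2, 6, 1), (3, 6, 7), (4, 6, 13), (5, 6, 7), (6, 6, 31), (7, 6, 43), (8,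
   6, 19), (10, 6, 91), (11, 6, 37), (12, 6, 133), (17, 6, 91), (19, 6, 343), (23, 6, 169), (26, 6,
   217), (27, 6, 703), (30, 6, 871), (31, 6, 931), (37, 6, 1333), (38, 6, 469), (50, 6, 817), (68,
   6, 1519), (80, 6, 2107), (88, 6, 7657), (101, 6, 3367), (122, 6, 4921), (164, 6, 8911), (166, 6,
   27391), (179, 6, 10621), (192, 6, 36673), (212, 6, 14911), (316, 6, 99541), (381, 6, 144781),
   (440, 6, 64387), (566, 6, 106597), (677, 6, 152551), (901, 6, 810901), (1370, 6, 625177), (1713,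
   6, 2932657), (2383, 6, 5676307), (2630, 6, 2304757), (3447, 6, 11878363), (11093, 6, 41014519),
   (25364, 6, 214435711), (2, 8, 17), (3, 8, 41), (2, 10, 11), (4, 10, 41), (2, 12, 13), (2, 14,
   43), (2, 18, 19), (3, 18, 703), (2, 20, 41)]

def arPart (i : ℕ) : List (ℕ × ℕ) → ℕ
  | [] => 1
  | x :: L => if x.1 % i = 1 then x.1 ^ x.2 * arPart i L else arPart i L

def arDivs (i : ℕ) : List (ℕ × ℕ) → List ℕ
  | [] => [1]
  | x :: L => if x.1 % i = 1 then (List.range (x.2 + 1)).flatMap fun k => (arDivs i L).map fun d => x.1 ^ k * d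
      else arDivs i L

theorem arPart_pos (i : ℕ) : ∀ L : List (ℕ × ℕ), (∀ x ∈ L, x.1.Prime) → 0 < arPart i L
  | [], _ => by simp [arPart]
  | x :: L, h => by
    have h1 := arPart_pos i L fun y hy => h y (List.mem_cons_of_mem _ hy)
    have h2 := (h x List.mem_cons_self).pos
    unfold arPart
    split_ifs
    · positivity
    · exact h1

theorem ar_dvd (i : ℕ) : ∀ (L : List (ℕ × ℕ)) (m : ℕ), (∀ x ∈ L, x.1.Prime) → m ∣ arProd L →
    (∀ r, r.Prime → r ∣ m → r % i = 1) → m ∣ arPart i L ∧ m ∈ arDivs i L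
  | [], m, _, h, _ => by
    have : m = 1 := by simpa [arProd] using h
    simp [this, arPart, arDivs]
  | x :: L, m, hL, h, hm => by
    have hL' : ∀ y ∈ L, y.1.Prime := fun y hy => hL y (List.mem_cons_of_mem _ hy)
    have hx := hL x List.mem_cons_self
    obtain ⟨a, d, ha, hd, rfl⟩ := (Nat.dvd_mul).1 (show m ∣ x.1 ^ x.2 * arProd L from h)
    obtain ⟨k, hk, rfl⟩ := (Nat.dvd_prime_pow hx).1 ha
    obtain ⟨h1, h2⟩ := ar_dvd i L d hL' hd fun r hr hrd => hm r hr (hrd.mul_left _)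
    unfold arPart arDivs
    split_ifs with hc
    · refine ⟨Nat.mul_dvd_mul ha h1, ?_⟩
      simp only [List.mem_flatMap, List.mem_range, List.mem_map]
      exact ⟨k, by omega, d, h2, rfl⟩
    · rcases Nat.eq_zero_or_pos k with rfl | hk0
      · simpa using ⟨h1, h2⟩
      · exact absurd (hm _ hx ((dvd_pow_self _ hk0.ne').mul_right _)) hc

theorem arL_prime : ∀ x ∈ arL, x.1.Prime := by
  intro x hx
  simp only [arL, List.mem_cons, List.not_mem_nil, or_false] at hx
  rcases hx with rfl | rfl | rfl | rfl | rfl | rfl | rfl | rfl | rfl | rfl | rfl | rfl | rfl | rfl | rfl | rfl |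
    rfl | rfl <;> norm_num

theorem prim_mod {q i m : ℕ} (hq : 2 ≤ q) (hi : 3 ≤ i) (h : IsPrimDivisor q i m) (r : ℕ) (hr : r.Prime)
    (hrm : r ∣ m) : r % i = 1 := by
  have h1 := h.orderOf_eq (by omega) (by omega) hr hrm
  obtain ⟨c, hc⟩ := dvd_sub_one_of_orderOf_eq hr (by omega) h1
  have := hr.pos
  have h2 : r = i * c + 1 := by omega
  rw [h2, Nat.mul_add_mod]
  exact Nat.mod_eq_of_lt (by omega)

def arPrim (q i m : ℕ) : Bool :=
  decide ((q ^ i - 1) % m = 0) && (List.range i).all fun j => decide (j = 0) || decide (Nat.gcd m (q ^ j - 1) = 1)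

theorem arPrim_spec {q i m : ℕ} (h : arPrim q i m = true) : IsPrimDivisor q i m := by
  simp only [arPrim, Bool.and_eq_true, decide_eq_true_eq, List.all_eq_true, List.mem_range,
    Bool.or_eq_true] at h
  exact ⟨Nat.dvd_of_mod_eq_zero h.1, fun j hj hlt => (h.2 j hlt).resolve_left (by omega)⟩

def arIn (q i : ℕ) : Bool := arTab.any fun x => x.1 == q && x.2.1 == i

theorem arTab_prim : arTab.all (fun x => arPrim x.1 x.2.1 x.2.2) = true := by decide +kernel

theorem arIn_spec {q i : ℕ} (h : arIn q i = true) : ∃ z, (q, i, z) ∈ arTab ∧ IsPrimDivisor q i z := by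
  simp only [arIn, List.any_eq_true, Bool.and_eq_true, beq_iff_eq] at h
  obtain ⟨⟨a, b, z⟩, hx, rfl, rfl⟩ := h
  exact ⟨z, hx, arPrim_spec (List.all_eq_true.1 arTab_prim _ hx)⟩

theorem ar_check_big : (List.range 71).all (fun i => decide (i < 5) || decide (i = 6) ||
    (decide (4 * i * arPart i arL < 623 ^ cntCoprime i i) && (List.range 623).all fun q =>
      decide (q < 2) || decide (4 * i * arPart i arL < q ^ cntCoprime i i) ||
        (arPrim q i (primPartCand q i) && (decide (arU % primPartCand q i ≠ 0) || arIn q i)))) = true := by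
  decide +kernel

theorem ar_check3 : (arDivs 3 arL).all (fun d => [1, 3].all fun g =>
    decide (Nat.sqrt (d * g) ^ 2 + Nat.sqrt (d * g) + 1 ≠ d * g) ||
      ((decide (Nat.sqrt (d * g) < 2) || arIn (Nat.sqrt (d * g)) 3) && arIn (Nat.sqrt (d * g) + 1) 6 ||
        decide (Nat.sqrt (d * g) < 1))) = true := by
  decide +kernel

theorem ar_check4 : (arDivs 4 arL).all (fun d => [1, 2].all fun g =>
    decide (Nat.sqrt (d * g) ^ 2 + 1 ≠ d * g) || decide (Nat.sqrt (d * g) < 2) ||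
      arIn (Nat.sqrt (d * g)) 4) = true := by
  decide +kernel

/-- the quadratic cases: a value `D` dividing `q ^ i - 1` all of whose primes but `l` are primitive -/
theorem ar_quad {q i l D : ℕ} (hq : 2 ≤ q) (hi : 3 ≤ i) (hl : l.Prime) (hD : D ∣ q ^ i - 1)
    (hl2 : ¬ l * l ∣ D) (hp : ∀ r, r.Prime → r ∣ D → r ≠ l → orderOf (q : ZMod r) = i)
    (H : ∀ m, IsPrimDivisor q i m → m ∣ arU) {j : ℕ} (hj : j ∣ i) (hj1 : 1 < j) :
    ∃ d ∈ arDivs j arL, ∃ g ∈ [1, l], D = d * g := by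
  have key : ∀ m, m ∣ D → ¬ l ∣ m → m ∈ arDivs j arL := by
    intro m hm hlm
    have h1 : IsPrimDivisor q i m := isPrimDivisor_of_forall_prime (by omega) (by omega) (hm.trans hD)
      fun r hr hrm => hp r hr (hrm.trans hm) fun h => hlm (h ▸ hrm)
    refine (ar_dvd j arL m arL_prime (H m h1) fun r hr hrm => ?_).2
    rw [← Nat.mod_mod_of_dvd r hj, prim_mod hq hi h1 r hr hrm]
    exact Nat.mod_eq_of_lt hj1
  by_cases h : l ∣ D
  · obtain ⟨m, rfl⟩ := h
    exact ⟨m, key m (dvd_mul_left _ _) fun h => hl2 (Nat.mul_dvd_mul_left _ h), l, by simp, mul_comm _ _⟩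
  · exact ⟨D, key D dvd_rfl h, 1, by simp, (mul_one _).symm⟩

theorem ord_eq_of {r q i : ℕ} (hi : 0 < i) (h : (q : ZMod r) ^ i = 1)
    (h' : ∀ p : ℕ, p.Prime → p ∣ i → (q : ZMod r) ^ (i / p) ≠ 1) : orderOf (q : ZMod r) = i :=
  orderOf_eq_of_pow_and_pow_div_prime hi h h'

theorem prime_eq_of_cast {r l : ℕ} (hr : r.Prime) (hl : l.Prime) (h : ((l : ℕ) : ZMod r) = 0) : r = l :=
  (Nat.prime_dvd_prime_iff_eq hr hl).1 ((ZMod.natCast_eq_zero_iff _ _).1 h)

theorem ar_three {q : ℕ} (hq : 2 ≤ q) (H : ∀ m, IsPrimDivisor q 3 m → m ∣ arU) : arIn q 3 = true := by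
  obtain ⟨d, hd, g, hg, h⟩ := ar_quad (D := q ^ 2 + q + 1) hq le_rfl Nat.prime_three
    ⟨q - 1, by obtain ⟨t, rfl⟩ := Nat.exists_eq_add_of_le' (show 1 ≤ q by omega)
               rw [Nat.add_sub_cancel]; exact Nat.sub_eq_of_eq_add (by ring)⟩
    (fun h => by
      have h1 : ((q ^ 2 + q + 1 : ℕ) : ZMod 9) = 0 := (ZMod.natCast_eq_zero_iff _ _).2 h
      push_cast at h1
      revert h1; generalize (q : ZMod 9) = x; revert x; decide)
    (fun r hr hrD hr3 => by
      have h1 : ((q ^ 2 + q + 1 : ℕ) : ZMod r) = 0 := (ZMod.natCast_eq_zero_iff _ _).2 hrD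
      push_cast at h1
      refine ord_eq_of (by norm_num) (by linear_combination ((q : ZMod r) - 1) * h1) fun p hp hp3 h2 => ?_
      rw [(Nat.prime_dvd_prime_iff_eq hp Nat.prime_three).1 hp3] at h2
      norm_num at h2
      refine hr3 (prime_eq_of_cast hr Nat.prime_three ?_)
      rw [h2] at h1
      push_cast
      linear_combination h1) H dvd_rfl (by norm_num)
  have hs : Nat.sqrt (d * g) = q := by
    rw [← h]; exact (Nat.eq_sqrt.2 ⟨by nlinarith, by nlinarith⟩).symm
  have := List.all_eq_true.1 (List.all_eq_true.1 ar_check3 d hd) g hg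
  rw [hs, ← h] at this
  simp only [ne_eq, not_true_eq_false, decide_false, Bool.false_or, Bool.or_eq_true, Bool.and_eq_true,
    decide_eq_true_eq] at this
  rcases this with ⟨h1 | h1, -⟩ | h1
  · omega
  · exact h1
  · omega

theorem ar_six {q : ℕ} (hq : 2 ≤ q) (H : ∀ m, IsPrimDivisor q 6 m → m ∣ arU) : arIn q 6 = true := by
  obtain ⟨t, rfl⟩ := Nat.exists_eq_add_of_le' (show 1 ≤ q by omega)
  obtain ⟨d, hd, g, hg, h⟩ := ar_quad (D := t ^ 2 + t + 1) hq (by norm_num) Nat.prime_three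
    ⟨(t + 2) * ((t + 1) ^ 3 - 1), by
      have : (t + 1) ^ 3 - 1 = t ^ 3 + 3 * t ^ 2 + 3 * t := Nat.sub_eq_of_eq_add (by ring)
      rw [this]; exact Nat.sub_eq_of_eq_add (by ring)⟩
    (fun h => by
      have h1 : ((t ^ 2 + t + 1 : ℕ) : ZMod 9) = 0 := (ZMod.natCast_eq_zero_iff _ _).2 h
      push_cast at h1
      revert h1; generalize (t : ZMod 9) = x; revert x; decide)
    (fun r hr hrD hr3 => by
      have h1 : ((t ^ 2 + t + 1 : ℕ) : ZMod r) = 0 := (ZMod.natCast_eq_zero_iff _ _).2 hrD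
      push_cast at h1
      have h3 : ((t : ZMod r) + 1) ^ 3 = -1 := by linear_combination ((t : ZMod r) + 2) * h1
      refine ord_eq_of (by norm_num) (by push_cast; linear_combination (((t : ZMod r) + 1) ^ 3 - 1) * h3)
        fun p hp hp6 h2 => ?_
      push_cast at h2
      rcases (Nat.Prime.dvd_mul hp).1 (show p ∣ 2 * 3 from hp6) with h4 | h4
      · rw [(Nat.prime_dvd_prime_iff_eq hp Nat.prime_two).1 h4] at h2
        norm_num at h2
        have : r = 2 := prime_eq_of_cast hr Nat.prime_two (by push_cast; linear_combination h3 - h2)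
        subst this
        revert h1; generalize (t : ZMod 2) = x; revert x; decide
      · rw [(Nat.prime_dvd_prime_iff_eq hp Nat.prime_three).1 h4] at h2
        norm_num at h2
        refine hr3 (prime_eq_of_cast hr Nat.prime_three ?_)
        have h5 : (t : ZMod r) = 1 := by linear_combination h2 - h1
        rw [h5] at h1
        push_cast
        linear_combination h1) H (show 3 ∣ 6 by norm_num) (by norm_num)
  have hs : Nat.sqrt (d * g) = t := by
    rw [← h]; exact (Nat.eq_sqrt.2 ⟨by nlinarith, by nlinarith⟩).symm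
  have := List.all_eq_true.1 (List.all_eq_true.1 ar_check3 d hd) g hg
  rw [hs, ← h] at this
  simp only [ne_eq, not_true_eq_false, decide_false, Bool.false_or, Bool.or_eq_true, Bool.and_eq_true,
    decide_eq_true_eq] at this
  rcases this with ⟨-, h1⟩ | h1
  · exact h1
  · omega

theorem ar_four {q : ℕ} (hq : 2 ≤ q) (H : ∀ m, IsPrimDivisor q 4 m → m ∣ arU) : arIn q 4 = true := by
  obtain ⟨d, hd, g, hg, h⟩ := ar_quad (D := q ^ 2 + 1) hq (by norm_num) Nat.prime_two
    ⟨q ^ 2 - 1, by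
      obtain ⟨t, ht⟩ := Nat.exists_eq_add_of_le' (show 1 ≤ q ^ 2 from Nat.one_le_pow _ _ (by omega))
      rw [show q ^ 4 = (q ^ 2) ^ 2 by ring, ht, Nat.add_sub_cancel]; exact Nat.sub_eq_of_eq_add (by ring)⟩
    (fun h => by
      have h1 : ((q ^ 2 + 1 : ℕ) : ZMod 4) = 0 := (ZMod.natCast_eq_zero_iff _ _).2 h
      push_cast at h1
      revert h1; generalize (q : ZMod 4) = x; revert x; decide)
    (fun r hr hrD hr2 => by
      have h1 : ((q ^ 2 + 1 : ℕ) : ZMod r) = 0 := (ZMod.natCast_eq_zero_iff _ _).2 hrD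
      push_cast at h1
      refine ord_eq_of (by norm_num) (by linear_combination ((q : ZMod r) ^ 2 - 1) * h1) fun p hp hp4 h2 => ?_
      rw [(Nat.prime_dvd_prime_iff_eq hp Nat.prime_two).1 (hp.dvd_of_dvd_pow (show p ∣ 2 ^ 2 from hp4))] at h2
      norm_num at h2
      refine hr2 (prime_eq_of_cast hr Nat.prime_two ?_)
      push_cast
      linear_combination h1 - h2) H dvd_rfl (by norm_num)
  have hs : Nat.sqrt (d * g) = q := by
    rw [← h]; exact (Nat.eq_sqrt.2 ⟨by nlinarith, by nlinarith⟩).symm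
  have := List.all_eq_true.1 (List.all_eq_true.1 ar_check4 d hd) g hg
  rw [hs, ← h] at this
  simp only [ne_eq, not_true_eq_false, decide_false, Bool.false_or, Bool.or_eq_true,
    decide_eq_true_eq] at this
  rcases this with h1 | h1
  · omega
  · exact h1

theorem ar_le_of_dvd {r : ℕ} (hr : r.Prime) : ∀ L : List (ℕ × ℕ), (∀ x ∈ L, x.1.Prime) → r ∣ arProd L →
    ∃ x ∈ L, r = x.1
  | [], _, h => absurd (Nat.dvd_one.1 h) hr.ne_one
  | x :: L, hL, h => by
    rcases (Nat.Prime.dvd_mul hr).1 (show r ∣ x.1 ^ x.2 * arProd L from h) with h | h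
    · exact ⟨x, List.mem_cons_self,
        (Nat.prime_dvd_prime_iff_eq hr (hL x List.mem_cons_self)).1 (hr.dvd_of_dvd_pow h)⟩
    · obtain ⟨y, hy, h⟩ := ar_le_of_dvd hr L (fun y hy => hL y (List.mem_cons_of_mem _ hy)) h
      exact ⟨y, List.mem_cons_of_mem _ hy, h⟩

theorem ar_in {q i : ℕ} (hq : 2 ≤ q) (hi : 3 ≤ i) (H : ∀ m, IsPrimDivisor q i m → m ∣ arU) :
    arIn q i = true := by
  by_cases h3 : i = 3
  · subst h3; exact ar_three hq H
  by_cases h4 : i = 4
  · subst h4; exact ar_four hq H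
  by_cases h6 : i = 6
  · subst h6; exact ar_six hq H
  have hi70 : i < 71 := by
    obtain ⟨r, hr, ho⟩ := zsigmondy_orderOf (a := q) (n := i) (by omega) (by omega) (by omega) (by omega)
    have h1 : IsPrimDivisor q i r := isPrimDivisor_of_forall_prime (by omega) (by omega)
      ((dvd_pow_sub_one_iff_orderOf_dvd (by omega) i).2 ho.dvd)
      fun s hs hsr => by rw [(Nat.prime_dvd_prime_iff_eq hs hr).1 hsr]; exact ho
    obtain ⟨x, hx, rfl⟩ := ar_le_of_dvd hr arL arL_prime (H r h1)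
    have h2 := lt_of_orderOf_eq hr (by omega) ho
    have h5 : ∀ y ∈ arL, y.1 ≤ 71 := by decide
    exact h2.trans_le (h5 x hx)
  obtain ⟨m, hm, hb⟩ := exists_primDivisor_pow_totient_le hq hi
  have h1 := Nat.le_of_dvd (arPart_pos i arL arL_prime)
    (ar_dvd i arL m arL_prime (H m hm) (prim_mod hq hi hm)).1
  have h2 : q ^ cntCoprime i i ≤ 4 * i * arPart i arL :=
    (Nat.pow_le_pow_right (by omega) (cntCoprime_le_totient le_rfl)).trans (hb.trans (by gcongr))
  have := List.all_eq_true.1 ar_check_big i (List.mem_range.2 hi70)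
  simp only [Bool.or_eq_true, decide_eq_true_eq, Bool.and_eq_true, List.all_eq_true, List.mem_range] at this
  rcases this with (h | h) | ⟨h7, h8⟩
  · omega
  · omega
  have hq' : q < 623 := by
    by_contra hc
    exact absurd (h7.trans_le (Nat.pow_le_pow_left (not_lt.1 hc) _)) (not_lt.2 h2)
  rcases h8 q hq' with (h | h) | ⟨h9, h | h⟩
  · omega
  · omega
  · exact absurd (Nat.mod_eq_zero_of_dvd (H _ (arPrim_spec h9))) h
  · exact h

theorem prim_dvd {W q i m : ℕ} (hq : 2 ≤ q) (hi : 3 ≤ i)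
    (H : ∀ r k : ℕ, r.Prime → orderOf (q : ZMod r) = i → 0 < k → r ^ k ∣ q ^ i - 1 → r ^ k ∣ W)
    (hm : IsPrimDivisor q i m) : m ∣ W := by
  refine (Nat.dvd_iff_prime_pow_dvd_dvd _ _).2 fun r k hr h => ?_
  rcases Nat.eq_zero_or_pos k with rfl | hk
  · simp
  · exact H r k hr (hm.orderOf_eq (by omega) (by omega) hr ((dvd_pow_self _ hk.ne').trans h)) hk (h.trans hm.1)

/-- Main statement: the pair `(q, i)` is in the table and its primitive part divides `W`. -/
theorem mem_arTab {W q i : ℕ} (hW : W ∣ arU) (hq : 2 ≤ q) (hi : 3 ≤ i)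
    (H : ∀ r k : ℕ, r.Prime → orderOf (q : ZMod r) = i → 0 < k → r ^ k ∣ q ^ i - 1 → r ^ k ∣ W) :
    ∃ z, (q, i, z) ∈ arTab ∧ z ∣ W := by
  obtain ⟨z, h1, h2⟩ := arIn_spec (ar_in hq hi fun m hm => (prim_dvd hq hi H hm).trans hW)
  exact ⟨z, h1, prim_dvd hq hi H h2⟩

/-- the part of `N * M` on the primes of `N` -/
def arW (N M : ℕ) : ℕ := Nat.gcd (N * M) (N ^ 256)

theorem dvd_arW {N M r k : ℕ} (hr : r.Prime) (h0 : 0 < N * M) (hlt : N * M < 2 ^ 256) (h1 : r ∣ N)
    (h2 : r ^ k ∣ N * M) : r ^ k ∣ arW N M := by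
  refine Nat.dvd_gcd h2 ((pow_dvd_pow _ ?_).trans (pow_dvd_pow_of_dvd h1 256))
  have h3 : 2 ^ k < 2 ^ 256 := ((Nat.pow_le_pow_left hr.two_le k).trans (Nat.le_of_dvd h0 h2)).trans_lt hlt
  exact ((Nat.pow_lt_pow_iff_right (by norm_num)).1 h3).le

end Cfsg.Agent.SpS
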