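import Mathlib
import Cfsg.Agent.Cl.ClassOrd

/-! Upper bounds for the element orders of `PSL^ε_n(q)`: orbit decomposition and a checker. -/

set_option autoImplicit false

namespace Cfsg.Agent.SpS

open Cfsg.Agent.Cl Cfsg.Agent.Cl.Cls

variable {K : Type*} [Field K] {a : ℤ} {p n m : ℕ} {J : Multiset (K × ℕ)}

theorem la_split (hinj : Function.Injective fun x : K => x ^ a) (hJ : IsJD a n J) {x : K × ℕ} (hx : x ∈ J) :
    ∃ J' n', J = orb a x.1 (per a x.1) x.2 + J' ∧ IsJD a n' J' ∧ per a x.1 * x.2 + n' = n := by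
  classical
  have hmem : ∀ i : ℕ, (x.1 ^ a ^ i, x.2) ∈ J := by
    intro i
    induction i with
    | zero => simpa using hx
    | succ i ih => simpa only [pow_succ, zpow_mul] using hJ.zpow_mem ih
  have hnd : (orb a x.1 (per a x.1) x.2).Nodup := by
    refine Multiset.Nodup.map_on (fun i hi j hj h => ?_) (Multiset.nodup_range _)
    have h1 := congrArg Prod.fst h
    simp only [← spec_iterate_zpow] at h1
    exact Function.iterate_injOn_Iio_minimalPeriod (Multiset.mem_range.1 hi) (Multiset.mem_range.1 hj) h1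
  obtain ⟨J', hJ'⟩ := Multiset.le_iff_exists_add.1 ((Multiset.le_iff_subset hnd).2 fun y hy => by
    obtain ⟨i, -, rfl⟩ := mem_orb.1 hy
    exact hmem i)
  have hO := isJD_orb (hJ.ne_zero x hx) (zpow_pow_per (a := a) x.1) (hJ.pos x hx)
  refine ⟨J', (J'.map Prod.snd).sum, hJ', ⟨fun y hy => hJ.ne_zero y (hJ' ▸ Multiset.mem_add.2 (Or.inr hy)),
    fun y hy => hJ.pos y (hJ' ▸ Multiset.mem_add.2 (Or.inr hy)), rfl, ?_⟩, ?_⟩
  · have h := hJ.stable
    rw [hJ', Multiset.map_add, hO.stable] at h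
    exact add_left_cancel h
  · rw [← hJ.sum, hJ', Multiset.map_add, Multiset.sum_add, hO.sum]

theorem la_zero (hJ : IsJD a 0 J) : J = 0 := by
  by_contra h
  obtain ⟨x, hx⟩ := Multiset.exists_mem_of_ne_zero h
  exact absurd (hJ.le hx) (not_le.2 (hJ.pos x hx))

/-- the Jordan data of a list of orbits -/
def laJ (a : ℤ) : List (K × ℕ × ℕ) → Multiset (K × ℕ)
  | [] => 0
  | x :: L => orb a x.1 x.2.1 x.2.2 + laJ a L

def laS : List (ℕ × ℕ) → ℕ
  | [] => 0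
  | x :: L => x.1 * x.2 + laS L

def LaOk (a : ℤ) (x : K × ℕ × ℕ) : Prop := x.1 ≠ 0 ∧ 0 < x.2.1 ∧ 0 < x.2.2 ∧ x.1 ^ a ^ x.2.1 = x.1

theorem la_list (hinj : Function.Injective fun x : K => x ^ a) : ∀ (n : ℕ) (J : Multiset (K × ℕ)), IsJD a n J →
    ∃ L : List (K × ℕ × ℕ), (∀ x ∈ L, LaOk a x) ∧ J = laJ a L ∧ laS (L.map Prod.snd) = n := by
  intro n
  induction n using Nat.strong_induction_on with
  | _ n ih =>
    intro J hJ
    by_cases h : J = 0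
    · refine ⟨[], by simp, h, ?_⟩
      rw [← hJ.sum, h]; rfl
    obtain ⟨x, hx⟩ := Multiset.exists_mem_of_ne_zero h
    obtain ⟨J', n', h1, h2, h3⟩ := la_split hinj hJ hx
    have h4 := hJ.per_pos hinj (hJ.mem_unmult hx)
    have h5 := Nat.mul_pos h4 (hJ.pos x hx)
    obtain ⟨L, h6, h7, h8⟩ := ih n' (by omega) J' h2
    refine ⟨(x.1, per a x.1, x.2) :: L, ?_, by rw [h1, h7]; rfl, by rw [← h3, ← h8]; rfl⟩
    intro y hy
    rcases List.mem_cons.1 hy with rfl | hy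
    · exact ⟨hJ.ne_zero x hx, h4, hJ.pos x hx, zpow_pow_per _⟩
    · exact h6 y hy

theorem mem_laJ {y : K × ℕ} : ∀ {L : List (K × ℕ × ℕ)}, y ∈ laJ a L → ∃ x ∈ L, y ∈ orb a x.1 x.2.1 x.2.2
  | [], h => absurd h (Multiset.notMem_zero _)
  | x :: L, h => by
    rcases Multiset.mem_add.1 h with h | h
    · exact ⟨x, List.mem_cons_self, h⟩
    · obtain ⟨z, hz, h⟩ := mem_laJ h
      exact ⟨z, List.mem_cons_of_mem _ hz, h⟩

theorem la_zpow_eq_one {μ : K} (h0 : μ ≠ 0) {l : ℕ} (hμ : μ ^ a ^ l = μ) {z : ℤ} (hz : a ^ l - 1 ∣ z) :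
    μ ^ z = 1 := by
  obtain ⟨c, rfl⟩ := hz
  rw [zpow_mul, zpow_sub₀ h0, hμ, zpow_one, div_self h0, one_zpow]

theorem la_orb_pow {μ : K} (h0 : μ ≠ 0) {d : ℕ} (h : μ ^ ((d : ℤ) * (a - 1)) = 1) (l k : ℕ) :
    ∀ y ∈ orb a μ l k, y.1 ^ d = μ ^ d := by
  refine forall_mem_orb.2 fun i _ => ?_
  have h1 : (μ ^ d) ^ a = μ ^ d := by
    rw [mul_sub, mul_one, zpow_sub₀ h0, div_eq_one_iff_eq (zpow_ne_zero _ h0), zpow_mul] at h
    simpa only [zpow_natCast] using h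
  rw [zpow_pow_comm, zpow_pow_eq_of_zpow_eq h1]

/-- exponent of the determinant of an orbit -/
def laU (a : ℤ) (l k : ℕ) : ℤ := (∑ i ∈ Finset.range l, a ^ i) * k

theorem jdet_orb' {μ : K} (h0 : μ ≠ 0) (l k : ℕ) : jdet (orb a μ l k) = μ ^ laU a l k := by
  rw [jdet_orb h0, laU, zpow_mul, zpow_natCast]

theorem la_one {μ : K} (h0 : μ ≠ 0) {l k : ℕ} (hμ : μ ^ a ^ l = μ) (h1 : jdet (orb a μ l k) = 1) {d : ℕ}
    (hd : (Int.gcd (a ^ l - 1) (laU a l k) : ℤ) ∣ (d : ℤ) * (a - 1)) : ∀ y ∈ orb a μ l k, y.1 ^ d = μ ^ d := by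
  refine la_orb_pow h0 ?_ l k
  obtain ⟨c, hc⟩ := hd
  rw [jdet_orb' h0] at h1
  rw [hc, Int.gcd_eq_gcd_ab, zpow_mul, zpow_add₀ h0, la_zpow_eq_one h0 hμ (dvd_mul_right _ _), zpow_mul, h1]
  simp

theorem la_two {μ ν : K} (h0 : μ ≠ 0) (h0' : ν ≠ 0) {l k l' k' : ℕ} (hμ : μ ^ a ^ l = μ) (hν : ν ^ a ^ l' = ν)
    (h1 : jdet (orb a μ l k + orb a ν l' k') = 1) {d : ℕ} {z : ℤ} (h2 : a ^ l - 1 ∣ (d : ℤ) * (a - 1))
    (h3 : a ^ l' - 1 ∣ (d : ℤ) * (a - 1)) (h4 : a ^ l - 1 ∣ d - laU a l k * z)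
    (h5 : a ^ l' - 1 ∣ d + laU a l' k' * z) : ∀ y ∈ orb a μ l k + orb a ν l' k', y.1 ^ d = μ ^ d := by
  refine forall_mem_add.2 ⟨la_orb_pow h0 (la_zpow_eq_one h0 hμ h2) l k, fun y hy => ?_⟩
  rw [la_orb_pow h0' (la_zpow_eq_one h0' hν h3) l' k' y hy]
  rw [jdet_add, jdet_orb' h0, jdet_orb' h0'] at h1
  have h6 := la_zpow_eq_one h0 hμ h4
  have h7 := la_zpow_eq_one h0' hν h5
  rw [zpow_sub₀ h0, div_eq_one_iff_eq (zpow_ne_zero _ h0), zpow_natCast, zpow_mul] at h6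
  rw [zpow_add₀ h0', zpow_natCast, zpow_mul] at h7
  have h8 : (μ ^ laU a l k) ^ z * (ν ^ laU a l' k') ^ z = 1 := by rw [← mul_zpow, h1, one_zpow]
  rw [h6]
  exact mul_right_cancel₀ (zpow_ne_zero z (zpow_ne_zero _ h0')) (h7.trans h8.symm)

/-- the semisimple test -/
def laSS (a : ℤ) (d : ℕ) (T : List (ℕ × ℕ)) : Bool :=
  (T.all fun x => decide (a ^ x.1 - 1 ∣ (d : ℤ))) ||
  match T with
  | [x] => decide ((Int.gcd (a ^ x.1 - 1) (laU a x.1 x.2) : ℤ) ∣ (d : ℤ) * (a - 1))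
  | [x, y] => decide (a ^ x.1 - 1 ∣ (d : ℤ) * (a - 1)) && decide (a ^ y.1 - 1 ∣ (d : ℤ) * (a - 1)) &&
      [(d : ℤ) / laU a x.1 x.2, -((d : ℤ) / laU a y.1 y.2)].any fun z =>
        decide (a ^ x.1 - 1 ∣ d - laU a x.1 x.2 * z) && decide (a ^ y.1 - 1 ∣ d + laU a y.1 y.2 * z)
  | _ => false

theorem laSS_spec {d : ℕ} {L : List (K × ℕ × ℕ)} (hL : ∀ x ∈ L, LaOk a x) (h1 : jdet (laJ a L) = 1)
    (h : laSS a d (L.map Prod.snd) = true) : ∃ c, ∀ y ∈ laJ a L, y.1 ^ d = c := by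
  rcases Bool.or_eq_true_iff.1 h with h | h
  · refine ⟨1, fun y hy => ?_⟩
    obtain ⟨x, hx, hy⟩ := mem_laJ hy
    obtain ⟨i, -, rfl⟩ := mem_orb.1 hy
    have h2 := la_zpow_eq_one (hL x hx).1 (hL x hx).2.2.2
      (of_decide_eq_true (List.all_eq_true.1 h _ (List.mem_map_of_mem hx)))
    rw [zpow_natCast] at h2
    rw [zpow_pow_comm, h2, one_zpow]
  match L, hL, h1, h with
  | [], _, _, h => simp at h
  | [x], hL, h1, h =>
    have hx := hL x List.mem_cons_self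
    simp only [laJ, add_zero] at h1 ⊢
    exact ⟨_, la_one hx.1 hx.2.2.2 h1 (of_decide_eq_true h)⟩
  | [x, y], hL, h1, h =>
    have hx := hL x List.mem_cons_self
    have hy := hL y (List.mem_cons_of_mem _ List.mem_cons_self)
    simp only [laJ, add_zero] at h1 ⊢
    simp only [List.map_cons, List.map_nil, Bool.and_eq_true, decide_eq_true_eq, List.any_eq_true] at h
    obtain ⟨⟨h2, h3⟩, z, -, h4, h5⟩ := h
    exact ⟨_, la_two hx.1 hy.1 hx.2.2.2 hy.2.2.2 h1 h2 h3 h4 h5⟩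
  | _ :: _ :: _ :: _, _, _, h => simp at h

def laLeaf (p : ℕ) (a : ℤ) (D : List ℕ) (T : List (ℕ × ℕ)) : Bool :=
  D.any fun d => (T.all fun x => decide (p ^ Nat.clog p x.2 ∣ d)) && laSS a d T

/-- runs over all lists of pairs `(l, k)` with `∑ l k = n` -/
def laAll (f : List (ℕ × ℕ) → Bool) : ℕ → ℕ → List (ℕ × ℕ) → Bool
  | 0, n, acc => decide (n = 0) && f acc
  | fuel + 1, n, acc => if n = 0 then f acc else (List.range n).all fun l => (List.range (n / (l + 1))).all fun k =>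
      laAll f fuel (n - (l + 1) * (k + 1)) (acc ++ [(l + 1, k + 1)])

theorem laAll_spec {f : List (ℕ × ℕ) → Bool} : ∀ (T : List (ℕ × ℕ)) (fuel : ℕ) (acc : List (ℕ × ℕ)),
    (∀ x ∈ T, 0 < x.1 ∧ 0 < x.2) → laAll f fuel (laS T) acc = true → f (acc ++ T) = true
  | [], 0, acc, _, h => by simpa [laAll, laS] using h
  | [], fuel + 1, acc, _, h => by simpa [laAll, laS] using h
  | x :: T, 0, acc, hT, h => by
    have := Nat.mul_pos (hT x List.mem_cons_self).1 (hT x List.mem_cons_self).2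
    have h1 : x.1 * x.2 + laS T = 0 := of_decide_eq_true (Bool.and_eq_true_iff.1 h).1
    omega
  | (l, k) :: T, fuel + 1, acc, hT, h => by
    obtain ⟨h1, h2⟩ := hT _ List.mem_cons_self
    have h3 := Nat.mul_pos h1 h2
    obtain ⟨l, rfl⟩ := Nat.exists_eq_add_of_le' h1
    obtain ⟨k, rfl⟩ := Nat.exists_eq_add_of_le' h2
    simp only at h3
    rw [laAll, if_neg (by simp only [laS]; omega)] at h
    have h4 := List.all_eq_true.1 (List.all_eq_true.1 h l (List.mem_range.2 (by simp only [laS]; nlinarith))) k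
      (List.mem_range.2 ((Nat.le_div_iff_mul_le (by omega)).2 (by simp only [laS]; nlinarith)))
    rw [show laS ((l + 1, k + 1) :: T) - (l + 1) * (k + 1) = laS T by simp [laS]] at h4
    simpa using laAll_spec T fuel _ (fun y hy => hT y (List.mem_cons_of_mem _ hy)) h4

/-- the checker: every element order of `PSL^ε_n(q)` divides a member of `D` -/
def laChk (p : ℕ) (a : ℤ) (n : ℕ) (D : List ℕ) : Bool := laAll (laLeaf p a D) n n []

theorem laChk_spec (hinj : Function.Injective fun x : K => x ^ a) {D : List ℕ} (hc : laChk p a n D = true)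
    (h : m ∈ ESpec K p a n (· = 1)) : ∃ d ∈ D, m ∣ d := by
  obtain ⟨J, hJ, h1, h⟩ := h
  obtain ⟨L, hL, rfl, hn⟩ := la_list hinj n J hJ
  have h2 := laAll_spec (f := laLeaf p a D) (L.map Prod.snd) n [] (fun x hx => by
    obtain ⟨y, hy, rfl⟩ := List.mem_map.1 hx
    exact ⟨(hL y hy).2.1, (hL y hy).2.2.1⟩) (by rw [hn]; exact hc)
  simp only [laLeaf, List.nil_append, List.any_eq_true, Bool.and_eq_true, List.all_eq_true,
    decide_eq_true_eq] at h2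
  obtain ⟨d, hd, h3, h4⟩ := h2
  refine ⟨d, hd, (h d).2 ⟨laSS_spec hL h1 h4, fun y hy => ?_⟩⟩
  obtain ⟨x, hx, hy⟩ := mem_laJ hy
  obtain ⟨i, -, rfl⟩ := mem_orb.1 hy
  exact h3 _ (List.mem_map_of_mem hx)

end Cfsg.Agent.SpS
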