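import Mathlib
import Cfsg.Agent.SpS.Defs
import Cfsg.Agent.SpS.LA1
import Cfsg.Agent.SpS.Ar
import Cfsg.Agent.S2671

/-! Groups with the spectrum of `PSL^ε_n(q)`: element orders, primes not adjacent to `2`. -/

set_option autoImplicit false

namespace Cfsg.Agent.SpS

open Cfsg.Agent.Cl Cfsg.Agent.Cl.Cls Cfsg.Agent.NT

/-- `G` has the spectrum of `PSL^ε_n(q)`, `a = ε q`. -/
structure LA (K : Type*) [Field K] (p : ℕ) (a : ℤ) (n : ℕ) (G : Type*) [Group G] : Prop where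
  hp : p.Prime
  ac : IsAlgClosed K
  ch : CharP K p
  inj : Function.Injective fun x : K => x ^ a
  pw : ∃ f, 0 < f ∧ a.natAbs = p ^ f
  hn : 4 ≤ n
  om : ∀ m, Om G m ↔ m ∈ ESpec K p a n (· = 1)

/-- the primitive primes of `a ^ i - 1` are not adjacent to `2` -/
def laGood (a : ℤ) (n i : ℕ) : Bool :=
  (i == n || i + 1 == n) && (a % 2 == 0 ||
    (i == n && (n % 2 == 1 || ((a - 1) % 4 == 0 && (a - 1) % 2 ^ padicValNat 2 n == 0))) ||
    (i + 1 == n && n % 2 ^ padicValNat 2 (a - 1).natAbs == 0))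

/-- order of `|a|` for order `i` of `a` -/
def laNu (a : ℤ) (i : ℕ) : ℕ := if 0 < a then i else if i % 2 = 1 then 2 * i else if i % 4 = 2 then i / 2 else i

section Arith

variable {a : ℤ}

theorem specS_odd (ha : Odd a) {n : ℕ} (hn : Odd n) : Odd (specS a n) := by
  rw [specS, Int.natAbs_odd, ← Int.not_even_iff_odd, even_iff_two_dvd, ← Nat.cast_two, ← ZMod.intCast_zmod_eq_zero_iff_dvd]
  have h1 : (a : ZMod 2) = 1 := by
    obtain ⟨k, rfl⟩ := ha
    push_cast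
    rw [show (2 : ZMod 2) = 0 from rfl]; simp
  obtain ⟨k, rfl⟩ := hn
  push_cast
  simp only [h1, one_pow, Finset.sum_const, Finset.card_range, nsmul_eq_mul, mul_one]
  push_cast
  rw [show (2 : ZMod 2) = 0 from rfl]; simp

theorem specS_two_pow (ha : 2 ≤ a.natAbs) (h4 : (4 : ℤ) ∣ a - 1) {n : ℕ} (hn : Odd n) (t : ℕ) :
    ∃ w, Odd w ∧ specS a (2 ^ t * n) = 2 ^ t * w := by
  have ho : Odd a := by obtain ⟨c, hc⟩ := h4; exact ⟨2 * c, by omega⟩
  induction t with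
  | zero => exact ⟨_, specS_odd ho hn, by simp⟩
  | succ t ih =>
    obtain ⟨w, hw, h⟩ := ih
    obtain ⟨c, hc⟩ := h4.trans (by simpa using sub_dvd_pow_sub_pow a 1 (2 ^ t * n))
    refine ⟨(2 * c + 1).natAbs * w, (Int.natAbs_odd.2 ⟨c, rfl⟩).mul hw, ?_⟩
    rw [show 2 ^ (t + 1) * n = 2 * (2 ^ t * n) by ring, specS_two_mul ha, h,
      show a ^ (2 ^ t * n) + 1 = 2 * (2 * c + 1) by omega, Int.natAbs_mul]
    simp only [Int.reduceAbs]
    ring

theorem specM_odd (ha : 2 ≤ a.natAbs) (ho : Odd a) {n : ℕ} (h0 : 0 < n)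
    (h : Odd n ∨ (4 : ℤ) ∣ a - 1 ∧ (2 : ℤ) ^ padicValNat 2 n ∣ a - 1) : Odd (specM a n) := by
  rcases h with h | ⟨h4, h⟩
  · exact (specS_odd ho h).of_dvd_nat (specM_dvd_specS a n)
  obtain ⟨t, m, hm, rfl⟩ := Nat.exists_eq_two_pow_mul_odd h0.ne'
  have : Fact (Nat.Prime 2) := ⟨Nat.prime_two⟩
  rw [padicValNat.mul (by positivity) hm.pos.ne', padicValNat.prime_pow,
    padicValNat.eq_zero_of_not_dvd hm.not_two_dvd_nat, add_zero] at h
  obtain ⟨w, hw, hS⟩ := specS_two_pow ha h4 hm t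
  refine hw.of_dvd_nat ?_
  have h1 : 2 ^ t ∣ Nat.gcd (specS a (2 ^ t * m)) (a - 1).natAbs :=
    Nat.dvd_gcd (hS ▸ dvd_mul_right _ _) (Int.natCast_dvd.1 (by exact_mod_cast h))
  refine Nat.dvd_of_mul_dvd_mul_left (show 0 < 2 ^ t by positivity) ?_
  rw [← hS]
  calc 2 ^ t * specM a (2 ^ t * m) ∣ Nat.gcd (specS a (2 ^ t * m)) (a - 1).natAbs * specM a (2 ^ t * m) :=
        Nat.mul_dvd_mul_right h1 _
    _ = _ := Nat.mul_div_cancel' (Nat.gcd_dvd_left _ _)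

theorem laNu_ge {i : ℕ} (hi : 3 ≤ i) : 3 ≤ laNu a i := by
  unfold laNu; split_ifs <;> omega

theorem laNu_laNu (i : ℕ) : laNu a (laNu a i) = i := by
  unfold laNu; split_ifs <;> omega

theorem laNu_spec (ha : 2 ≤ a.natAbs) {i r : ℕ} (hi : 3 ≤ i) (hr : r.Prime)
    (h : orderOf ((a.natAbs : ℕ) : ZMod r) = laNu a i) : orderOf (a : ZMod r) = i ∧
      ∀ k, r ^ k ∣ a.natAbs ^ laNu a i - 1 → r ^ k ∣ (a ^ i - 1).natAbs := by
  have h3 := laNu_ge (a := a) hi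
  have hlt := lt_of_orderOf_eq hr (by omega) h
  obtain ⟨q, rfl | rfl⟩ := a.eq_nat_or_neg
  · rw [Int.natAbs_natCast] at h ha
    rw [laNu, if_pos (by omega)] at h ⊢
    rw [Int.natAbs_natCast, natAbs_pow_sub_one (by omega)]
    exact ⟨by rwa [Int.cast_natCast], fun _ h => h⟩
  rw [Int.natAbs_neg, Int.natAbs_natCast] at h ha
  have := Fact.mk hr
  have h0 : (q : ZMod r) ≠ 0 := fun h1 => by rw [h1, orderOf_zero] at h; omega
  have h1 : orderOf ((-(q : ℤ) : ℤ) : ZMod r) = i := by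
    rw [Int.cast_neg, Int.cast_natCast, S2671.orderOf_neg hr (by omega) _ h0, h, laNu,
      if_neg (show ¬ (0 : ℤ) < -q by omega)]
    simp only [Nat.odd_iff]
    split_ifs <;> omega
  refine ⟨h1, fun k hk => ?_⟩
  rw [Int.natAbs_neg, Int.natAbs_natCast] at hk
  rw [natAbs_neg_pow_sub_one (by omega)]
  rw [laNu, if_neg (show ¬ (0 : ℤ) < -q by omega)] at hk h
  by_cases h2 : i % 2 = 1
  · rw [if_pos h2] at hk h
    rw [if_neg (by rw [Nat.even_iff]; omega)]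
    have h4 : q ^ (2 * i) - 1 = (q ^ i + 1) * (q ^ i - 1) := by
      rw [mul_comm 2 i, pow_mul, ← Nat.sq_sub_sq, one_pow]
    rw [h4] at hk
    refine (Nat.Coprime.pow_left k ((Nat.Prime.coprime_iff_not_dvd hr).2 fun h5 => ?_)).dvd_of_dvd_mul_right hk
    have := Nat.le_of_dvd (by omega) (h ▸ (dvd_pow_sub_one_iff_orderOf_dvd (by omega) i).1 h5)
    omega
  · rw [if_neg h2] at hk
    rw [if_pos (by rw [Nat.even_iff]; omega)]
    refine hk.trans ?_
    split_ifs with h4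
    · exact Nat.pow_sub_one_dvd_pow_sub_one _ ⟨2, by omega⟩
    · exact dvd_rfl

theorem laGood_ex {n : ℕ} : laGood a n n = true ∨ laGood a n (n - 1) = true ∨ n = 0 := by
  rcases Nat.eq_zero_or_pos n with h0 | h0
  · exact Or.inr (Or.inr h0)
  have h1 : n - 1 + 1 = n := by omega
  simp only [laGood, h1, beq_self_eq_true, Bool.true_or, Bool.or_true, Bool.true_and, Bool.or_eq_true,
    beq_iff_eq, Bool.and_eq_true]
  have : Fact (Nat.Prime 2) := ⟨Nat.prime_two⟩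
  by_cases h : padicValNat 2 (a - 1).natAbs ≤ padicValNat 2 n
  · exact Or.inr (Or.inl (Or.inr (Nat.mod_eq_zero_of_dvd ((pow_dvd_pow 2 h).trans pow_padicValNat_dvd))))
  refine Or.inl (Or.inl (Or.inr ?_))
  have h2 : ∀ t, t ≤ padicValNat 2 (a - 1).natAbs → (2 : ℤ) ^ t ∣ a - 1 := fun t ht => by
    exact_mod_cast Int.natCast_dvd.2 ((pow_dvd_pow 2 ht).trans pow_padicValNat_dvd)
  by_cases h3 : n % 2 = 1
  · exact Or.inl h3
  have h4 : 1 ≤ padicValNat 2 n := one_le_padicValNat_of_dvd h0.ne' (by omega)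
  exact Or.inr ⟨Int.emod_eq_zero_of_dvd (h2 2 (by omega)), Int.emod_eq_zero_of_dvd (h2 _ (by omega))⟩

end Arith

variable {K : Type*} [Field K] {p : ℕ} {a : ℤ} {n : ℕ} {G : Type*} [Group G] [Finite G]

namespace LA

theorem dvd (h : LA K p a n G) : (p : ℤ) ∣ a := by
  obtain ⟨f, h1, h2⟩ := h.pw
  exact Int.natCast_dvd.2 (h2 ▸ dvd_pow_self p h1.ne')

theorem two_le (h : LA K p a n G) : 2 ≤ a.natAbs := by
  obtain ⟨f, h1, h2⟩ := h.pw
  exact h2 ▸ h.hp.two_le.trans (Nat.le_self_pow h1.ne' p)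

theorem eq_p (h : LA K p a n G) {r : ℕ} (hr : r.Prime) (hd : (r : ℤ) ∣ a) : r = p := by
  obtain ⟨f, -, h2⟩ := h.pw
  exact (Nat.prime_dvd_prime_iff_eq hr h.hp).1 (hr.dvd_of_dvd_pow (h2 ▸ Int.natCast_dvd.1 hd))

theorem root (h : LA K p a n G) {m l : ℕ} (hl : 0 < l) (hm : m ∣ (a ^ l - 1).natAbs) :
    ∃ μ : K, μ ≠ 0 ∧ orderOf μ = m ∧ μ ^ a ^ l = μ := by
  have := h.ac
  have := h.ch
  have := Fact.mk h.hp
  obtain ⟨μ, h1, h2⟩ := exists_orderOf_eq (K := K) p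
    ((coprime_natAbs_pow_sub_one h.dvd hl).coprime_dvd_left hm)
  exact ⟨μ, h1, h2, (zpow_pow_eq_self_iff h1 l).2 (h2 ▸ hm)⟩

theorem om1 (h : LA K p a n G) {m l : ℕ} (hl : 0 < l) (hn : l ≤ n) (hm : m ∣ (a ^ l - 1).natAbs)
    (hc : m.Coprime (a - 1).natAbs) : Om G m := by
  obtain ⟨μ, h1, rfl, h3⟩ := h.root hl hm
  rw [h.om, ← Nat.add_sub_cancel' hn]
  exact mem_ESpec_orb_ones h1 hl h3 _ (jdet_orb_eq_one h1 (dvd_specS_of_coprime hm hc) _) hc

theorem om2 (h : LA K p a n G) {m l : ℕ} (hl : 0 < l) (hn : l + 2 ≤ n) (hm : m ∣ (a ^ l - 1).natAbs) :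
    Om G m := by
  obtain ⟨μ, h1, rfl, h3⟩ := h.root hl hm
  obtain ⟨j, rfl⟩ := Nat.exists_eq_add_of_le hn
  have hO := isJD_orb_one h1 h3
  have h4 := inv_ne_zero hO.jdet_ne_zero
  have h5 : (jdet (orb a μ l 1))⁻¹ ^ a = (jdet (orb a μ l 1))⁻¹ := by rw [inv_zpow, hO.jdet_zpow]
  rw [h.om]
  refine mem_ESpec (((hO.add (isJD_singleton h4 h5 one_pos)).add (isJD_ones (j + 1))).cast (by omega))
    (by rw [jdet_add, jdet_add, jdet_singleton, jdet_replicate]; simp [hO.jdet_ne_zero]) fun t => ?_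
  rw [jOrd_iff_of_eq_one fun c h => by simpa using (h (1, 1) (by simp)).symm, forall_mem_add,
    forall_mem_add, forall_orb_iff hl, and_iff_left (forall_ones _ t)]
  simp only [Multiset.mem_singleton, forall_eq, Nat.clog_one_right, pow_zero, one_dvd, and_true]
  refine (and_iff_left_of_imp fun h6 => ?_).symm
  rw [orderOf_dvd_iff_pow_eq_one] at h6 ⊢
  rw [inv_pow, jdet_orb' h1, zpow_pow_comm, h6, one_zpow, inv_one]

theorem om_p (h : LA K p a n G) : Om G p := by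
  have h4 := h.hn
  refine Om.of_dvd ((h.om _).2 (mem_ESpec_block (k := n) (by omega) rfl)) (dvd_pow_self _ ?_)
  exact (Nat.clog_pos h.hp.one_lt (by omega)).ne'

theorem prime (h : LA K p a n G) {r : ℕ} (hr : r.Prime) (ho : Om G r) :
    (r : ℤ) ∣ a ∨ ∃ l < n, (r : ℤ) ∣ a ^ (l + 1) - 1 := by
  by_cases hrp : r = p
  · exact Or.inl (hrp ▸ h.dvd)
  obtain ⟨J, hJ, -, h1⟩ := (h.om r).1 ho
  obtain ⟨μ, h2, h3⟩ := exists_dvd_orderOf hJ h1 h.hp hr hrp dvd_rfl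
  have h4 := hJ.per_pos h.inj h2
  have h5 := hJ.per_le h.inj h2
  refine Or.inr ⟨per a μ - 1, by omega, ?_⟩
  rw [Nat.sub_add_cancel h4]
  exact Int.natCast_dvd.2 (h3.trans (orderOf_dvd_per (hJ.ne_zero_of_mem h2)))

theorem ub (h : LA K p a n G) {D : List ℕ} (hc : laChk p a n D = true) : Ub G D := fun g =>
  laChk_spec h.inj hc ((h.om _).1 ⟨g, rfl⟩)

theorem ne_p (h : LA K p a n G) {r i : ℕ} (hr : r.Prime) (hi : 0 < i) (ho : orderOf (a : ZMod r) = i) :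
    r ≠ p := by
  rintro rfl
  have := Fact.mk hr
  rw [(ZMod.intCast_zmod_eq_zero_iff_dvd a r).2 h.dvd, orderOf_zero] at ho
  omega

theorem nonadj (h : LA K p a n G) {r i : ℕ} (hr : r.Prime) (hg : laGood a n i = true)
    (ho : orderOf (a : ZMod r) = i) : ¬ Om G (2 * r) := by
  intro h2r
  have h4 := h.hn
  simp only [laGood, Bool.and_eq_true, Bool.or_eq_true, beq_iff_eq] at hg
  obtain ⟨hi, hg⟩ := hg
  obtain ⟨J, hJ, h1, hm⟩ := (h.om _).1 h2r
  obtain ⟨μ, hμ, h3⟩ := exists_dvd_orderOf hJ hm h.hp hr (h.ne_p hr (by omega) ho) (dvd_mul_left _ _)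
  have h0 := hJ.ne_zero_of_mem hμ
  have h5 := hJ.per_pos h.inj hμ
  have h6 := hJ.per_le h.inj hμ
  have h7 : per a μ = i := Nat.eq_of_dvd_of_lt_two_mul h5.ne' (ho ▸ orderOf_zmod_dvd_per h0 h3) (by omega)
  have key : ∀ d, Odd d → ¬ 2 * r ∣ d := fun d hd h => hd.not_two_dvd_nat ((dvd_mul_right _ _).trans h)
  have hev : ∀ l, 0 < l → a % 2 = 0 → Odd (a ^ l - 1).natAbs := fun l hl h =>
    Int.natAbs_odd.2 ((Int.even_pow.2 ⟨Int.even_iff.2 h, hl.ne'⟩).sub_odd odd_one)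
  by_cases hin : i = n
  · refine key _ ?_ (dvd_specM_of_per h.inj hJ hm h1 hμ (by omega))
    by_cases h8 : a % 2 = 0
    · exact (hev n (by omega) h8).of_dvd_nat
        ((specM_dvd_specS a n).trans (Dvd.intro _ (specS_mul a n)))
    refine specM_odd h.two_le (Int.odd_iff.2 (by omega)) (by omega) ?_
    rcases hg with (hg | ⟨-, hg | ⟨h9, h10⟩⟩) | ⟨hg, -⟩
    · exact absurd hg h8
    · exact Or.inl (Nat.odd_iff.2 hg)
    · exact Or.inr ⟨Int.dvd_of_emod_eq_zero h9, Int.dvd_of_emod_eq_zero h10⟩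
    · omega
  obtain rfl : i + 1 = n := by omega
  obtain ⟨k, hk, hx⟩ := mem_unmult.1 hμ
  obtain ⟨J', n', e1, hJ', e2⟩ := la_split h.inj hJ hx
  simp only [h7] at e1 e2
  obtain rfl : k = 1 := by
    by_contra hc
    have := Nat.mul_le_mul_left i (show 2 ≤ k by omega)
    omega
  obtain rfl : n' = 1 := by omega
  have hne : J' ≠ 0 := fun hc => by simpa [hc] using hJ'.sum
  obtain ⟨y, hy⟩ := Multiset.exists_mem_of_ne_zero hne
  obtain ⟨J'', n'', e3, hJ'', e4⟩ := la_split h.inj hJ' hy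
  have h8 := hJ'.per_pos h.inj (hJ'.mem_unmult hy)
  have h9 := hJ'.pos y hy
  have h10 := Nat.mul_pos h8 h9
  obtain rfl : n'' = 0 := by omega
  have e5 := Nat.eq_one_of_mul_eq_one_right (show per a y.1 * y.2 = 1 by omega)
  have e6 := Nat.eq_one_of_mul_eq_one_left (show per a y.1 * y.2 = 1 by omega)
  have hν := zpow_pow_per (a := a) y.1
  rw [la_zero hJ'', add_zero, e5, e6] at e3
  rw [e5] at hν
  have hμ' := zpow_pow_per (a := a) μ
  rw [h7] at hμ'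
  subst e3 e1
  -- `a - 1 = 2 ^ s * w`, `2 ^ s ∣ i + 1`
  obtain ⟨s, w, hw, e7, e8, e9⟩ : ∃ (s : ℕ) (w : ℤ), Odd w ∧ a - 1 = 2 ^ s * w ∧ 2 ^ s ∣ i + 1 ∧
      Odd (specS a i) := by
    by_cases h11 : a % 2 = 0
    · exact ⟨0, a - 1, Int.odd_iff.2 (by omega), by simp, by simp,
        (hev i (by omega) h11).of_dvd_nat (Dvd.intro _ (specS_mul a i))⟩
    rcases hg with (hg | ⟨hg, -⟩) | ⟨-, hg⟩
    · exact absurd hg h11
    · omega
    have h12 := h.two_le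
    obtain ⟨s, w, hw, e⟩ := Nat.exists_eq_two_pow_mul_odd (n := (a - 1).natAbs) (by omega)
    have : Fact (Nat.Prime 2) := ⟨Nat.prime_two⟩
    rw [e, padicValNat.mul (by positivity) hw.pos.ne', padicValNat.prime_pow,
      padicValNat.eq_zero_of_not_dvd hw.not_two_dvd_nat, add_zero] at hg
    have h13 := Nat.dvd_of_mod_eq_zero hg
    have h14 : Odd i := by
      rcases s with _ | s
      · obtain ⟨c, rfl⟩ := hw
        omega
      · obtain ⟨c, hc⟩ := (dvd_pow_self 2 s.succ_ne_zero).trans h13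
        exact ⟨c - 1, by omega⟩
    have h15 := specS_odd (Int.odd_iff.2 (by omega : a % 2 = 1)) h14
    rcases Int.natAbs_eq_iff.1 e with e | e
    · exact ⟨s, w, by exact_mod_cast hw, by exact_mod_cast e, h13, h15⟩
    · exact ⟨s, -w, Odd.neg (by exact_mod_cast hw), by rw [e]; push_cast; ring, h13, h15⟩
  set S : ℤ := ∑ j ∈ Finset.range i, a ^ j with hS
  have e10 : a ^ i - 1 = S * (a - 1) := (geom_sum_mul a i).symm
  obtain ⟨z, hz, e11⟩ : ∃ z : ℤ, w ∣ z ∧ ((specS a i * w.natAbs : ℕ) : ℤ) = S * z := by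
    rw [specS, ← Int.natAbs_mul, Int.natCast_natAbs]
    rcases abs_cases (S * w) with e | e
    · exact ⟨w, dvd_rfl, e.1⟩
    · exact ⟨-w, (dvd_neg).2 dvd_rfl, by rw [e.1]; ring⟩
  refine key (specS a i * w.natAbs) (e9.mul (Int.natAbs_odd.2 hw)) ((hm _).2 ⟨⟨_, la_two (z := z) h0
    (hJ'.ne_zero y hy) hμ' hν h1 ?_ ?_ ?_ ?_⟩, fun x hx => ?_⟩)
  · rw [e11, e10]
    exact mul_dvd_mul (dvd_mul_right _ _) dvd_rfl
  · rw [pow_one]
    exact dvd_mul_left _ _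
  · rw [e11, laU]
    simp [← hS]
  · have e12 : (2 : ℤ) ^ s ∣ S + 1 := by
      have h11 : (2 : ℤ) ^ s ∣ S - i := by
        rw [hS, show (i : ℤ) = ∑ j ∈ Finset.range i, (1 : ℤ) ^ j by simp, ← Finset.sum_sub_distrib]
        exact Finset.dvd_sum fun j _ => (Dvd.intro _ e7.symm).trans (sub_dvd_pow_sub_pow a 1 j)
      have h12 : (2 : ℤ) ^ s ∣ i + 1 := by exact_mod_cast e8
      rw [show S + 1 = S - i + (i + 1) by ring]
      exact h11.add h12
    rw [e11, pow_one, e7, laU]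
    simp only [Finset.range_one, Finset.sum_singleton, pow_zero, Nat.cast_one, mul_one, one_mul]
    rw [show S * z + z = (S + 1) * z by ring]
    exact mul_dvd_mul e12 hz
  · rcases Multiset.mem_add.1 hx with hx | hx <;> obtain ⟨j, -, rfl⟩ := mem_orb.1 hx <;> simp

theorem om_pow (h : LA K p a n G) {r i k : ℕ} (hr : r.Prime) (hi : 2 ≤ i) (hn : i ≤ n)
    (ho : orderOf (a : ZMod r) = i) (hk : r ^ k ∣ (a ^ i - 1).natAbs) : Om G (r ^ k) := by
  refine h.om1 (by omega) hn hk (Nat.Coprime.pow_left _ ((Nat.Prime.coprime_iff_not_dvd hr).2 fun h1 => ?_))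
  rw [← pow_one a] at h1
  have := Nat.le_of_dvd one_pos (dvd_natAbs_pow_sub_one_iff.1 h1)
  omega

theorem good_le (h : LA K p a n G) {i : ℕ} (hg : laGood a n i = true) : 3 ≤ i ∧ i ≤ n := by
  have := h.hn
  simp only [laGood, Bool.and_eq_true, Bool.or_eq_true, beq_iff_eq] at hg
  omega

theorem odd (h : LA K p a n G) : ∃ r : ℕ, r.Prime ∧ r ≠ 2 ∧ Om G r ∧ ¬ Om G (2 * r) := by
  have h4 := h.hn
  have h2 := h.two_le
  obtain ⟨i, hg, hi⟩ : ∃ i, laGood a n i = true ∧ ¬ (a.natAbs = 2 ∧ laNu a i = 6) := by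
    by_cases h1 : a.natAbs = 2
    · have h3 : a % 2 = 0 := by omega
      by_cases h5 : laNu a n = 6
      · refine ⟨n - 1, by simp [laGood, h3, show n - 1 + 1 = n by omega], fun h6 => ?_⟩
        have := laNu_laNu (a := a) n
        have := laNu_laNu (a := a) (n - 1)
        rw [h5] at *
        rw [h6.2] at this
        omega
      · exact ⟨n, by simp [laGood, h3], fun h6 => h5 h6.2⟩
    · rcases laGood_ex (a := a) (n := n) with h5 | h5 | h5
      · exact ⟨_, h5, fun h6 => h1 h6.1⟩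
      · exact ⟨_, h5, fun h6 => h1 h6.1⟩
      · omega
  obtain ⟨h5, h6⟩ := h.good_le hg
  have h7 := laNu_ge (a := a) h5
  obtain ⟨r, hr, ho⟩ := zsigmondy_orderOf (a := a.natAbs) (n := laNu a i) (by omega) (by omega) hi (by omega)
  have h8 := lt_of_orderOf_eq hr (by omega) ho
  have h9 := (laNu_spec h2 h5 hr ho).1
  refine ⟨r, hr, by omega, ?_, h.nonadj hr hg h9⟩
  simpa using h.om_pow (k := 1) hr (by omega) h6 h9 (by simpa using dvd_natAbs_pow_sub_one_iff.2 h9.dvd)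

theorem tab (h : LA K p a n G) {W i : ℕ} (hW : W ∣ arU) (hg : laGood a n i = true)
    (hb : ∀ r k : ℕ, r.Prime → r ≠ 2 → 0 < k → Om G (r ^ k) → ¬ Om G (2 * r) → r ^ k ∣ W) :
    ∃ z, (a.natAbs, laNu a i, z) ∈ arTab ∧ z ∣ W := by
  obtain ⟨h5, h6⟩ := h.good_le hg
  have h7 := laNu_ge (a := a) h5
  refine mem_arTab hW h.two_le h7 fun r k hr ho hk hd => ?_
  have h8 := lt_of_orderOf_eq hr (by omega) ho
  obtain ⟨h9, h10⟩ := laNu_spec h.two_le h5 hr ho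
  exact hb r k hr (by omega) hk (h.om_pow hr (by omega) h6 h9 (h10 k hd)) (h.nonadj hr hg h9)

end LA

end Cfsg.Agent.SpS
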