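import Mathlib
import Cfsg.Agent.SpS.Defs
import Cfsg.Agent.GT.FrobeniusBasic

/-! Sylow numerics (S3586/S3535, piece SN).  See `stubs/Cfsg/Agent/SpS/PLAN.md`. -/

set_option autoImplicit false
set_option linter.unusedSectionVars false
set_option linter.unusedVariables false

namespace Cfsg.Agent.SpS

open Subgroup

variable {G X : Type*} [Group G] [Finite G] [Group X] [Finite X] {p : ℕ}

theorem sylow_of_prime {r : ℕ} [Fact r.Prime] {x : X} (hx : orderOf x = r)
    (h2 : ¬ r ^ 2 ∣ Nat.card X) : ∃ R : Sylow r X, (R : Subgroup X) = zpowers x := by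
  have hc : Nat.card (zpowers x) = r := by rw [Nat.card_zpowers, hx]
  have hp : IsPGroup r (zpowers x) := IsPGroup.of_card (n := 1) (by rw [hc, pow_one])
  refine ⟨hp.toSylow fun h => h2 ?_, rfl⟩
  rw [← (zpowers x).card_mul_index, hc, pow_two]
  exact Nat.mul_dvd_mul_left r h

namespace SN

theorem cen_zpowers (x : X) : centralizer (zpowers x : Set X) = Ce x := by
  ext g
  simp only [mem_centralizer_iff, Set.mem_singleton_iff, forall_eq, SetLike.mem_coe]
  refine ⟨fun h => h x (mem_zpowers x), fun h y hy => ?_⟩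
  obtain ⟨k, rfl⟩ := mem_zpowers_iff.1 hy
  exact (show Commute x g from h).zpow_left k

theorem mem_Ce {x g : X} : g ∈ Ce x ↔ Commute x g := by
  simp only [mem_centralizer_iff, Set.mem_singleton_iff, forall_eq]
  rfl

theorem not_le (hs : IsSimpleGroup X) (ha : ¬ IsMulCommutative X) {r : ℕ} [Fact r.Prime]
    (h1 : r ∣ Nat.card X) (R : Sylow r X) :
    ¬ normalizer ((R : Subgroup X) : Set X) ≤ centralizer ((R : Subgroup X) : Set X) := by
  intro h
  have hc := MonoidHom.ker_transferSylow_isComplement' R h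
  rcases hs.eq_bot_or_eq_top_of_normal (MonoidHom.transferSylow R h).ker inferInstance with e | e
  · rw [e, isComplement'_bot_left] at hc
    refine ha ⟨⟨fun a b => ?_⟩⟩
    have ha' : a ∈ (R : Subgroup X) := hc ▸ mem_top a
    have hb' : b ∈ (R : Subgroup X) := hc ▸ mem_top b
    exact h (le_normalizer hb') a ha'
  · have := MonoidHom.not_dvd_card_ker_transferSylow R h
    rw [e, card_top] at this
    exact this h1

end SN

theorem sylNum (hs : IsSimpleGroup X) (ha : ¬ IsMulCommutative X) {r : ℕ} (hr : r.Prime)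
    (h1 : r ∣ Nat.card X) (h2 : ¬ r ^ 2 ∣ Nat.card X) :
    ∃ (x y : X) (c e : ℕ), orderOf x = r ∧ Nat.card (Ce x) = r * c ∧
      Nat.card (normalizer (zpowers x : Set X)) = r * c * e ∧ 1 < e ∧ e ∣ r - 1 ∧
      r * c * e ∣ Nat.card X ∧ (Nat.card X / (r * c * e)) % r = 1 ∧
      (∀ s : ℕ, s.Prime → s ∣ c → s ≠ r ∧ Om X (r * s)) ∧
      y ∈ normalizer (zpowers x : Set X) ∧ (∀ j, Commute x (y ^ j) ↔ e ∣ j) ∧
      (c = 1 → orderOf y = e) := by
  haveI := Fact.mk hr
  obtain ⟨x, hx⟩ := exists_prime_orderOf_dvd_card' r h1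
  obtain ⟨R, hR⟩ := sylow_of_prime hx h2
  have hc : Nat.card (zpowers x) = r := by rw [Nat.card_zpowers, hx]
  have hPC : zpowers x ≤ Ce x := by
    rw [zpowers_le, SN.mem_Ce]
  obtain ⟨c, hcc⟩ : r ∣ Nat.card (Ce x) := hc ▸ card_dvd_of_le hPC
  let φ := (zpowers x).normalizerMonoidHom
  have hker : ∀ g : normalizer (zpowers x : Set X), φ g = 1 ↔ Commute x g := fun g => by
    rw [← MonoidHom.mem_ker, normalizerMonoidHom_ker, mem_subgroupOf, SN.cen_zpowers, SN.mem_Ce]
  haveI : IsCyclic (MulAut (zpowers x)) := by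
    haveI : IsCyclic (ZMod (Nat.card (zpowers x)))ˣ := by
      rw [hc]
      infer_instance
    exact isCyclic_of_injective (IsCyclic.mulAutMulEquiv (zpowers x)).toMonoidHom
      (IsCyclic.mulAutMulEquiv (zpowers x)).injective
  obtain ⟨⟨_, y, rfl⟩, hy⟩ := IsCyclic.exists_generator (α := φ.range)
  have he : orderOf (φ y) = Nat.card φ.range := by
    rw [← orderOf_eq_card_of_forall_mem_zpowers hy]
    exact (Subgroup.orderOf_mk _ _).symm
  have hN : Nat.card (normalizer (zpowers x : Set X)) = r * c * orderOf (φ y) := by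
    rw [← φ.ker.card_mul_index, index_ker, he, ← hcc, normalizerMonoidHom_ker, ← SN.cen_zpowers]
    congr 1
    exact Nat.card_congr (subgroupOfEquivOfLe (centralizer_le_normalizer _)).toEquiv
  have hj : ∀ j, Commute x ((y : X) ^ j) ↔ orderOf (φ y) ∣ j := fun j => by
    rw [orderOf_dvd_iff_pow_eq_one, ← map_pow, hker]
    rfl
  have he1 : 1 < orderOf (φ y) := by
    by_contra hlt
    have h0 := orderOf_pos (φ y)
    have h1' : Nat.card φ.range = 1 := by omega
    rw [card_eq_one, MonoidHom.range_eq_bot_iff] at h1'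
    refine SN.not_le hs ha h1 R fun g hg => ?_
    rw [hR] at hg ⊢
    rw [SN.cen_zpowers, SN.mem_Ce]
    exact (hker ⟨g, hg⟩).1 (by rw [h1']; rfl)
  refine ⟨x, y, c, orderOf (φ y), hx, hcc, hN, he1, ?_, ?_, ?_, ?_, y.2, hj, ?_⟩
  · have := orderOf_dvd_natCard (φ y)
    rwa [IsCyclic.card_mulAut, hc, Nat.totient_prime hr] at this
  · rw [← hN]
    exact card_subgroup_dvd_card _
  · rw [← hN, ← (normalizer (zpowers x : Set X)).card_mul_index,
      Nat.mul_div_cancel_left _ Nat.card_pos]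
    have := card_sylow_modEq_one r X
    rw [R.card_eq_index_normalizer, ← R.coe_coe, hR] at this
    rw [this, Nat.mod_eq_of_lt hr.one_lt]
  · intro s hs' hsc
    have hne : s ≠ r := by
      rintro rfl
      refine h2 (Dvd.dvd.trans ?_ (card_subgroup_dvd_card (Ce x)))
      rw [hcc, pow_two]
      exact Nat.mul_dvd_mul_left _ hsc
    haveI := Fact.mk hs'
    obtain ⟨z, hz⟩ := exists_prime_orderOf_dvd_card' (G := Ce x) s (hcc ▸ hsc.mul_left r)
    refine ⟨hne, Om.mul (SN.mem_Ce.1 z.2) hx.symm.dvd ?_ ((Nat.coprime_primes hr hs').2 hne.symm)⟩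
    rw [Subgroup.orderOf_coe, hz]
  · rintro rfl
    refine Nat.dvd_antisymm (orderOf_dvd_of_pow_eq_one ?_)
      ((hj _).1 (by rw [pow_orderOf_eq_one]; exact Commute.one_right x))
    by_contra hne
    have hPe : zpowers x = Ce x := eq_of_le_of_card_ge hPC (by rw [hcc, hc, mul_one])
    have hm : (y : X) ^ orderOf (φ y) ∈ zpowers x :=
      hPe.ge (SN.mem_Ce.2 ((hj _).2 (Nat.dvd_refl _)))
    obtain ⟨k, hk⟩ := mem_zpowers_iff.1 (mem_zpowers_of_prime_card (G := zpowers x) hc
      (g := ⟨_, hm⟩) (g' := ⟨x, mem_zpowers x⟩) fun e => hne (congrArg Subtype.val e))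
    have hk' : ((y : X) ^ orderOf (φ y)) ^ k = x := congrArg Subtype.val hk
    have : Commute x ((y : X) ^ 1) := by
      rw [pow_one]
      conv_lhs => rw [← hk']
      exact ((Commute.refl (y : X)).pow_left _).zpow_left _
    have := Nat.le_of_dvd one_pos ((hj 1).1 this)
    omega

theorem free_dvd {R Y : Subgroup X} (hY : Y ≤ normalizer (R : Set X))
    (hf : ∀ y ∈ Y, ∀ x ∈ R, Commute x y → x = 1 ∨ y = 1) : Nat.card Y ∣ Nat.card R - 1 := by
  letI := MulDistribMulAction.compHom R (R.normalizerMonoidHom.comp (inclusion hY))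
  refine GT.Frob.card_dvd_card_sub_one_of_free (A := Y) (1 : R) (fun a => smul_one a)
    fun a x hx h => ?_
  have h' : (a : X) * x * (a : X)⁻¹ = x := congrArg Subtype.val h
  rcases hf a a.2 x x.2 (mul_inv_eq_iff_eq_mul.1 h').symm with e | e
  · exact absurd (Subtype.ext e) hx
  · exact Subtype.ext e

open Inv.Fz in
theorem se_index {r : ℕ} [Fact r.Prime] (R : Sylow r X) {M : Subgroup X}
    (hN : normalizer ((R : Subgroup X) : Set X) ≤ M) (h : ∀ x ∈ (R : Subgroup X), x ≠ 1 → Ce x ≤ M)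
    (ha : IsMulCommutative (R : Subgroup X)) :
    M.index % Nat.card (R : Subgroup X) = 1 % Nat.card (R : Subgroup X) := by
  have hRM : (R : Subgroup X) ≤ M := le_normalizer.trans hN
  have hS := isSylIn_sylow R hRM
  have key : Nat.card (R : Subgroup X) ∣ Nat.card (X ⧸ M) - 1 := by
    refine GT.Frob.card_dvd_card_sub_one_of_free (A := (R : Subgroup X))
      ((1 : X) : X ⧸ M) (fun a => ?_) fun a q hq hf => ?_
    · change (((a : X) * 1 : X) : X ⧸ M) = _
      rw [QuotientGroup.eq]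
      simpa using hRM a.2
    · obtain ⟨g, rfl⟩ := QuotientGroup.mk_surjective q
      by_contra hne
      have hne' : (a : X) ≠ 1 := fun e => hne (Subtype.ext e)
      change (((a : X) * g : X) : X ⧸ M) = _ at hf
      rw [eq_comm, QuotientGroup.eq, ← mul_assoc] at hf
      have hp : IsPGroup r (cj g⁻¹ (zpowers (a : X))) :=
        isPGroup_cj (R.2.to_le (zpowers_le.2 a.2)) _
      obtain ⟨m, hm, hle⟩ := hS.exists_cj_le hp (by
        rw [cj_zpowers, zpowers_le, inv_inv]; exact hf)
      rw [cj_cj, cj_zpowers, zpowers_le] at hle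
      set u := m * g⁻¹ with hu
      have hRM' : cj u⁻¹ (R : Subgroup X) ≤ M := by
        refine le_trans (fun z hz => ?_) (h a a.2 hne')
        rw [mem_cj, inv_inv] at hz
        rw [SN.mem_Ce]
        have e : (u * a * u⁻¹) * (u * z * u⁻¹) = (u * z * u⁻¹) * (u * a * u⁻¹) :=
          congrArg Subtype.val (ha.is_comm.comm (⟨_, hle⟩ : (R : Subgroup X)) ⟨_, hz⟩)
        rw [conj_mul, conj_mul, mul_left_inj, mul_right_inj] at e
        exact e
      obtain ⟨m', hm', e⟩ := hS.exists_cj_eq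
        (hS.of_card_ge (isPGroup_cj R.2 _) hRM' (card_cj _ _).ge)
      rw [cj_cj, cj_eq_iff] at e
      have h3 : m'⁻¹ * (m' * u⁻¹) * m ∈ M := M.mul_mem (M.mul_mem (M.inv_mem hm') (hN e)) hm
      have h4 : m'⁻¹ * (m' * u⁻¹) * m = g := by rw [hu]; group
      rw [h4] at h3
      exact hq (QuotientGroup.eq.2 (by simpa using h3))
  have h0 : 1 ≤ M.index := Nat.pos_of_ne_zero M.index_ne_zero_of_finite
  exact ((Nat.modEq_iff_dvd' h0).2 key).symm

theorem ti_index {r : ℕ} [Fact r.Prime] (R : Sylow r X)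
    (h : ∀ x ∈ (R : Subgroup X), x ≠ 1 → Ce x ≤ normalizer ((R : Subgroup X) : Set X))
    (ha : IsMulCommutative (R : Subgroup X)) :
    (normalizer ((R : Subgroup X) : Set X)).index % Nat.card (R : Subgroup X) =
      1 % Nat.card (R : Subgroup X) :=
  se_index R le_rfl h ha

end Cfsg.Agent.SpS
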