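import Mathlib
import Cfsg.Agent.SpS.Defs
import Cfsg.Agent.SpS.SN

/-! S3586/S3535, piece KB: two orders are excluded by a TI count. -/

set_option autoImplicit false
set_option linter.unusedSectionVars false
set_option linter.unusedVariables false

namespace Cfsg.Agent.SpS

open Subgroup

variable {G X : Type*} [Group G] [Finite G] [Group X] [Finite X] {p : ℕ}

namespace KB

variable {r : ℕ} [Fact r.Prime] (R : Sylow r X)

theorem dvd_ord {Y : Subgroup X} (hY : IsPGroup r Y) {x : X} (hx : x ∈ Y) (h1 : x ≠ 1) :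
    r ∣ orderOf x := by
  obtain ⟨k, hk⟩ := IsPGroup.iff_orderOf.1 hY ⟨x, hx⟩
  rw [Subgroup.orderOf_mk] at hk
  rcases k with _ | k
  · exact absurd (orderOf_eq_one_iff.1 hk) h1
  · rw [hk]; exact dvd_pow_self r (Nat.succ_ne_zero k)

theorem ndvd {s : ℕ} (hs : s.Prime) (hc : r.Coprime s) (hn : ¬ Om X (r * s)) {x : X}
    (hx : x ∈ (R : Subgroup X)) (h1 : x ≠ 1) : (Nat.card (Ce x)).Coprime s := by
  rw [Nat.coprime_comm, hs.coprime_iff_not_dvd]
  intro hd
  obtain ⟨⟨y, hy⟩, e⟩ := Om.of_prime hs hd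
  rw [Subgroup.orderOf_mk] at e
  exact hn (Om.mul (show Commute y x from mem_centralizer_singleton_iff.1 hy).symm
    (dvd_ord R.isPGroup' hx h1) e.symm.dvd hc)

theorem free {s : ℕ} (hs : s.Prime) (hc : r.Coprime s) (hn : ¬ Om X (r * s)) {k : ℕ}
    (hd : s ^ k ∣ Nat.card (normalizer ((R : Subgroup X) : Set X))) :
    s ^ k ∣ Nat.card (R : Subgroup X) - 1 := by
  haveI := Fact.mk hs
  obtain ⟨Y, hY⟩ := Sylow.exists_subgroup_card_pow_prime s hd
  have e := card_map_of_injective (K := Y) (normalizer ((R : Subgroup X) : Set X)).subtype_injective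
  rw [← hY, ← e]
  refine free_dvd (map_subtype_le _) fun y hy x hx c => by_contra fun k => hn ?_
  push Not at k
  exact Om.mul c (dvd_ord R.isPGroup' hx k.1) (dvd_ord (IsPGroup.of_card (e.trans hY)) hy k.2) hc

theorem norm_of {C : Subgroup X} (hle : (R : Subgroup X) ≤ C) {m : ℕ}
    (hd : Nat.card C ∣ Nat.card (R : Subgroup X) * m) (hm : ∀ d, d ∣ m → d % r = 1 % r → d = 1) :
    C ≤ normalizer ((R : Subgroup X) : Set X) := by
  have h1 : ((R.subtype hle : Sylow r C) : Subgroup C).index ∣ m := by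
    rw [← card_mul_index ((R.subtype hle : Sylow r C) : Subgroup C), Sylow.coe_subtype,
      Nat.card_congr (subgroupOfEquivOfLe hle).toEquiv] at hd
    exact Nat.dvd_of_mul_dvd_mul_left Nat.card_pos hd
  have h2 := hm _ ((R.subtype hle).card_dvd_index.trans h1) (card_sylow_modEq_one r C)
  haveI := (Nat.card_eq_one_iff_unique.1 h2).1
  have h3 := Sylow.normal_of_subsingleton (R.subtype hle)
  rw [Sylow.coe_subtype] at h3
  exact (normal_subgroupOf_iff_le_normalizer hle).1 h3

theorem split {m a b : ℕ} (h : m ∣ 2 ^ a * 3 ^ b) : ∃ i ≤ a, ∃ j ≤ b, m = 2 ^ i * 3 ^ j := by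
  obtain ⟨u, v, hu, hv, rfl⟩ := (Nat.dvd_mul).1 h
  obtain ⟨i, hi, rfl⟩ := (Nat.dvd_prime_pow Nat.prime_two).1 hu
  obtain ⟨j, hj, rfl⟩ := (Nat.dvd_prime_pow Nat.prime_three).1 hv
  exact ⟨i, hi, j, hj, rfl⟩

theorem d27 {r : ℕ} (hr : r = 5 ∨ r = 7) (d : ℕ) (h : d ∣ 27) (h1 : d % r = 1 % r) : d = 1 := by
  obtain ⟨j, hj, rfl⟩ := (Nat.dvd_prime_pow Nat.prime_three (m := 3)).1 h
  rcases hr with rfl | rfl <;> interval_cases j <;> simp_all

theorem card_R {k m : ℕ} (hc : Nat.card X = r ^ k * m) (hm : ¬ r ∣ m) :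
    Nat.card (R : Subgroup X) = r ^ k := by
  have h0 : m ≠ 0 := fun e => hm (e ▸ dvd_zero r)
  rw [R.card_eq_multiplicity, hc, Nat.factorization_mul (pow_pos (Fact.out : r.Prime).pos k).ne' h0,
    Finsupp.add_apply, Nat.factorization_eq_zero_of_not_dvd hm,
    Nat.Prime.factorization_pow Fact.out, Finsupp.single_eq_same, add_zero]

theorem le_Ce (ha : IsMulCommutative (R : Subgroup X)) {x : X} (hx : x ∈ (R : Subgroup X)) :
    (R : Subgroup X) ≤ Ce x := fun y hy => mem_centralizer_singleton_iff.2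
  (congrArg Subtype.val (ha.is_comm.comm ⟨y, hy⟩ ⟨x, hx⟩))

end KB

open KB

theorem Sf.kJ2a (h : Sf G X) (hc : Nat.card X = 604800) (n1 : ¬ Om G 10) (n2 : ¬ Om G 35) : False := by
  haveI : Fact (Nat.Prime 5) := ⟨by norm_num⟩
  obtain ⟨R⟩ : Nonempty (Sylow 5 X) := inferInstance
  have o1 : ¬ Om X (5 * 2) := fun k => n1 (h.om k)
  have o2 : ¬ Om X (5 * 7) := fun k => n2 (h.om k)
  have cR : Nat.card (R : Subgroup X) = 5 ^ 2 := card_R R (m := 24192) hc (by norm_num)
  have ha : IsMulCommutative (R : Subgroup X) := IsPGroup.isMulCommutative_of_card_eq_prime_sq cR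
  have hi := ti_index R (fun x hx h1 => norm_of R (le_Ce R ha hx) (m := 27) (by
    have h2 := card_subgroup_dvd_card (Ce x)
    rw [hc, show 604800 = 5 ^ 2 * 27 * 7 * 2 ^ 7 by norm_num] at h2
    rw [cR]
    exact (ndvd R (by norm_num) (by norm_num) o2 hx h1).dvd_of_dvd_mul_right
      (((ndvd R Nat.prime_two (by norm_num) o1 hx h1).pow_right 7).dvd_of_dvd_mul_right h2))
    (d27 (.inl rfl))) ha
  obtain ⟨m, hm⟩ := card_dvd_of_le (le_normalizer (H := (R : Subgroup X)))
  have f1 := mt (free R Nat.prime_two (by norm_num) o1 (k := 4)) (by rw [cR]; norm_num)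
  have f2 := mt (free R (by norm_num) (by norm_num) o2 (k := 1)) (by rw [cR]; norm_num)
  have e := card_mul_index (normalizer ((R : Subgroup X) : Set X))
  rw [hm, cR] at f1 f2 e
  rw [cR] at hi
  rw [hc] at e
  generalize (normalizer ((R : Subgroup X) : Set X)).index = n at e hi
  have e2 : m * n = 2 ^ 7 * 3 ^ 3 * 7 := by nlinarith
  have c7 : m.Coprime 7 := ((Nat.Prime.coprime_iff_not_dvd (by norm_num)).2
    fun k => f2 (by simpa using k.mul_left _)).symm
  obtain ⟨i, hi', j, hj, rfl⟩ := split (c7.dvd_of_dvd_mul_right ⟨n, e2.symm⟩)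
  interval_cases i <;> interval_cases j <;> omega

theorem Sf.kHe7 (h : Sf G X) (hc : Nat.card X = 4030387200) (n1 : ¬ Om G 14) (n2 : ¬ Om G 35)
    (n3 : ¬ Om G 119) : False := by
  haveI : Fact (Nat.Prime 7) := ⟨by norm_num⟩
  obtain ⟨R⟩ : Nonempty (Sylow 7 X) := inferInstance
  have o1 : ¬ Om X (7 * 2) := fun k => n1 (h.om k)
  have o2 : ¬ Om X (7 * 5) := fun k => n2 (h.om k)
  have o3 : ¬ Om X (7 * 17) := fun k => n3 (h.om k)
  have cR : Nat.card (R : Subgroup X) = 7 ^ 3 := card_R R (m := 11750400) hc (by norm_num)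
  obtain ⟨m, hm⟩ := card_dvd_of_le (le_normalizer (H := (R : Subgroup X)))
  have f1 := mt (free R Nat.prime_two (by norm_num) o1 (k := 2)) (by rw [cR]; norm_num)
  have f2 := mt (free R (by norm_num) (by norm_num) o2 (k := 1)) (by rw [cR]; norm_num)
  have f3 := mt (free R (by norm_num) (by norm_num) o3 (k := 1)) (by rw [cR]; norm_num)
  have e := card_mul_index (normalizer ((R : Subgroup X) : Set X))
  have h7 := card_sylow_modEq_one 7 X
  rw [R.card_eq_index_normalizer] at h7
  have hi := ti_index R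
  rw [cR] at hm hi
  rw [hm] at f1 f2 f3 e
  rw [hc] at e
  have key : m = 18 ∧ (normalizer ((R : Subgroup X) : Set X)).index = 652800 := by
    unfold Nat.ModEq at h7
    generalize (normalizer ((R : Subgroup X) : Set X)).index = n at e h7
    have e2 : m * n = 2 ^ 10 * 3 ^ 3 * 17 * 5 ^ 2 := by nlinarith
    have c5 : m.Coprime 5 := ((Nat.Prime.coprime_iff_not_dvd (by norm_num)).2
      fun k => f2 (by simpa using k.mul_left _)).symm
    have c17 : m.Coprime 17 := ((Nat.Prime.coprime_iff_not_dvd (by norm_num)).2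
      fun k => f3 (by simpa using k.mul_left _)).symm
    obtain ⟨i, hi', j, hj, rfl⟩ :=
      split (c17.dvd_of_dvd_mul_right ((c5.pow_right 2).dvd_of_dvd_mul_right ⟨n, e2.symm⟩))
    interval_cases i <;> interval_cases j <;> omega
  obtain ⟨rfl, hn⟩ := key
  obtain ⟨t, ht⟩ := Om.of_prime (G := normalizer ((R : Subgroup X) : Set X)) Nat.prime_two
    (by rw [hm]; norm_num)
  have ha : IsMulCommutative (R : Subgroup X) := by
    have fp : MonoidHom.FixedPointFree ((R : Subgroup X).normalizerMonoidHom t) := fun x hx => by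
      by_contra h1
      have e1 : (t : X) * x * (t : X)⁻¹ = x := congrArg Subtype.val hx
      exact o1 (Om.mul (show Commute (t : X) x from mul_inv_eq_iff_eq_mul.1 e1).symm
        (dvd_ord R.isPGroup' x.2 fun k => h1 (Subtype.ext k))
        (by rw [Subgroup.orderOf_coe, ht]) (by norm_num))
    refine ⟨⟨fun a b => (fp.commute_all_of_involutive (fun x => ?_) a b).eq⟩⟩
    rw [← MulAut.mul_apply, ← map_mul, ← sq, ← ht, pow_orderOf_eq_one, map_one, MulAut.one_apply]
  have := hi (fun x hx h1 => norm_of R (le_Ce R ha hx) (m := 27) (by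
    have h2 := card_subgroup_dvd_card (Ce x)
    rw [hc, show 4030387200 = 7 ^ 3 * 27 * 17 * 5 ^ 2 * 2 ^ 10 by norm_num] at h2
    rw [cR]
    exact (ndvd R (by norm_num) (by norm_num) o3 hx h1).dvd_of_dvd_mul_right
      (((ndvd R (by norm_num) (by norm_num) o2 hx h1).pow_right 2).dvd_of_dvd_mul_right
      (((ndvd R Nat.prime_two (by norm_num) o1 hx h1).pow_right 10).dvd_of_dvd_mul_right h2)))
    (d27 (.inr rfl))) ha
  rw [hn] at this
  norm_num at this

end Cfsg.Agent.SpS
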