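import Mathlib
import Cfsg.Agent.SpS.Defs
import Cfsg.Agent.S3703
import Cfsg.Agent.Loc.MssSyl
import Cfsg.Agent.GT.Fitting
import Cfsg.Agent.Perm.RankOneNilp

/-! S3586/S3535, piece T5: Mazurov's lemma over a nilpotent kernel. -/

set_option autoImplicit false
set_option linter.unusedSectionVars false
set_option linter.unusedVariables false

namespace Cfsg.Agent.SpS

open Subgroup

namespace T5

open Loc.Mss

/-- Mazurov's lemma over an `s`-group kernel. -/
theorem core {H B : Type*} [Group H] [Finite H] [Group B] (f : H →* B)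
    (hf : Function.Surjective f) {s r : ℕ} (hs : s.Prime) (hr : r.Prime) (hrs : r ≠ s)
    (hP : IsPGroup s f.ker) {Q : Subgroup B} (hQ : IsPGroup r Q) {y : B}
    (hy : y ∈ normalizer (Q : Set B))
    (hfp : ∀ j, 0 < j → j < orderOf y → ∀ q ∈ Q, Commute q (y ^ j) → q = 1)
    (hno : ¬ Om H (s * orderOf y)) : Q ≤ (centralizer (f.ker : Set H)).map f := by
  have := Fact.mk hs
  have := Fact.mk hr
  have : Finite B := Finite.of_surjective f hf
  obtain ⟨T, hT⟩ := Syl.exists r (Q.comap f)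
  have hTm : T.map f = Q := by
    have h1 := hT.map f
    rw [map_comap_eq_self_of_surjective hf] at h1
    exact (h1.eq_of_le hQ h1.le le_rfl).symm
  obtain ⟨y0, hy0⟩ := hf y
  have hn : y0 ∈ normalizer ((Q.comap f : Subgroup H) : Set H) := by
    rw [mem_normalizer_iff] at hy ⊢
    intro x
    rw [mem_comap, mem_comap, map_mul, map_mul, map_inv, hy0]
    exact hy _
  obtain ⟨m, hm, k, hk, e⟩ := hT.frattini hn
  obtain ⟨t, ht, htm⟩ : f m ∈ T.map f := hTm ▸ hm
  have hy1 : f (t * k) = y := by rw [map_mul, htm, ← map_mul, ← e, hy0]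
  obtain ⟨n, hn'⟩ : ∃ n, orderOf y = n + 1 := ⟨_, (Nat.succ_pred_eq_of_pos (orderOf_pos y)).symm⟩
  have hcop : (Nat.card T).Coprime (Nat.card f.ker) := by
    obtain ⟨a, ha⟩ := IsPGroup.iff_card.1 hT.pg
    obtain ⟨b, hb⟩ := IsPGroup.iff_card.1 hP
    rw [ha, hb]
    exact Nat.Coprime.pow _ _ ((Nat.coprime_primes hr hs).2 hrs)
  rw [← hTm]
  refine map_mono (S3703.le_centralizer (p := s) (y := t * k) (m := n) hP le_normalizer_of_normal
    (le_normalizer_of_normal (mem_top _)) (mul_mem (le_normalizer ht) hk) hcop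
    (fun j hj q hq e => ?_) fun v hv => ?_)
  · refine disjoint_def.mp (disjoint_of_coprime_natCard hcop) hq ?_
    refine hfp (j + 1) j.succ_pos (by omega) _ (hTm ▸ mem_map_of_mem f hq) ?_
    rw [← hy1, ← map_pow]
    exact (show Commute q _ from e).map f
  · by_contra h1
    have hx : f (v * (t * k)) = y := by rw [map_mul, hy1, (MonoidHom.mem_ker).1 hv, one_mul]
    set x := v * (t * k)
    have hxN : x ^ (n + 1) ∈ f.ker := by
      rw [MonoidHom.mem_ker, map_pow, hx, ← hn', pow_orderOf_eq_one]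
    have hd : n + 1 ∣ orderOf x := by rw [← hn', ← hx]; exact orderOf_map_dvd _ _
    obtain ⟨a, ha⟩ := (IsPGroup.iff_orderOf.1 hP) ⟨_, hxN⟩
    rw [← orderOf_coe, orderOf_pow_of_dvd (Nat.succ_ne_zero n) hd] at ha
    have hpd : s ∣ orderOf x / (n + 1) := by
      rw [ha]
      refine dvd_pow_self s fun a0 => h1 ?_
      rw [← orderOf_eq_one_iff, orderOf_pow_of_dvd (Nat.succ_ne_zero n) hd, ha, a0, pow_zero]
    refine hno (Om.of_dvd ⟨x, rfl⟩ ?_)
    rw [hn', mul_comm]
    exact Nat.mul_dvd_of_dvd_div hd hpd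

end T5

variable {G X : Type*} [Group G] [Finite G] [Group X] [Finite X] {p : ℕ}

theorem Cx.t5n (c : Cx G X) (h : Sf G X) (hN : Group.IsNilpotent c.K) {s r u : ℕ} (hs : s.Prime)
    (hr : r.Prime) (hrs : r ≠ s) (hK : s ∣ Nat.card c.K) (hu : u.Prime) (hus : u ≠ s)
    (huX : u ∣ Nat.card X) (hn : ¬ Om G (u * s)) {Q : Subgroup X} (hQ : IsPGroup r Q) (h0 : Q ≠ ⊥)
    {y : X} (hy : y ∈ normalizer (Q : Set X))
    (hf : ∀ j, 0 < j → j < orderOf y → ∀ q ∈ Q, Commute q (y ^ j) → q = 1) :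
    Om G (s * orderOf y) := by
  have := Fact.mk hs
  have := Fact.mk hu
  by_contra hno
  let K1 := GT.pPrimeCoreOf s c.K
  have hK1 : K1.Normal := normalizer_eq_top_iff.1 (top_le_iff.1 (by
    rw [← normalizer_eq_top c.K]
    exact GT.normalizer_le_normalizer_pPrimeCoreOf c.K))
  have hle : K1 ≤ c.K := GT.pPrimeCoreOf_le c.K
  let f : G ⧸ K1 →* G ⧸ c.K := QuotientGroup.map K1 c.K (MonoidHom.id G) hle
  have hfm : ∀ g : G, f (g : G ⧸ K1) = (g : G ⧸ c.K) := fun g => rfl
  have hfs : Function.Surjective f := fun b => by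
    obtain ⟨g, rfl⟩ := QuotientGroup.mk_surjective b
    exact ⟨g, rfl⟩
  have hker : f.ker = (pCoreOf s c.K).map (QuotientGroup.mk' K1) := by
    have h1 : f.ker = c.K.map (QuotientGroup.mk' K1) := by
      ext b
      obtain ⟨g, rfl⟩ := QuotientGroup.mk_surjective b
      rw [MonoidHom.mem_ker, hfm, QuotientGroup.eq_one_iff]
      refine ⟨fun hg => ⟨g, hg, rfl⟩, ?_⟩
      rintro ⟨g', hg', e⟩
      have := hle (QuotientGroup.eq.1 e)
      rwa [mul_mem_cancel_left (inv_mem hg')] at this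
    rw [h1]
    conv_lhs => rw [← GT.pCoreOf_sup_pPrimeCoreOf s c.K]
    rw [Subgroup.map_sup, (Subgroup.map_eq_bot_iff _).2 (QuotientGroup.ker_mk' K1).ge, sup_bot_eq]
  have hP : IsPGroup s f.ker := hker ▸ (GT.isPGroup_pCoreOf s c.K).map _
  let ι : X →* G ⧸ c.K := c.S.subtype.comp c.e.symm.toMonoidHom
  have hι : Function.Injective ι := c.S.subtype_injective.comp c.e.symm.injective
  have hc := T5.core f hfs hs hr hrs hP (hQ.map ι) (y := ι y)
    (le_normalizer_map ι (mem_map_of_mem ι hy)) (by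
      rintro j h1 h2 _ ⟨q, hq, rfl⟩ hc
      rw [orderOf_injective ι hι] at h2
      rw [← map_pow] at hc
      rw [hf j h1 h2 q hq (hι (by rw [map_mul, map_mul]; exact hc)), map_one]) (by
      rw [orderOf_injective ι hι]
      exact fun ho => hno (ho.of_surj _ (QuotientGroup.mk'_surjective K1)))
  set C := centralizer (f.ker : Set (G ⧸ K1))
  have hCn : (C.map f).Normal := Normal.map inferInstance f hfs
  have hsimp := h.simp
  have htop : (C.map f).comap ι = ⊤ := by
    refine (hsimp.eq_bot_or_eq_top_of_normal _ (hCn.comap ι)).resolve_left fun hb => h0 ?_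
    rw [eq_bot_iff, ← hb]
    exact map_le_iff_le_comap.1 hc
  have hd : u ∣ Nat.card C := by
    refine huX.trans (Dvd.dvd.trans ?_ (card_map_dvd C f))
    rw [← card_top, ← card_map_of_injective (K := ⊤) hι]
    exact card_dvd_of_le (map_le_iff_le_comap.2 htop.ge)
  obtain ⟨a, ha⟩ := exists_prime_orderOf_dvd_card' u hd
  obtain ⟨b, hb⟩ := exists_prime_orderOf_dvd_card' s hK
  have hb1 : ((b : G) : G ⧸ K1) ≠ 1 := fun e => by
    have h1 := K1.orderOf_dvd_natCard ((QuotientGroup.eq_one_iff _).1 e)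
    rw [orderOf_coe, hb] at h1
    exact hs.coprime_iff_not_dvd.1 (GT.coprime_card_pPrimeCoreOf s c.K).symm h1
  have hbo : orderOf ((b : G) : G ⧸ K1) = s := by
    refine orderOf_eq_prime ?_ hb1
    rw [← QuotientGroup.mk_pow, ← hb, ← orderOf_coe, pow_orderOf_eq_one, QuotientGroup.mk_one]
  have hbk : ((b : G) : G ⧸ K1) ∈ f.ker := by
    rw [MonoidHom.mem_ker, hfm, QuotientGroup.eq_one_iff]
    exact b.2
  refine hn (Om.of_surj _ (QuotientGroup.mk'_surjective K1) ?_)
  exact Om.mul (x := (a : G ⧸ K1)) (y := ((b : G) : G ⧸ K1))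
    (show _ * _ = _ * _ from (mem_centralizer_iff.1 a.2 _ hbk).symm) (by rw [orderOf_coe, ha])
    (hbo ▸ dvd_rfl)
    ((Nat.coprime_primes hu hs).2 hus)

theorem Cx.nil (c : Cx G X) {u : ℕ} (hu : u.Prime) (huX : u ∣ Nat.card X) (huK : ¬ u ∣ Nat.card c.K)
    (hn : ∀ s : ℕ, s.Prime → s ∣ Nat.card c.K → ¬ Om G (u * s)) : Group.IsNilpotent c.K := by
  obtain ⟨g, hg⟩ := Om.of_prime (G := G) hu (by
    rw [c.card]
    exact (huX.mul_right _).mul_left _)
  refine Perm.RankOne.isNilpotent_of_fixedPointFree (k := g) (le_normalizer_of_normal (mem_top g))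
    (hg ▸ hu) fun y hy hc => ?_
  by_contra h1
  obtain ⟨s, hs, hd⟩ := Nat.exists_prime_and_dvd (mt orderOf_eq_one_iff.1 h1)
  have h2 : s ∣ Nat.card c.K := hd.trans (c.K.orderOf_dvd_natCard hy)
  exact hn s hs h2 (Om.mul hc (hg ▸ dvd_rfl) hd
    ((Nat.coprime_primes hu hs).2 fun e => huK (e ▸ h2)))

end Cfsg.Agent.SpS
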