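import Mathlib
import Cfsg.Agent.SpS.Defs
import Cfsg.Agent.NG.TitSyl

/-! The Tits group has an element of order 16. -/

set_option autoImplicit false
set_option linter.unusedSectionVars false
set_option linter.unusedVariables false
set_option maxRecDepth 100000

namespace Cfsg.Agent.SpS

open Subgroup
open Cfsg.Agent.Spor Cfsg.Agent.Rec Cfsg.Agent.Chev Cfsg.Agent.Chev.F4T Cfsg.Agent.NG.TP

variable {G X : Type*} [Group G] [Finite G] [Group X] [Finite X] {p : ℕ}

theorem KTits.evalW_pow {H : Type*} [Group H] (e : ℕ → H) (w : List ℕ) (n : ℕ) :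
    evalW e (List.replicate n w).flatten = evalW e w ^ n := by
  induction n with
  | zero => rw [pow_zero]; rfl
  | succ n ih => rw [List.replicate_succ, List.flatten_cons, evalW_append, ih, pow_succ']

theorem om_tits : Om Cfsg.Lie.TitsGroup 16 := by
  change Om (commutator (Lie.twistedF4 (ZMod 2) 1)) 16
  rw [twistedF4_two]
  refine ⟨⟨evalW (nth 1 eT) [8, 2], evalW_mem fun i _ => clos_eT ▸ nth_mem_clos eT i⟩, ?_⟩
  rw [← orderOf_coe]
  refine orderOf_eq_prime_pow (p := 2) (n := 3) ?_ ?_ <;> rw [← KTits.evalW_pow]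
  · exact eT_ne (v := []) 0 8 (by decide +kernel)
  · exact eT_one (by decide +kernel)

theorem Sf.kTits (h : Sf G X) (e : Nonempty (X ≃* Cfsg.Lie.TitsGroup)) (n : ¬ Om G 16) : False := by
  obtain ⟨e⟩ := e
  exact n (h.om (om_tits.of_inj e.symm.toMonoidHom e.symm.injective))

end Cfsg.Agent.SpS
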