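import Mathlib
import Cfsg.Agent.Cl.OrthSpecTor
import Cfsg.Agent.Cl.OrthSpecFit
import Cfsg.Agent.Cl.ClassSpOSpec
import Cfsg.Agent.Cl.OrthCard

/-!
Element orders in even-dimensional orthogonal groups: primes that are not joined to `2`.
-/

set_option autoImplicit false

namespace Cfsg.Agent.SpS.LO

open Cfsg Polynomial Module QuadraticMap Cfsg.Agent.Cl Cfsg.Agent.Cl.OS Cfsg.Agent.Cl.SpO

section Lift

variable {F : Type} [Field F] [Fintype F] {ι : Type} [Fintype ι] [DecidableEq ι]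
  {P : QuadraticForm F (ι → F)}

theorem dvd_iff (hP : (polarBilin P).Nondegenerate) (h5 : 5 ≤ finrank F (ι → F))
    (g : commutator (OG P)) (t : ℕ) :
    orderOf (g : commutator (OG P) ⧸ Subgroup.center (commutator (OG P))) ∣ t ↔
      (specO P g ^ t = 1 ∨ specO P g ^ t = -1) := by
  have hd : 3 ≤ finrank F (ι → F) := by omega
  rw [orderOf_dvd_iff_pow_eq_one, ← QuotientGroup.mk_pow, QuotientGroup.eq_one_iff,
    mem_center_commutator_iff hP (not_oExc_of_finrank (by omega)) hd (quad_exists_singular _ hd)]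
  have h1 : specO P (OG.negOne P) = -1 := by simpa using specO_neg (1 : OG P)
  rw [← map_pow, ← h1, ← map_one (specO P), specO_injective.eq_iff, specO_injective.eq_iff]
  simp

theorem lift (hP : (polarBilin P).Nondegenerate) (h5 : 5 ≤ finrank F (ι → F))
    (x : POmega F P) : ∃ g ∈ commutator (OG P), ∀ t, orderOf x ∣ t ↔
      (specO P g ^ t = 1 ∨ specO P g ^ t = -1) := by
  obtain ⟨g, hg⟩ := QuotientGroup.mk_surjective (pomegaEquivOG P x)
  exact ⟨g, g.2, fun t => by rw [← dvd_iff hP h5, hg, MulEquiv.orderOf_eq]⟩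

theorem down (hP : (polarBilin P).Nondegenerate) (h5 : 5 ≤ finrank F (ι → F))
    {g : OG P} (hg : g ∈ commutator (OG P)) : ∃ x : POmega F P, ∀ t, orderOf x ∣ t ↔
      (specO P g ^ t = 1 ∨ specO P g ^ t = -1) :=
  ⟨(pomegaEquivOG P).symm (QuotientGroup.mk ⟨g, hg⟩), fun t => by
    rw [MulEquiv.orderOf_eq, dvd_iff hP h5]⟩

theorem finite_pomega : Finite (POmega F P) := inferInstance

/-- The order of an element of `Ω` divides twice the order of its image. -/
theorem down_dvd (hP : (polarBilin P).Nondegenerate) (h5 : 5 ≤ finrank F (ι → F))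
    {g : OG P} (hg : g ∈ commutator (OG P)) : ∃ x : POmega F P, orderOf g ∣ 2 * orderOf x := by
  obtain ⟨x, hx⟩ := down hP h5 hg
  refine ⟨x, ?_⟩
  rw [← orderOf_specO, orderOf_dvd_iff_pow_eq_one, mul_comm, pow_mul]
  rcases (hx _).1 dvd_rfl with h | h <;> rw [h]
  · rw [one_pow]
  · exact neg_one_sq (R := Module.End F (ι → F))

theorem lift_dvd (x : POmega F P) : ∃ g ∈ commutator (OG P), orderOf x ∣ orderOf g := by
  obtain ⟨g, hg⟩ := QuotientGroup.mk_surjective (pomegaEquivOG P x)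
  refine ⟨g, g.2, ?_⟩
  rw [← (pomegaEquivOG P).orderOf_eq x, ← hg, Subgroup.orderOf_coe]
  exact orderOf_map_dvd (QuotientGroup.mk' _) g

end Lift

section Arith

theorem eq_of_dvd {q r t T : ℕ} (hr : r.Prime) (ht : 2 * t + 1 = q ∨ 2 * t = q + 1)
    (hT : 2 * T + 1 = q ∨ 2 * T = q + 1) (h1 : r ∣ t) (h2 : r ∣ T) : t = T := by
  by_contra h
  have h3 : t = T + 1 ∨ T = t + 1 := by omega
  rcases h3 with rfl | rfl
  · exact hr.ne_one (Nat.dvd_one.1 ((Nat.dvd_add_right h2).1 h1))
  · exact hr.ne_one (Nat.dvd_one.1 ((Nat.dvd_add_right h1).1 h2))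

theorem small_of_two {q r m : ℕ} (hr : r.Prime) (hq : 0 < q) (hm : 2 ≤ m)
    (h1 : r ∣ q ^ m - 1 ∨ r ∣ q ^ m + 1) (h2 : r ∣ q ^ (m + 1) - 1 ∨ r ∣ q ^ (m + 1) + 1) :
    SpecSmall q m r := by
  have := Fact.mk hr
  rw [dvd_pm_iff hq] at h1 h2
  refine ⟨1, one_pos, by omega, (dvd_pm_iff hq 1).2 ?_⟩
  rw [mul_add] at h2
  exact (Nat.dvd_add_right h1).1 h2

theorem dvd_pm_of {q r T : ℕ} (hT : 2 * T + 1 = q ∨ 2 * T = q + 1) (h : r ∣ T) :
    r ∣ q - 1 ∨ r ∣ q + 1 :=
  hT.imp (fun h' => by rw [← h', Nat.add_sub_cancel]; exact h.mul_left _)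
    fun h' => by rw [← h']; exact h.mul_left _

end Arith

section Up

variable {F : Type*} [Field F] [Fintype F] {V : Type*} [AddCommGroup V] [Module F V]
  [FiniteDimensional F V] {Q : QuadraticForm F V} (p : ℕ) [Fact p.Prime] [CharP F p]

omit [Fintype F] in
theorem two_ne (hp : p ≠ 2) : (2 : F) ≠ 0 := fun h =>
  hp ((Nat.prime_dvd_prime_iff_eq Fact.out Nat.prime_two).1
    ((CharP.cast_eq_zero_iff F p 2).1 (by exact_mod_cast h)))

/-- One full orbit of eigenvalues, odd characteristic. -/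
theorem odd_top (hp : p ≠ 2) (hQ : (polarBilin Q).Nondegenerate) {n : ℕ}
    (hd : finrank F V = 2 * n) {g : OG Q} (hg : g ∈ commutator (OG Q)) {r : ℕ} (hr : r.Prime)
    (hr2 : r ≠ 2) (hrp : r ≠ p) (hs : ¬ SpecSmall (Fintype.card F) n r) {T : ℕ}
    (hT : 2 * T + 1 = Fintype.card F ^ n ∨ 2 * T = Fintype.card F ^ n + 1) (hrT : r ∣ T)
    (h : r ∣ orderOf g) : specO Q g ^ T = 1 := by
  classical
  have h2 := two_ne (F := F) p hp
  rw [← orderOf_specO] at h
  obtain ⟨μ, t, R, h3, h4, h5, h6, h7, -, h8⟩ := (spec_small_or_top p hp ((Group.isUnit g).map _)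
    (evs_specO_map (K := AlgebraicClosure F) hQ g) (n := n) (by omega) hr hr2 hrp h).resolve_left hs
  have h9 : R = Multiset.replicate 0 1 := by
    have h10 := congrArg Multiset.card h7
    rw [evs_card, hd, Multiset.card_add, card_specPM] at h10
    exact Multiset.card_eq_zero.1 (by omega)
  subst h9
  have h10 := (spec_ospin_orbit h2 hQ (by rintro rfl; simp at h4) h5 h6 h7).1
    ((mem_commutator_OG_iff_of_two_ne_zero hQ h2 g).1 hg).2
  have h11 := pow_mul_eq_of_count_le p (x := specO _ g) (k := t) (b := 0) (c := 1)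
    (fun ν hν => by
      rw [h7, Multiset.replicate_zero, add_zero] at hν
      rw [map_one]
      exact (SpecOrb.of_mem_specPM hν).pow_eq_one h10) h8
  rw [pow_zero, mul_one, one_pow, map_one] at h11
  rwa [← eq_of_dvd hr h5 hT (h.trans (orderOf_dvd_of_pow_eq_one h11)) hrT]

theorem specPM_neg {K : Type*} [Field K] {q : ℕ} (hq : Odd q) (μ : K) (e : ℕ) :
    (specPM q μ e).map (fun ν => -ν) = specPM q (-μ) e := by
  simp only [specPM, specT, Multiset.map_add, Multiset.map_map, Function.comp_def,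
    (hq.pow).neg_pow, inv_neg]

/-- An orbit of codimension two, odd characteristic, `-1 ∈ Ω`. -/
theorem odd_sub (hp : p ≠ 2) (hQ : (polarBilin Q).Nondegenerate) {m : ℕ} (hm : 2 ≤ m)
    (hd : finrank F V = 2 * (m + 1)) (hneg : OG.negOne Q ∈ commutator (OG Q))
    {g : OG Q} (hg : g ∈ commutator (OG Q)) {r : ℕ} (hr : r.Prime)
    (hr2 : r ≠ 2) (hrp : r ≠ p) (hs : ¬ SpecSmall (Fintype.card F) m r) {T : ℕ}
    (hT : 2 * T + 1 = Fintype.card F ^ m ∨ 2 * T = Fintype.card F ^ m + 1) (hrT : r ∣ T)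
    (hodd : Odd T) (h : r ∣ orderOf g)
    (h' : specO Q g ^ (2 * r) = 1 ∨ specO Q g ^ (2 * r) = -1) :
    specO Q g ^ r = 1 ∨ specO Q g ^ r = -1 := by
  classical
  have h2 := two_ne (F := F) p hp
  have hq := spec_odd_card (F := F) p hp
  have hq0 : 0 < Fintype.card F := Fintype.card_pos
  have hro := hr.odd_of_ne_two hr2
  have : CharP (AlgebraicClosure F) p := inferInstance
  have hm1 := spec_neg_one_ne_one (K := AlgebraicClosure F) p hp
  rw [← orderOf_specO] at h
  obtain ⟨μ, hμ, h1⟩ := spec_exists_dvd_orderOf (K := AlgebraicClosure F) p hr hrp h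
  have hx : IsUnit (specO Q g) := (Group.isUnit g).map _
  have h0 := ne_zero_of_mem_evs hx hμ
  have hne := spec_ne_inv_of_dvd (lt_of_le_of_ne hr.two_le hr2.symm) h1 h0
  obtain ⟨e, R, he0, he, -, hR, hR1, hR2⟩ :=
    split_orbit (F := F) (evs_map_frob (specO Q g)) (evs_specO_map hQ g) hμ hne
  have hc := congrArg Multiset.card hR
  rw [evs_card, hd, Multiset.card_add, card_specPM] at hc
  have h3 := spec_orderOf_dvd_pm h0 he
  have h4 := h3.imp h1.trans h1.trans
  have h5 : e = m := by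
    rcases Nat.lt_trichotomy e m with h | h | h
    · exact absurd ⟨e, he0, h, h4⟩ hs
    · exact h
    · obtain rfl : e = m + 1 := by omega
      exact absurd (small_of_two hr hq0 hm (dvd_pm_of hT hrT) h4) hs
  subst h5
  have h4r : specO Q g ^ (4 * r) = 1 := by
    rw [show 4 * r = 2 * r * 2 by ring, pow_mul]
    rcases h' with h' | h' <;> rw [h']
    · rw [one_pow]
    · exact neg_one_sq
  have h6 : μ ^ (2 * T) = 1 := by
    obtain ⟨t, ht, ht'⟩ : ∃ t, (2 * t + 1 = Fintype.card F ^ e ∨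
        2 * t = Fintype.card F ^ e + 1) ∧ orderOf μ ∣ 2 * t := by
      obtain ⟨t, ht⟩ := hq.pow (n := e)
      rcases h3 with h3 | h3
      · exact ⟨t, Or.inl ht.symm, by rwa [ht, Nat.add_sub_cancel] at h3⟩
      · exact ⟨t + 1, Or.inr (by omega), by rwa [ht] at h3⟩
    rw [← eq_of_dvd hr ht hT (((Nat.coprime_primes hr Nat.prime_two).2 hr2).dvd_of_dvd_mul_left
      (h1.trans ht')) hrT]
    exact orderOf_dvd_iff_pow_eq_one.1 ht'
  have h7 : μ ^ (2 * r) = 1 := by
    have h8 := Nat.dvd_gcd (orderOf_dvd_of_pow_eq_one h6)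
      (orderOf_dvd_of_pow_eq_one (pow_eq_one_of_mem_evs h4r hμ))
    obtain ⟨T', rfl⟩ := hrT
    rw [show 2 * (r * T') = 2 * r * T' by ring, show 4 * r = 2 * r * 2 by ring, Nat.gcd_mul_left,
      Nat.coprime_two_right.2 (Nat.odd_mul.1 hodd).2, mul_one] at h8
    exact orderOf_dvd_iff_pow_eq_one.1 h8
  have h2r : specO Q g ^ (2 * r) = 1 := h'.resolve_right fun h' => hm1 (by
    have := pow_eq_of_mem_evs (c := -1) (by rw [h', map_neg, map_one]) hμ
    rwa [h7, map_neg, map_one, eq_comm] at this)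
  obtain ⟨α, β, rfl⟩ := Multiset.card_eq_two.1 (show R.card = 2 by omega)
  have hα : α ∈ evs (AlgebraicClosure F) (specO Q g) := by rw [hR]; simp
  have hα0 := ne_zero_of_mem_evs hx hα
  have h8 : α * β = 1 := by
    have := evs_prod_of_mem (K := AlgebraicClosure F) h2 hQ hg
    rw [hR, Multiset.prod_add, prod_specPM h0] at this
    simpa using this
  have h9 : α * α = 1 := by
    have h10 : α ^ Fintype.card F ^ 1 = α ∨ α ^ Fintype.card F ^ 1 = α⁻¹ := by
      have : α ^ Fintype.card F ∈ ({α, β} : Multiset _) := by rw [← hR1]; simp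
      rw [eq_inv_of_mul_eq_one_right h8] at this
      simpa using this
    have h11 := spec_orderOf_dvd_pm hα0 h10
    have h12 : ¬ r ∣ orderOf α := fun h12 =>
      hs ⟨1, one_pos, by omega, h11.imp h12.trans h12.trans⟩
    have h13 := ((Nat.Prime.coprime_iff_not_dvd hr).2 h12).symm.dvd_of_dvd_mul_right
      (orderOf_dvd_of_pow_eq_one (pow_eq_one_of_mem_evs h2r hα))
    rw [← pow_two]
    exact orderOf_dvd_iff_pow_eq_one.1 h13
  obtain rfl : β = α := mul_left_cancel₀ hα0 (h8.trans h9.symm)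
  have hσ : μ ^ r = 1 ∨ μ ^ r = -1 := by
    rw [← mul_self_eq_one_iff, ← pow_add, ← two_mul, h7]
  have hβ := mul_self_eq_one_iff.1 h9
  by_cases h10 : μ ^ r = β
  · obtain ⟨c, hc1, hc2⟩ : ∃ c : F, (c = 1 ∨ c = -1) ∧ algebraMap F _ c = β := by
      rcases hβ with h | h
      · exact ⟨1, .inl rfl, by simp [h]⟩
      · exact ⟨-1, .inr rfl, by simp [h]⟩
    have h11 := aeval_eq_aeval_of_evs (K := AlgebraicClosure F) (m := 2 * r) (x := specO Q g)
      (by
        rw [Nat.cast_mul, Nat.cast_ofNat]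
        refine mul_ne_zero h2 fun h => hrp ?_
        exact ((Nat.prime_dvd_prime_iff_eq Fact.out hr).1
          ((CharP.cast_eq_zero_iff F p r).1 h)).symm) h2r (P := X ^ r) (Q := C c) (fun ν hν => by
        rw [map_pow, aeval_X, aeval_C, hc2]
        have hb : ∀ i, Odd i → β ^ i = β := fun i hi => by
          rcases hβ with h | h <;> rw [h]
          · exact one_pow _
          · exact hi.neg_one_pow
        rw [hR, Multiset.mem_add] at hν
        rcases hν with hν | hν
        · obtain ⟨i, -, rfl | rfl⟩ := mem_specPM.1 hν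
          · rw [← pow_mul, mul_comm, pow_mul, h10, hb _ hq.pow]
          · rw [inv_pow, ← pow_mul, mul_comm, pow_mul, h10, hb _ hq.pow,
              ← eq_inv_of_mul_eq_one_left h9]
        · have : ν = β := by simpa using hν
          rw [this, hb _ hro])
    rw [map_pow, aeval_X, aeval_C] at h11
    rcases hc1 with rfl | rfl
    · exact .inl (by rw [h11, map_one])
    · exact .inr (by rw [h11, map_neg, map_one])
  exfalso
  have key : ∀ (k : OG Q) (ν : AlgebraicClosure F), k ∈ commutator (OG Q) → ν ^ r = -1 →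
      evs _ (specO Q k) = specPM (Fintype.card F) ν e + Multiset.replicate 2 1 →
      ν ≠ -1 → False := fun k ν hk h11 h12 h13 => by
    obtain ⟨T', rfl⟩ := hrT
    have h14 := (spec_ospin_orbit h2 hQ h13 hT (by
      rw [show 2 * (r * T') = r * (2 * T') by ring, pow_mul, h11, pow_mul]; simp) h12).1
      ((mem_commutator_OG_iff_of_two_ne_zero hQ h2 k).1 hk).2
    rw [pow_mul, h11, (Nat.odd_mul.1 hodd).2.neg_one_pow] at h14
    exact hm1 h14
  rcases hβ with rfl | rfl
  · exact key g μ hg (hσ.resolve_left h10) hR (by rintro rfl; simp at hne)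
  · refine key (OG.negOne Q * g) (-μ) (mul_mem hneg hg)
      (by rw [hro.neg_pow, hσ.resolve_right h10]) ?_ (by rw [ne_eq, neg_inj]; rintro rfl; simp at hne)
    have h11 := evs_aeval (K := AlgebraicClosure F) (specO Q g) (-X)
    simp only [map_neg, aeval_X] at h11
    rw [specO_neg, h11, hR, Multiset.map_add, specPM_neg hq]
    simp [Multiset.replicate_succ]

/-- Characteristic two. -/
theorem even_sub [CharP F 2] (hQ : (polarBilin Q).Nondegenerate) {m : ℕ} (hm : 2 ≤ m)
    (hd : finrank F V = 2 * (m + 1)) {g : OG Q} (hg : dickson hQ g = 1) {r : ℕ} (hr : r.Prime)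
    (hr2 : r ≠ 2) (hs : ¬ SpecSmall (Fintype.card F) m r) (h : r ∣ orderOf g)
    (h' : specO Q g ^ (2 * r) = 1) : specO Q g ^ r = 1 := by
  classical
  have h2 : (2 : F) = 0 := by exact_mod_cast CharP.cast_eq_zero F 2
  have : CharP (AlgebraicClosure F) 2 := inferInstance
  obtain ⟨A, B, hA, hB, a, b, hS, h1, -, h3, h4⟩ := exists_fit hQ g
  rw [← orderOf_specO] at h
  obtain ⟨μ, hμ, h5⟩ := spec_exists_dvd_orderOf (K := AlgebraicClosure F) 2 hr hr2 h
  have h0 := ne_zero_of_mem_evs ((Group.isUnit g).map _) hμ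
  have h6 : 2 < r := lt_of_le_of_ne hr.two_le hr2.symm
  have hne := spec_ne_inv_of_dvd h6 h5 h0
  have hμb : μ ∈ evs _ (specO _ b) := by
    rw [hS.evs_eq, Multiset.mem_add] at hμ
    refine hμ.resolve_left fun hμ => ?_
    have := aeval_eq_zero_of_mem_evs (P := (X - 1) ^ finrank F A) (by simpa using h3) hμ
    simp only [map_pow, map_sub, aeval_X, map_one] at this
    rw [sub_eq_zero.1 (eq_zero_of_pow_eq_zero this)] at hne
    simp at hne
  have hroot : ∀ ν ∈ evs (AlgebraicClosure F) (specO _ b), ν ^ r = 1 := fun ν hν => by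
    have := pow_eq_one_of_mem_evs ((hS.pow_iff _).1 h').2 hν
    rw [mul_comm, pow_mul] at this
    exact spec_eq_one_of_pow_char_pow 2 (b := 1) (by rwa [pow_one])
  obtain ⟨e, R, he0, he, hnd, hR, hR1, hR2⟩ :=
    split_orbit (F := F) (evs_map_frob (specO _ b)) (evs_specO_map hB b) hμb hne
  have hc := congrArg Multiset.card hR
  rw [evs_card, Multiset.card_add, card_specPM] at hc
  have hf := hS.finrank_eq
  have h7 : m ≤ e := not_lt.1 fun h7 =>
    hs ⟨e, he0, h7, (spec_orderOf_dvd_pm h0 he).imp h5.trans h5.trans⟩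
  have h8 : R = 0 := by
    by_contra h8
    obtain ⟨ν, hν⟩ := Multiset.exists_mem_of_ne_zero h8
    have hνb : ν ∈ evs _ (specO _ b) := by rw [hR]; exact Multiset.mem_add.2 (.inr hν)
    have h9 : orderOf ν = r := by
      have := Fact.mk hr
      exact orderOf_eq_prime (hroot ν hνb) (ne_of_isUnit h4 hνb)
    have hν0 := ne_zero_of_mem_evs ((Group.isUnit b).map _) hνb
    obtain ⟨e', R', he0', he', -, hR', -⟩ := split_orbit (F := F) hR1 hR2 hν
      (spec_ne_inv_of_dvd h6 h9.symm.dvd hν0)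
    have hc' := congrArg Multiset.card hR'
    rw [Multiset.card_add, card_specPM] at hc'
    exact hs ⟨e', he0', by omega, h9 ▸ spec_orderOf_dvd_pm hν0 he'⟩
  have hb : specO _ b ^ r = 1 := by
    have := orderOf_dvd_of_count 2 (b := 0) hroot fun ν => by
      rw [hR, h8, add_zero]; exact Multiset.nodup_iff_count_le_one.1 hnd ν
    rwa [pow_zero, mul_one, orderOf_dvd_iff_pow_eq_one] at this
  rw [h8, Multiset.card_zero, add_zero] at hc
  have ha : specO _ a - 1 = 0 := by
    rw [dickson_of_isUnit hB h4, hc, pow_mul, hg] at h1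
    rcases (show finrank F A = 0 ∨ finrank F A = 2 * 0 + 2 by omega) with h9 | h9
    · rw [h9, pow_zero] at h3
      rw [← mul_one (_ - _), h3, mul_zero]
    · simpa using pow_eq_zero_of_dickson hA h9 (by simpa using h1.symm) h3
  exact (hS.pow_iff _).2 ⟨by rw [sub_eq_zero.1 ha, one_pow], hb⟩

end Up

end Cfsg.Agent.SpS.LO
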