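import Mathlib
import Cfsg.Agent.SpS.Defs
import Cfsg.Agent.SpS.LO1
import Cfsg.Agent.S2472
import Cfsg.Agent.S2474

/-!
Generic spectral facts for the symplectic and orthogonal groups.
-/

set_option autoImplicit false

namespace Cfsg.Agent.SpS.LO

open Cfsg Polynomial Module QuadraticMap Cfsg.Agent.Cl Cfsg.Agent.Cl.OS Cfsg.Agent.Cl.SpO

/-- Orders `i` of `q` modulo primes not joined to `2`; `t = 0`: types `B`, `C`; `t = 1`: plus
type; `t = 2`: minus type. -/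
def II (t q n i : ℕ) : Prop :=
  (t = 0 ∧ ((i = 2 * n ∧ (q % 2 = 0 ∨ n % 2 = 0 ∨ q % 4 = 1)) ∨
    (i = n ∧ n % 2 = 1 ∧ (q % 2 = 0 ∨ q % 4 = 3)))) ∨
  (t = 1 ∧ ((i = 2 * (n - 1) ∧ (q % 2 = 0 ∨ q % 4 = 1)) ∨
    (i = n - 1 ∧ n % 2 = 0 ∧ (q % 2 = 0 ∨ q % 4 = 3)) ∨
    (i = n ∧ n % 2 = 1 ∧ (q % 2 = 0 ∨ q % 4 = 3)))) ∨
  (t = 2 ∧ ((i = 2 * n ∧ (q % 2 = 0 ∨ n % 2 = 0 ∨ q % 4 = 1)) ∨
    (i = 2 * (n - 1) ∧ (q % 2 = 0 ∨ (n % 2 = 1 ∧ q % 4 = 3))) ∨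
    (i = n - 1 ∧ n % 2 = 0 ∧ q % 2 = 0)))

instance (t q n i : ℕ) : Decidable (II t q n i) := by unfold II; infer_instance

/-- The generic spectral facts. -/
structure LS (L : Type*) [Group L] (t q n : ℕ) : Prop where
  pr : ∀ s, s.Prime → Om L s → s = 2 ∨ s ∣ q ∨ ∃ e, 0 < e ∧ e ≤ n ∧ s ∣ q ^ (2 * e) - 1
  no2 : ∀ i r, II t q n i → r.Prime → r ≠ 2 → orderOf (q : ZMod r) = i → ¬ Om L (2 * r)
  low : ∀ i r k, II t q n i → r.Prime → r ≠ 2 → orderOf (q : ZMod r) = i → r ^ k ∣ q ^ i - 1 →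
    Om L (r ^ k)

theorem LS.of_om {L G : Type*} [Group L] [Group G] {t q n : ℕ} (h : LS L t q n)
    (e : ∀ m, Om G m ↔ Om L m) : LS G t q n :=
  ⟨fun s hs h1 => h.pr s hs ((e _).1 h1), fun i r h1 h2 h3 h4 h5 => h.no2 i r h1 h2 h3 h4
    ((e _).1 h5), fun i r k h1 h2 h3 h4 h5 => (e _).2 (h.low i r k h1 h2 h3 h4 h5)⟩

section Arith

variable {q r e i : ℕ}

/-- `i` is `2 e`, or `i = e` is odd. -/
def Ty (i e : ℕ) (s : Bool) : Prop := 0 < e ∧ ((s = false ∧ i = 2 * e) ∨ (s = true ∧ i = e ∧ e % 2 = 1))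

theorem Ty.not_small {s : Bool} (h : Ty i e s) (hq : 0 < q) (hr : r.Prime)
    (ho : orderOf (q : ZMod r) = i) {m : ℕ} (hm : m ≤ e) : ¬ SpecSmall q m r := by
  have := Fact.mk hr
  rintro ⟨f, h1, h2, h3⟩
  rw [dvd_pm_iff hq, ho] at h3
  have h4 : e ∣ f := by
    rcases h.2 with ⟨-, rfl⟩ | ⟨-, rfl, h5⟩
    · exact Nat.dvd_of_mul_dvd_mul_left two_pos h3
    · exact (Nat.odd_iff.2 h5).coprime_two_right.dvd_of_dvd_mul_left h3
  have := Nat.le_of_dvd h1 h4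
  omega

theorem Ty.dvd_tor {s : Bool} (h : Ty i e s) (hq : 0 < q) (hr : r.Prime)
    (ho : orderOf (q : ZMod r) = i) {k : ℕ} (hk : r ^ k ∣ q ^ i - 1) : r ^ k ∣ tor q e s := by
  have := Fact.mk hr
  rcases h.2 with ⟨rfl, rfl⟩ | ⟨rfl, rfl, -⟩
  · have h1 : ¬ r ∣ q ^ e - 1 := fun h1 => by
      rw [Der.dvd_pow_sub_one_iff hq, ho] at h1
      have := Nat.le_of_dvd h.1 h1
      have := h.1
      omega
    rw [mul_comm, pow_mul, ← one_pow 2, Nat.sq_sub_sq] at hk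
    exact (((Nat.Prime.coprime_iff_not_dvd hr).2 h1).pow_left k).dvd_of_dvd_mul_right hk
  · exact hk

theorem dvd_of_ord (hq : 0 < q) (hr : r.Prime) (ho : orderOf (q : ZMod r) = i) :
    r ^ 1 ∣ q ^ i - 1 := by
  have := Fact.mk hr
  rw [pow_one, Der.dvd_pow_sub_one_iff hq, ho]

theorem Ty.exists_T {s : Bool} (h : Ty i e s) (hq : 0 < q) (hr : r.Prime) (hr2 : r ≠ 2)
    (ho : orderOf (q : ZMod r) = i) (h4 : q ^ e % 4 = if s then 3 else 1) :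
    ∃ T, (2 * T + 1 = q ^ e ∨ 2 * T = q ^ e + 1) ∧ r ∣ T ∧ Odd T := by
  have h1 := h.dvd_tor hq hr ho (dvd_of_ord hq hr ho)
  have hc := (Nat.coprime_primes hr Nat.prime_two).2 hr2
  rw [pow_one] at h1
  cases s
  · simp only [tor, Bool.false_eq_true, if_false] at h1 h4
    obtain ⟨T, hT⟩ : ∃ T, q ^ e + 1 = 2 * T := ⟨(q ^ e + 1) / 2, by omega⟩
    exact ⟨T, .inr hT.symm, hc.dvd_of_dvd_mul_left (hT ▸ h1), Nat.odd_iff.2 (by omega)⟩
  · simp only [tor, if_true] at h1 h4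
    obtain ⟨T, hT⟩ : ∃ T, q ^ e - 1 = 2 * T := ⟨(q ^ e - 1) / 2, by omega⟩
    exact ⟨T, .inl (by omega), hc.dvd_of_dvd_mul_left (hT ▸ h1), Nat.odd_iff.2 (by omega)⟩

theorem pow_mod_one (h : q % 4 = 1) (e : ℕ) : q ^ e % 4 = 1 := by
  rw [Nat.pow_mod, h, one_pow]
  rfl

theorem pow_mod_even (h : q % 2 = 1) (he : e % 2 = 0) : q ^ e % 4 = 1 := by
  obtain ⟨f, rfl⟩ : ∃ f, e = 2 * f := ⟨e / 2, by omega⟩
  rw [pow_mul]
  refine pow_mod_one ?_ _
  rcases (show q % 4 = 1 ∨ q % 4 = 3 by omega) with h | h <;> rw [Nat.pow_mod, h]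

theorem pow_mod_odd (h : q % 4 = 3) (he : e % 2 = 1) : q ^ e % 4 = 3 := by
  obtain ⟨f, rfl⟩ : ∃ f, e = f + 1 := ⟨e - 1, by omega⟩
  rw [pow_succ, Nat.mul_mod, pow_mod_even (by omega) (by omega), h]

theorem sq_of_pm {s : ℕ} (h : s ∣ q ^ e - 1 ∨ s ∣ q ^ e + 1) : s ∣ q ^ (2 * e) - 1 := by
  rw [mul_comm, pow_mul, ← one_pow 2, Nat.sq_sub_sq]
  rcases h with h | h
  · exact h.mul_left _
  · exact h.mul_right _

end Arith

section Gen

variable {F : Type} [Field F] [Fintype F] (p : ℕ) [Fact p.Prime] [CharP F p]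

omit [Fact p.Prime] in
theorem ne_char {r i : ℕ} (hr : r.Prime) (hi : 0 < i)
    (ho : orderOf ((Fintype.card F : ℕ) : ZMod r) = i) : r ≠ p := by
  rintro rfl
  have := Fact.mk hr
  rw [(ZMod.natCast_eq_zero_iff _ _).2 (S2474.p_dvd (F := F) r), orderOf_zero] at ho
  omega

theorem Ty.pos {i e : ℕ} {s : Bool} (h : Ty i e s) : 0 < i := by
  rcases h with ⟨h, ⟨-, rfl⟩ | ⟨-, rfl, -⟩⟩ <;> omega

theorem card_mod_two (hp : p ≠ 2) : Fintype.card F % 2 = 1 :=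
  Nat.odd_iff.1 (spec_odd_card p hp)

include p in
theorem pr_gen {V : Type*} [AddCommGroup V] [Module F V] [FiniteDimensional F V]
    {x : Module.End F V} (hx : IsUnit x)
    (hR : (evs (AlgebraicClosure F) x).map (fun ν => ν⁻¹) = evs (AlgebraicClosure F) x) {n : ℕ}
    (hd : finrank F V ≤ 2 * n + 1) {s : ℕ} (hs : s.Prime) (h : s ∣ orderOf x) :
    s = 2 ∨ s ∣ Fintype.card F ∨ ∃ e, 0 < e ∧ e ≤ n ∧ s ∣ Fintype.card F ^ (2 * e) - 1 := by
  classical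
  by_cases h2 : s = 2
  · exact .inl h2
  by_cases h3 : s = p
  · exact .inr (.inl (h3 ▸ S2474.p_dvd p))
  obtain ⟨μ, hμ, h1⟩ := spec_exists_dvd_orderOf (K := AlgebraicClosure F) p hs h3 h
  have h0 := ne_zero_of_mem_evs hx hμ
  obtain ⟨e, R, he0, he, -, hR', -⟩ := split_orbit (F := F) (evs_map_frob x) hR hμ
    (spec_ne_inv_of_dvd (lt_of_le_of_ne hs.two_le (Ne.symm h2)) h1 h0)
  have hc := congrArg Multiset.card hR'
  rw [evs_card, Multiset.card_add, card_specPM] at hc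
  exact .inr (.inr ⟨e, he0, by omega,
    sq_of_pm ((spec_orderOf_dvd_pm h0 he).imp h1.trans h1.trans)⟩)

include p in
theorem pr_omega {ι : Type} [Fintype ι] [DecidableEq ι] {P : QuadraticForm F (ι → F)}
    (hP : (polarBilin P).Nondegenerate) {n : ℕ} (hd : finrank F (ι → F) ≤ 2 * n + 1) {s : ℕ}
    (hs : s.Prime) (h : Om (POmega F P) s) :
    s = 2 ∨ s ∣ Fintype.card F ∨ ∃ e, 0 < e ∧ e ≤ n ∧ s ∣ Fintype.card F ^ (2 * e) - 1 := by
  obtain ⟨x, rfl⟩ := h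
  obtain ⟨g, -, hg⟩ := lift_dvd x
  exact pr_gen p ((Group.isUnit g).map (specO P)) (evs_specO_map hP g) hd hs
    (by rwa [orderOf_specO])

/-- Torus elements in `PSp`. -/
theorem om_psp {n e f M N : ℕ} (he : 0 < e) (hf : 0 < f) (h : e + f ≤ n)
    (hM : M ∣ Fintype.card F ^ e - 1 ∨ M ∣ Fintype.card F ^ e + 1)
    (hN : N ∣ Fintype.card F ^ f - 1 ∨ N ∣ Fintype.card F ^ f + 1) :
    ∃ x : PSp n F, M ∣ 2 * orderOf x ∧ N ∣ 2 * orderOf x ∧ (e + f < n → p ∣ orderOf x) := by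
  obtain ⟨μ, h1, rfl, h2⟩ := spec_exists_torus_gen p (AlgebraicClosure F) he hM
  obtain ⟨ν, h3, rfl, h4⟩ := spec_exists_torus_gen p (AlgebraicClosure F) hf hN
  obtain ⟨x, h5, h6, h7⟩ := exists_PSp_orbits p h1 h3 he h2 h4 h
  exact ⟨x, h5, h6 hf, h7⟩

theorem om_psp_one {n e M : ℕ} (he : 0 < e) (h : e ≤ n)
    (hM : M ∣ Fintype.card F ^ e - 1 ∨ M ∣ Fintype.card F ^ e + 1) :
    ∃ x : PSp n F, M ∣ 2 * orderOf x ∧ (e < n → p ∣ orderOf x) := by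
  obtain ⟨μ, h1, rfl, h2⟩ := spec_exists_torus_gen p (AlgebraicClosure F) he hM
  obtain ⟨x, h5, -, h7⟩ := exists_PSp_orbits p (n := n) (ν := 1) (f := 0) h1 one_ne_zero he h2
    (by simp) h
  exact ⟨x, h5, h7⟩

theorem tor_pm {M q e : ℕ} {s : Bool} (h : M ∣ tor q e s) : M ∣ q ^ e - 1 ∨ M ∣ q ^ e + 1 := by
  cases s
  · exact .inr h
  · exact .inl h

theorem psp_no2_odd (hp : p ≠ 2) {n r T : ℕ} (hr : r.Prime) (hr2 : r ≠ 2) (hrp : r ≠ p)
    (hs : ¬ SpecSmall (Fintype.card F) n r)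
    (hT : 2 * T + 1 = Fintype.card F ^ n ∨ 2 * T = Fintype.card F ^ n + 1) (hrT : r ∣ T)
    (hodd : Odd T) : ¬ Om (PSp n F) (2 * r) := by
  classical
  rintro ⟨x, h⟩
  obtain ⟨g, rfl⟩ := QuotientGroup.mk_surjective x
  obtain ⟨μ, t, R, h3, h4, h5, h6, h7, -, h8⟩ := (spec_small_or_top p hp ((Group.isUnit g).map _)
    (evs_specSp_map (K := AlgebraicClosure F) g) (n := n) (by rw [sp_finrank_std]; omega) hr hr2
    hrp (((dvd_mul_left _ _).trans h.symm.dvd).trans (S2474.dvd_sp g))).resolve_left hs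
  have h9 : R = 0 := by
    have h10 := congrArg Multiset.card h7
    rw [evs_specSp_card, Multiset.card_add, card_specPM] at h10
    exact Multiset.card_eq_zero.1 (by omega)
  rw [h9, add_zero] at h7
  obtain ⟨c, h10, h11⟩ : ∃ c : F, c * c = 1 ∧ μ ^ t = algebraMap F _ c := by
    rw [two_mul, pow_add, mul_self_eq_one_iff] at h6
    rcases h6 with h6 | h6
    · exact ⟨1, by simp, by simpa using h6⟩
    · exact ⟨-1, by simp, by simpa using h6⟩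
  have h12 := pow_mul_eq_of_count_le p (x := specSp F n g) (k := t) (b := 0) (c := c)
    (fun ν hν => by
      rw [h7] at hν
      have h13 : ∀ i, (μ ^ Fintype.card F ^ i) ^ t = algebraMap F _ c := fun i => by
        rw [← pow_mul, mul_comm, pow_mul, h11, ← map_pow, FiniteField.pow_card_pow]
      obtain ⟨i, -, rfl | rfl⟩ := mem_specPM.1 hν
      · exact h13 i
      · rw [inv_pow, h13, ← map_inv₀, ← eq_inv_of_mul_eq_one_left h10]) h8
  rw [pow_zero, mul_one] at h12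
  have h13 := h.symm.dvd.trans ((specProj_specSp.orderOf_dvd_iff g t).2 ⟨_, h12⟩)
  rw [eq_of_dvd hr h5 hT ((dvd_mul_left _ _).trans h13) hrT] at h13
  exact (Nat.not_even_iff_odd.2 hodd) (even_iff_two_dvd.2 ((dvd_mul_right _ _).trans h13))

theorem ty_zero {q n i : ℕ} (hn : 0 < n) (h : II 0 q n i) :
    ∃ s, Ty i n s ∧ (q % 2 = 1 → q ^ n % 4 = if s then 3 else 1) := by
  rcases h with ⟨-, ⟨rfl, h⟩ | ⟨rfl, h, h'⟩⟩ | ⟨h, -⟩ | ⟨h, -⟩
  · refine ⟨false, ⟨hn, .inl ⟨rfl, rfl⟩⟩, fun hq => ?_⟩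
    rcases h with h | h | h
    · omega
    · exact pow_mod_even hq h
    · exact pow_mod_one h _
  · exact ⟨true, ⟨hn, .inr ⟨rfl, rfl, h⟩⟩, fun hq => pow_mod_odd (by omega) h⟩
  · omega
  · omega

theorem ls_psp {n : ℕ} (hn : 2 ≤ n) (hs : n = 2 → 3 ≤ Fintype.card F) :
    LS (PSp n F) 0 (Fintype.card F) n := by
  obtain ⟨p, hp⟩ := CharP.exists F
  have := Fact.mk (CharP.char_is_prime F p)
  have hq : 0 < Fintype.card F := Fintype.card_pos
  refine ⟨fun s hs h => ?_, fun i r hi hr hr2 ho => ?_, fun i r k hi hr hr2 ho hk => ?_⟩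
  · obtain ⟨x, rfl⟩ := h
    obtain ⟨g, rfl⟩ := QuotientGroup.mk_surjective x
    exact pr_gen p ((Group.isUnit g).map (specSp F n)) (evs_specSp_map g)
      (by rw [sp_finrank_std]; omega) hs (S2474.dvd_sp g)
  · obtain ⟨s, h1, h2⟩ := ty_zero (by omega) hi
    have hrp := ne_char p hr h1.pos ho
    by_cases hp2 : p = 2
    · subst hp2
      intro h
      refine (S2472.result 2 n hn hs r hr hr2 hrp ((h.of_dvd (dvd_mul_left _ _)).dvd_card) i n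
        ho.symm ?_).2 (by omega) (by rw [mul_comm]; exact h)
      rcases h1.2 with ⟨-, rfl⟩ | ⟨-, rfl, h3⟩
      · exact .inr ⟨even_two_mul _, rfl⟩
      · exact .inl ⟨Nat.odd_iff.2 h3, rfl⟩
    · obtain ⟨T, h3, h4, h5⟩ := h1.exists_T hq hr hr2 ho (h2 (card_mod_two p hp2))
      exact psp_no2_odd p hp2 hr hr2 hrp (h1.not_small hq hr ho le_rfl) h3 h4 h5
  · obtain ⟨s, h1, -⟩ := ty_zero (by omega) hi
    obtain ⟨x, hx, -⟩ := om_psp_one p (n := n) h1.1 le_rfl (tor_pm (h1.dvd_tor hq hr ho hk))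
    exact Om.of_dvd ⟨x, rfl⟩
      ((hr.odd_of_ne_two hr2).pow.coprime_two_right.dvd_of_dvd_mul_left hx)

/-- Orders prime to `2 p` agree in types `B` and `C`. -/
theorem om_odd_iff (hp : p ≠ 2) {n N : ℕ} (hn : 1 ≤ n) (hN : N.Coprime (2 * p)) :
    Om (POmega F (quadFormOdd n F)) N ↔ Om (PSp n F) N :=
  (specOm_iff (two_ne p hp) hn).trans ((S2474.caseA p hp hN).trans
    ⟨fun ⟨x, hx⟩ => Om.of_dvd ⟨x, rfl⟩ hx, fun ⟨x, hx⟩ => ⟨x, hx.symm.dvd⟩⟩)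

theorem ls_odd {n : ℕ} (hn : 3 ≤ n) (hodd : Odd (Fintype.card F)) :
    LS (POmega F (quadFormOdd n F)) 0 (Fintype.card F) n := by
  obtain ⟨p, hp⟩ := CharP.exists F
  have hpp := CharP.char_is_prime F p
  have := Fact.mk hpp
  have hp2 : p ≠ 2 := by
    rintro rfl
    exact (Nat.not_even_iff_odd.2 hodd) (even_iff_two_dvd.2 (S2474.p_dvd 2))
  have h := ls_psp (F := F) (n := n) (by omega) (by omega)
  refine ⟨fun s hs h1 => ?_, fun i r hi hr hr2 ho h1 => ?_, fun i r k hi hr hr2 ho hk => ?_⟩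
  · exact pr_omega p (quad_odd_nondeg (m := n) (two_ne p hp2)) o_finrank_odd.le hs h1
  · exact h.no2 i r hi hr hr2 ho ((S2474.result hodd n hn 2 r Nat.prime_two hr hr2.symm).1 h1)
  · obtain ⟨s, h1, -⟩ := ty_zero (by omega) hi
    refine (om_odd_iff p hp2 (by omega) (Nat.Coprime.pow_left _ (Nat.Coprime.mul_right ?_ ?_))).2
      (h.low i r k hi hr hr2 ho hk)
    · exact (Nat.coprime_primes hr Nat.prime_two).2 hr2
    · exact (Nat.coprime_primes hr hpp).2 (ne_char p hr h1.pos ho)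

theorem tb_idk (k : ℕ) (ε : ℤˣ) : TB F (k + 1) ε 1 1 1 1 := by
  induction k with
  | zero => exact tb_id ε
  | succ k ih => simpa [add_comm, add_left_comm] using (tb_id (F := F) 1).prod ih

variable {ι : Type} [Fintype ι] [DecidableEq ι] {P : QuadraticForm F (ι → F)}

/-- From blocks to elements of `PΩ`. -/
theorem om_of_tb (hP : (polarBilin P).Nondegenerate) {m : ℕ} {ε : ℤˣ} (hm : 2 ≤ m)
    (h' : OTy P (m + 1) ε) {N j : ℕ} (h : TB F (m + 1) ε 1 1 N j) :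
    ∃ x : POmega F P, N ∣ 2 * orderOf x ∧ PD p j (2 * orderOf x) := by
  obtain ⟨g, h1, h2, h3, h4⟩ := h.blk hP h'
  have hd := h'.1
  obtain ⟨x, hx⟩ := down_dvd hP (by omega)
    ((mem_commutator_OG_iff hP (not_oExc_of_finrank (by omega)) g).2 ⟨h1, h2⟩)
  exact ⟨x, h3.trans hx, h4.pd (specO_pow_eq_one hx)⟩

theorem om_tor (hP : (polarBilin P).Nondegenerate) {m : ℕ} {ε : ℤˣ} (hm : 2 ≤ m)
    (h' : OTy P (m + 1) ε) {e M : ℕ} {s : Bool} (he : 0 < e)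
    (h : e ≤ m ∨ (e = m + 1 ∧ sg s = ε)) (hM : Odd M) (hd : M ∣ tor (Fintype.card F) e s) :
    Om (POmega F P) M := by
  have h1 : ∃ d t N j, M ∣ N ∧ TB F (m + 1) ε d t N j := by
    rcases h with h | ⟨rfl, rfl⟩
    · obtain ⟨k, rfl⟩ := Nat.exists_eq_add_of_le h
      have := (tb_tor (F := F) he s).prod (tb_idk k (sg s * ε))
      rw [← mul_assoc, Int.units_mul_self, one_mul] at this
      exact ⟨_, _, _, _, hd.trans (Nat.dvd_lcm_left _ 1), this⟩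
    · exact ⟨_, _, _, _, hd, tb_tor he s⟩
  obtain ⟨d, t, N, j, h2, h3⟩ := h1
  obtain ⟨g, -, -, h4, -⟩ := h3.blk hP h'
  have hd := h'.1
  obtain ⟨x, hx⟩ := down_dvd hP (by omega) (g := g ^ 2)
    ((mem_commutator_OG_iff hP (not_oExc_of_finrank (by omega)) _).2 ⟨by simp, by simp⟩)
  have h5 : orderOf g ∣ 2 * (2 * orderOf x) := by
    rw [orderOf_dvd_iff_pow_eq_one, pow_mul, ← orderOf_dvd_iff_pow_eq_one]
    exact hx
  exact Om.of_dvd ⟨x, rfl⟩ (hM.coprime_two_right.dvd_of_dvd_mul_left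
    (hM.coprime_two_right.dvd_of_dvd_mul_left ((h2.trans h4).trans h5)))

theorem ls_even (hP : (polarBilin P).Nondegenerate) {m t : ℕ} {ε : ℤˣ} (hm : 2 ≤ m)
    (h' : OTy P (m + 1) ε)
    (hI : ∀ i, II t (Fintype.card F) (m + 1) i → ∃ e s, Ty i e s ∧
      (Fintype.card F % 2 = 1 → Fintype.card F ^ e % 4 = if s then 3 else 1) ∧
      ((e = m ∧ (Fintype.card F % 2 = 1 → OG.negOne P ∈ commutator (OG P))) ∨
        (e = m + 1 ∧ sg s = ε))) :
    LS (POmega F P) t (Fintype.card F) (m + 1) := by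
  obtain ⟨p, hp⟩ := CharP.exists F
  have := Fact.mk (CharP.char_is_prime F p)
  have hq : 0 < Fintype.card F := Fintype.card_pos
  have hd := h'.1
  refine ⟨fun s hs h => pr_omega p hP (by omega) hs h, fun i r hi hr hr2 ho => ?_,
    fun i r k hi hr hr2 ho hk => ?_⟩
  · obtain ⟨e, s, h1, h2, h3⟩ := hI i hi
    have hrp := ne_char p hr h1.pos ho
    rintro ⟨x, hx⟩
    obtain ⟨g, hg, h4⟩ := lift hP (by omega) x
    have h5 : r ∣ orderOf g := (dvd_mul_left _ _).trans (hx.symm.dvd.trans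
      ((h4 _).2 (.inl (specO_pow_eq_one dvd_rfl))))
    have h6 := (h4 _).1 hx.dvd
    have h7 : ∀ T, Odd T → ¬ (specO P g ^ T = 1 ∨ specO P g ^ T = -1) := fun T hT h =>
      (Nat.not_even_iff_odd.2 hT) (even_iff_two_dvd.2
        ((dvd_mul_right _ _).trans (hx.symm.dvd.trans ((h4 _).2 h))))
    by_cases hp2 : p = 2
    · subst hp2
      have h8 : (-1 : Module.End F (ι → F)) = 1 := by
        ext v j
        simp [CharTwo.neg_eq]
      rw [h8, or_self] at h6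
      exact h7 r (hr.odd_of_ne_two hr2) (.inl (even_sub hP hm hd
        ((mem_commutator_OG_iff hP (not_oExc_of_finrank (by omega)) g).1 hg).1 hr hr2
        (h1.not_small hq hr ho (by omega)) h5 h6))
    · have h8 := card_mod_two (F := F) p hp2
      obtain ⟨T, h9, h10, h11⟩ := h1.exists_T hq hr hr2 ho (h2 h8)
      rcases h3 with ⟨rfl, h3⟩ | ⟨rfl, -⟩
      · exact h7 r (hr.odd_of_ne_two hr2) (odd_sub p hp2 hP hm hd (h3 h8) hg hr hr2 hrp
          (h1.not_small hq hr ho le_rfl) h9 h10 h11 h5 h6)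
      · exact h7 T h11 (.inl (odd_top p hp2 hP hd hg hr hr2 hrp (h1.not_small hq hr ho le_rfl)
          h9 h10 h5))
  · obtain ⟨e, s, h1, -, h3⟩ := hI i hi
    exact om_tor hP hm h' h1.1 (h3.imp (fun h => h.1.le) id) (hr.odd_of_ne_two hr2).pow
      (h1.dvd_tor hq hr ho hk)

theorem two_ne_of_odd (h : Fintype.card F % 2 = 1) : (2 : F) ≠ 0 := by
  obtain ⟨p, hp⟩ := CharP.exists F
  have := Fact.mk (CharP.char_is_prime F p)
  refine two_ne p ?_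
  rintro rfl
  have := S2474.p_dvd (F := F) 2
  omega

theorem ls_plus {n : ℕ} (hn : 4 ≤ n) :
    LS (POmega F (quadFormPlus n F)) 1 (Fintype.card F) n := by
  obtain ⟨m, rfl⟩ : ∃ m, n = m + 1 := ⟨n - 1, by omega⟩
  refine ls_even (P := quad_plus (m + 1) F) quad_plus_nondeg (by omega) (oTy_plus _) fun i hi => ?_
  rcases hi with ⟨h, -⟩ | ⟨-, ⟨rfl, h⟩ | ⟨hi, h, h'⟩ | ⟨rfl, h, h'⟩⟩ | ⟨h, -⟩
  · omega
  · exact ⟨m, false, ⟨by omega, .inl ⟨rfl, rfl⟩⟩, fun hq => pow_mod_one (by omega) _,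
      .inl ⟨rfl, fun hq => (negOne_mem_commutator_plus_iff (two_ne_of_odd hq) _).2
        (pow_mod_one (by omega) _)⟩⟩
  · exact ⟨m, true, ⟨by omega, .inr ⟨rfl, hi, by omega⟩⟩,
      fun hq => pow_mod_odd (by omega) (by omega),
      .inl ⟨rfl, fun hq => (negOne_mem_commutator_plus_iff (two_ne_of_odd hq) _).2
        (pow_mod_even hq h)⟩⟩
  · exact ⟨m + 1, true, ⟨by omega, .inr ⟨rfl, rfl, h⟩⟩, fun hq => pow_mod_odd (by omega) h,
      .inr ⟨rfl, rfl⟩⟩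
  · omega

theorem ls_minus {m : ℕ} (hm : 3 ≤ m) {a b : F}
    (hab : ∀ z₁ z₂ : F, z₁ ^ 2 + a * z₁ * z₂ + b * z₂ ^ 2 = 0 → z₁ = 0 ∧ z₂ = 0) :
    LS (POmega F (quadFormMinus m F a b)) 2 (Fintype.card F) (m + 1) := by
  refine ls_even (P := quad_minus m F a b) (quad_minus_nondeg (o_disc_ne_zero_of_anisotropic hab))
    (by omega) (oTy_minus hab _) fun i hi => ?_
  rcases hi with ⟨h, -⟩ | ⟨h, -⟩ | ⟨-, ⟨rfl, h⟩ | ⟨rfl, h⟩ | ⟨hi, h, h'⟩⟩
  · omega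
  · omega
  · refine ⟨m + 1, false, ⟨by omega, .inl ⟨rfl, rfl⟩⟩, fun hq => ?_, .inr ⟨rfl, rfl⟩⟩
    rcases h with h | h | h
    · omega
    · exact pow_mod_even hq h
    · exact pow_mod_one h _
  · exact ⟨m, false, ⟨by omega, .inl ⟨rfl, rfl⟩⟩, fun hq => pow_mod_even hq (by omega),
      .inl ⟨rfl, fun hq => (negOne_mem_commutator_minus_iff (two_ne_of_odd hq) _ hab).2
        (pow_mod_odd (by omega) (by omega))⟩⟩
  · exact ⟨m, true, ⟨by omega, .inr ⟨rfl, hi, by omega⟩⟩, fun hq => by omega,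
      .inl ⟨rfl, fun hq => by omega⟩⟩

end Gen

end Cfsg.Agent.SpS.LO
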