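import Mathlib
import Cfsg.Agent.SpS.LO2

/-!
More generic spectral facts for the symplectic and orthogonal groups.
-/

set_option autoImplicit false

namespace Cfsg.Agent.SpS.LO

open Cfsg Polynomial Module QuadraticMap Cfsg.Agent.Cl Cfsg.Agent.Cl.OS Cfsg.Agent.Cl.SpO

/-- `m` divides `q ^ e - 1` or `q ^ e + 1`. -/
def PM (q e m : ℕ) : Prop := m ∣ q ^ e - 1 ∨ m ∣ q ^ e + 1

instance (q e m : ℕ) : Decidable (PM q e m) := by unfold PM; infer_instance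

/-- Further spectral facts. -/
structure LX (L : Type*) [Group L] (t q n : ℕ) : Prop where
  ls : LS L t q n
  q2 : 2 ≤ q
  rg : t = 0 ∧ 2 ≤ n ∨ (t = 1 ∨ t = 2) ∧ 4 ≤ n
  pw : ∀ r s : ℕ, r.Prime → s.Prime → r ∣ q → s ∣ q → r = s
  pp : ∀ r k, r.Prime → ¬ r ∣ q → 2 < r ^ k → Om L (r ^ k) → ∃ e ≤ n, 0 < e ∧ PM q e (r ^ k)
  two : ∀ r s, r.Prime → s.Prime → r ≠ s → 2 < r → 2 < s → ¬ r ∣ q → ¬ s ∣ q → Om L (r * s) →
    (∃ e ≤ n, 0 < e ∧ PM q e (r * s)) ∨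
      ∃ e ≤ n, ∃ f ≤ n, 0 < e ∧ 0 < f ∧ e + f ≤ n ∧ PM q e r ∧ PM q f s
  lowg : ∀ M e, 0 < e → (e < n ∨ t = 0 ∧ e = n) → M.Coprime (2 * q) → PM q e M → Om L M
  omp : t = 0 → n = 2 → q.Prime → Om L q
  padj : t = 0 → n = 2 → q.Prime → ∀ r, r.Prime → r ≠ 2 → orderOf (q : ZMod r) = 4 →
    ¬ Om L (r * q)

theorem LX.of_om {L G : Type*} [Group L] [Group G] {t q n : ℕ} (h : LX L t q n)
    (e : ∀ m, Om G m ↔ Om L m) : LX G t q n :=
  ⟨h.ls.of_om e, h.q2, h.rg, h.pw, fun r k h1 h2 h3 h4 => h.pp r k h1 h2 h3 ((e _).1 h4),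
    fun r s h1 h2 h3 h4 h5 h6 h7 h8 => h.two r s h1 h2 h3 h4 h5 h6 h7 ((e _).1 h8),
    fun M f h1 h2 h3 h4 => (e _).2 (h.lowg M f h1 h2 h3 h4),
    fun h1 h2 h3 => (e _).2 (h.omp h1 h2 h3),
    fun h1 h2 h3 r h4 h5 h6 h7 => h.padj h1 h2 h3 r h4 h5 h6 ((e _).1 h7)⟩

theorem pow_dvd_lcm {r k a b : ℕ} (hr : r.Prime) (h : r ^ k ∣ Nat.lcm a b) :
    r ^ k ∣ a ∨ r ^ k ∣ b := by
  rcases Nat.eq_zero_or_pos a with rfl | ha
  · exact .inl (dvd_zero _)
  rcases Nat.eq_zero_or_pos b with rfl | hb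
  · exact .inr (dvd_zero _)
  rw [hr.pow_dvd_iff_le_factorization (Nat.lcm_pos ha hb).ne', Nat.factorization_lcm ha.ne' hb.ne',
    Finsupp.sup_apply, le_sup_iff] at h
  rwa [hr.pow_dvd_iff_le_factorization ha.ne', hr.pow_dvd_iff_le_factorization hb.ne']

theorem pow_dvd_mlcm {r k : ℕ} (hr : r.Prime) (hk : 1 < r ^ k) (S : Multiset ℕ) :
    r ^ k ∣ S.lcm → ∃ a ∈ S, r ^ k ∣ a := by
  induction S using Multiset.induction_on with
  | empty => intro h; exact absurd (Nat.dvd_one.1 (by simpa using h)) hk.ne'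
  | cons a S ih =>
    intro h
    rw [Multiset.lcm_cons, lcm_eq_nat_lcm] at h
    rcases pow_dvd_lcm hr h with h | h
    · exact ⟨a, Multiset.mem_cons_self _ _, h⟩
    · obtain ⟨b, h1, h2⟩ := ih h
      exact ⟨b, Multiset.mem_cons_of_mem h1, h2⟩

section Gen

variable {F : Type} [Field F] [Fintype F] (p : ℕ) [Fact p.Prime] [CharP F p]

section End

variable {V : Type*} [AddCommGroup V] [Module F V] [FiniteDimensional F V] {x : Module.End F V}

theorem pp_gen (hx : IsUnit x)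
    (hR : (evs (AlgebraicClosure F) x).map (fun ν => ν⁻¹) = evs (AlgebraicClosure F) x) {n : ℕ}
    (hd : finrank F V ≤ 2 * n + 1) {r k : ℕ} (hr : r.Prime) (hrp : r ≠ p) (h2 : 2 < r ^ k)
    (h : r ^ k ∣ orderOf x) : ∃ e ≤ n, 0 < e ∧ PM (Fintype.card F) e (r ^ k) := by
  classical
  have hp : p.Prime := Fact.out
  have h1 := pow_mul_eq_of_evs (K := AlgebraicClosure F) p (x := x) (c := 1)
    (k := ((evs (AlgebraicClosure F) x).map orderOf).lcm) (fun μ hμ => by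
      rw [map_one, ← orderOf_dvd_iff_pow_eq_one]
      exact Multiset.dvd_lcm (Multiset.mem_map_of_mem _ hμ)) (Nat.lt_pow_self hp.one_lt).le
  rw [one_pow, map_one, ← orderOf_dvd_iff_pow_eq_one] at h1
  obtain ⟨_, h3, h4⟩ := pow_dvd_mlcm hr (by omega) _
    ((((Nat.coprime_primes hr hp).2 hrp).pow _ _).dvd_of_dvd_mul_right (h.trans h1))
  obtain ⟨μ, hμ, rfl⟩ := Multiset.mem_map.1 h3
  have h0 := ne_zero_of_mem_evs hx hμ
  obtain ⟨e, R, he0, he, -, hR', -⟩ := split_orbit (F := F) (evs_map_frob x) hR hμ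
    (spec_ne_inv_of_dvd h2 h4 h0)
  have hc := congrArg Multiset.card hR'
  rw [evs_card, Multiset.card_add, card_specPM] at hc
  exact ⟨e, by omega, he0, (spec_orderOf_dvd_pm h0 he).imp h4.trans h4.trans⟩

theorem two_gen (hx : IsUnit x)
    (hR : (evs (AlgebraicClosure F) x).map (fun ν => ν⁻¹) = evs (AlgebraicClosure F) x) {n : ℕ}
    (hd : finrank F V ≤ 2 * n + 1) {r s : ℕ} (hr : r.Prime) (hs : s.Prime) (hrs : r ≠ s)
    (hr2 : 2 < r) (hs2 : 2 < s) (hrp : r ≠ p) (hsp : s ≠ p) (h : r * s ∣ orderOf x) :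
    (∃ e ≤ n, 0 < e ∧ PM (Fintype.card F) e (r * s)) ∨ ∃ e ≤ n, ∃ f ≤ n, 0 < e ∧ 0 < f ∧
      e + f ≤ n ∧ PM (Fintype.card F) e r ∧ PM (Fintype.card F) f s := by
  classical
  obtain ⟨μ, hμ, h1⟩ := spec_exists_dvd_orderOf (K := AlgebraicClosure F) p hr hrp
    ((dvd_mul_right _ _).trans h)
  obtain ⟨ν, hν, h2⟩ := spec_exists_dvd_orderOf (K := AlgebraicClosure F) p hs hsp
    ((dvd_mul_left _ _).trans h)
  have h0 := ne_zero_of_mem_evs hx hμ
  have h0' := ne_zero_of_mem_evs hx hν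
  obtain ⟨e, R, he0, he, -, hR', h3, h4⟩ := split_orbit (F := F) (evs_map_frob x) hR hμ
    (spec_ne_inv_of_dvd hr2 h1 h0)
  have hc := congrArg Multiset.card hR'
  rw [evs_card, Multiset.card_add, card_specPM] at hc
  rw [hR', Multiset.mem_add] at hν
  rcases hν with hν | hν
  · have h5 := ((Nat.coprime_primes hr hs).2 hrs).mul_dvd_of_dvd_of_dvd h1 (h2.trans
      (orderOf_dvd_of_pow_eq_one ((SpecOrb.of_mem_specPM hν).pow_eq_one (pow_orderOf_eq_one μ))))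
    exact .inl ⟨e, by omega, he0, (spec_orderOf_dvd_pm h0 he).imp h5.trans h5.trans⟩
  · obtain ⟨f, R', hf0, hf, -, h5, -⟩ := split_orbit (F := F) h3 h4 hν
      (spec_ne_inv_of_dvd hs2 h2 h0')
    have hc' := congrArg Multiset.card h5
    rw [Multiset.card_add, card_specPM] at hc'
    exact .inr ⟨e, by omega, f, by omega, he0, hf0, by omega,
      (spec_orderOf_dvd_pm h0 he).imp h1.trans h1.trans,
      (spec_orderOf_dvd_pm h0' hf).imp h2.trans h2.trans⟩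

end End

omit [Fact p.Prime] in
theorem ne_p {r : ℕ} (h : ¬ r ∣ Fintype.card F) : r ≠ p := by
  rintro rfl
  exact h (S2474.p_dvd r)

theorem eq_p {r : ℕ} (hr : r.Prime) (h : r ∣ Fintype.card F) : r = p := by
  obtain ⟨k, -, hk⟩ := FiniteField.card F p
  rw [hk] at h
  exact (Nat.prime_dvd_prime_iff_eq hr Fact.out).1 (hr.dvd_of_dvd_pow h)

theorem tor_of_pm {M q e : ℕ} (h : PM q e M) : ∃ s, M ∣ tor q e s :=
  h.elim (fun h => ⟨true, h⟩) fun h => ⟨false, h⟩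

theorem lx_psp {n : ℕ} (hn : 2 ≤ n) (hs : n = 2 → 3 ≤ Fintype.card F) :
    LX (PSp n F) 0 (Fintype.card F) n := by
  obtain ⟨p, hp⟩ := CharP.exists F
  have := Fact.mk (CharP.char_is_prime F p)
  refine ⟨ls_psp hn hs, Fintype.one_lt_card, .inl ⟨rfl, hn⟩,
    fun r s hr hs h1 h2 => (eq_p p hr h1).trans (eq_p p hs h2).symm, fun r k h1 h2 h3 h4 => ?_,
    fun r s h1 h2 h3 h4 h5 h6 h7 h8 => ?_, fun M e h1 h2 h3 h4 => ?_, fun _ h1 h2 => ?_,
    fun _ h1 h2 r h3 h4 h5 h6 => ?_⟩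
  · obtain ⟨x, hx⟩ := h4
    obtain ⟨g, rfl⟩ := QuotientGroup.mk_surjective x
    exact pp_gen p ((Group.isUnit g).map (specSp F n)) (evs_specSp_map g)
      (by rw [sp_finrank_std]; omega) h1 (ne_p p h2) h3 (hx ▸ S2474.dvd_sp g)
  · obtain ⟨x, hx⟩ := h8
    obtain ⟨g, rfl⟩ := QuotientGroup.mk_surjective x
    exact two_gen p ((Group.isUnit g).map (specSp F n)) (evs_specSp_map g)
      (by rw [sp_finrank_std]; omega) h1 h2 h3 h4 h5 (ne_p p h6) (ne_p p h7) (hx ▸ S2474.dvd_sp g)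
  · obtain ⟨x, hx, -⟩ := om_psp_one p (n := n) h1 (by omega) h4
    exact Om.of_dvd ⟨x, rfl⟩ ((Nat.Coprime.coprime_mul_right_right h3).dvd_of_dvd_mul_left hx)
  · obtain ⟨x, -, hx⟩ := om_psp_one (F := F) p (n := n) (e := 1) (M := 1) one_pos (by omega)
      (.inl (one_dvd _))
    rw [eq_p p h2 dvd_rfl]
    exact Om.of_dvd ⟨x, rfl⟩ (hx (by omega))
  · rw [eq_p p h2 dvd_rfl] at h6
    exact (S2472.result p n hn hs r h3 h4 (ne_char p h3 (by norm_num) h5)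
      ((h6.of_dvd (dvd_mul_right _ _)).dvd_card) 4 2 h5.symm (.inr ⟨by decide, rfl⟩)).2
      (by omega) h6

variable {ι : Type} [Fintype ι] [DecidableEq ι] {P : QuadraticForm F (ι → F)}

theorem lx_omega (hP : (polarBilin P).Nondegenerate) {t n : ℕ}
    (hd : finrank F (ι → F) ≤ 2 * n + 1) (h1 : LS (POmega F P) t (Fintype.card F) n)
    (h2 : t = 0 ∧ 3 ≤ n ∨ (t = 1 ∨ t = 2) ∧ 4 ≤ n)
    (h3 : ∀ M e, 0 < e → (e < n ∨ t = 0 ∧ e = n) → M.Coprime (2 * Fintype.card F) →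
      PM (Fintype.card F) e M → Om (POmega F P) M) :
    LX (POmega F P) t (Fintype.card F) n := by
  obtain ⟨p, hp⟩ := CharP.exists F
  have := Fact.mk (CharP.char_is_prime F p)
  refine ⟨h1, Fintype.one_lt_card, by omega,
    fun r s hr hs h1 h2 => (eq_p p hr h1).trans (eq_p p hs h2).symm, fun r k h1 h2 h3 h4 => ?_,
    fun r s h1 h2 h3 h4 h5 h6 h7 h8 => ?_, h3, fun _ _ => by omega, fun _ _ => by omega⟩
  · obtain ⟨x, hx⟩ := h4
    obtain ⟨g, -, hg⟩ := lift_dvd x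
    exact pp_gen p ((Group.isUnit g).map (specO P)) (evs_specO_map hP g) hd h1 (ne_p p h2) h3
      (by rwa [orderOf_specO, ← hx])
  · obtain ⟨x, hx⟩ := h8
    obtain ⟨g, -, hg⟩ := lift_dvd x
    exact two_gen p ((Group.isUnit g).map (specO P)) (evs_specO_map hP g) hd h1 h2 h3 h4 h5
      (ne_p p h6) (ne_p p h7) (by rwa [orderOf_specO, ← hx])

theorem lx_odd {n : ℕ} (hn : 3 ≤ n) (hodd : Odd (Fintype.card F)) :
    LX (POmega F (quadFormOdd n F)) 0 (Fintype.card F) n := by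
  obtain ⟨p, hp⟩ := CharP.exists F
  have hpp := CharP.char_is_prime F p
  have := Fact.mk hpp
  have hp2 : p ≠ 2 := by
    rintro rfl
    exact (Nat.not_even_iff_odd.2 hodd) (even_iff_two_dvd.2 (S2474.p_dvd 2))
  refine lx_omega (P := quad_odd n F) (quad_odd_nondeg (m := n) (two_ne p hp2)) o_finrank_odd.le
    (ls_odd hn hodd) (.inl ⟨rfl, hn⟩) fun M e h1 h2 h3 h4 => ?_
  exact (om_odd_iff p hp2 (by omega) (h3.coprime_dvd_right
    (Nat.mul_dvd_mul_left _ (S2474.p_dvd p)))).2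
    ((lx_psp (F := F) (n := n) (by omega) (by omega)).lowg M e h1 h2 h3 h4)

theorem lx_even (hP : (polarBilin P).Nondegenerate) {m t : ℕ} {ε : ℤˣ} (hm : 3 ≤ m)
    (ht : t = 1 ∨ t = 2) (h' : OTy P (m + 1) ε) (h : LS (POmega F P) t (Fintype.card F) (m + 1)) :
    LX (POmega F P) t (Fintype.card F) (m + 1) := by
  have hd := h'.1
  refine lx_omega hP (by omega) h (.inr ⟨ht, by omega⟩) fun M e h1 h2 h3 h4 => ?_
  obtain ⟨s, hs⟩ := tor_of_pm h4
  exact om_tor hP (by omega) h' h1 (.inl (by omega))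
    (Nat.coprime_two_right.1 (Nat.Coprime.coprime_mul_right_right h3)) hs

theorem lx_plus {n : ℕ} (hn : 4 ≤ n) :
    LX (POmega F (quadFormPlus n F)) 1 (Fintype.card F) n := by
  have h := ls_plus (F := F) hn
  obtain ⟨m, rfl⟩ : ∃ m, n = m + 1 := ⟨n - 1, by omega⟩
  exact lx_even (P := quad_plus (m + 1) F) quad_plus_nondeg (by omega) (.inl rfl) (oTy_plus _) h

theorem lx_minus {m : ℕ} (hm : 3 ≤ m) {a b : F}
    (hab : ∀ z₁ z₂ : F, z₁ ^ 2 + a * z₁ * z₂ + b * z₂ ^ 2 = 0 → z₁ = 0 ∧ z₂ = 0) :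
    LX (POmega F (quadFormMinus m F a b)) 2 (Fintype.card F) (m + 1) :=
  lx_even (P := quad_minus m F a b) (quad_minus_nondeg (o_disc_ne_zero_of_anisotropic hab)) hm
    (.inr rfl) (oTy_minus hab _) (ls_minus hm hab)

end Gen

end Cfsg.Agent.SpS.LO
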