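import Mathlib
import Cfsg.Agent.SpS.LO2

set_option autoImplicit false

namespace Cfsg.Agent.SpS.LO

open Cfsg Polynomial Module QuadraticMap Cfsg.Agent.Cl Cfsg.Agent.Cl.OS Cfsg.Agent.Cl.SpO

variable {F : Type} [Field F] [Fintype F] {V : Type*} [AddCommGroup V] [Module F V]
  [FiniteDimensional F V] {Q : QuadraticForm F V}

omit [Fintype F] in
theorem lua_rank_step (N : Module.End F V) (W R : Submodule F V) (h1 : R ≤ W)
    (h2 : R ≤ LinearMap.ker N) : finrank F (W.map N) + finrank F R ≤ finrank F W := by
  have h := LinearMap.finrank_range_add_finrank_ker (N.domRestrict W)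
  rw [LinearMap.range_domRestrict, LinearMap.ker_domRestrict] at h
  have h3 : finrank F R = finrank F (R.comap W.subtype) :=
    (Submodule.comapSubtypeEquivOfLe h1).finrank_eq.symm
  have h4 : finrank F (R.comap W.subtype) ≤ finrank F ((LinearMap.ker N).comap W.subtype) :=
    Submodule.finrank_mono (Submodule.comap_mono h2)
  omega

omit [Fintype F] in
theorem lua_rank (N : Module.End F V) {k : ℕ} (h : N ^ (k + 1) = 0)
    (h2 : 2 ≤ finrank F (LinearMap.range (N ^ k))) : 2 * (k + 1) ≤ finrank F V := by
  have key : ∀ i, i ≤ k + 1 → finrank F (LinearMap.range (N ^ i)) + 2 * i ≤ finrank F V := by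
    intro i
    induction i with
    | zero => intro _; simpa using Submodule.finrank_le _
    | succ i ih =>
      intro hi
      have h3 := ih (by omega)
      have h4 : LinearMap.range (N ^ (i + 1)) = (LinearMap.range (N ^ i)).map N := by
        rw [pow_succ', Module.End.mul_eq_comp, LinearMap.range_comp]
      have h5 := lua_rank_step N (LinearMap.range (N ^ i)) (LinearMap.range (N ^ k)) (by
        rintro _ ⟨x, rfl⟩
        refine ⟨(N ^ (k - i)) x, ?_⟩
        rw [← Module.End.mul_apply, ← pow_add]
        congr 2; omega) (by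
        rintro _ ⟨x, rfl⟩
        rw [LinearMap.mem_ker, ← Module.End.mul_apply, ← pow_succ', h]; rfl)
      rw [h4]; omega
  have := key (k + 1) le_rfl
  omega

theorem unip_even [CharP F 2] (hQ : (polarBilin Q).Nondegenerate) {a : OG Q} {c : ℕ} (hc : 0 < c)
    (hd : finrank F V = 2 * c + 2) (h : (specO Q a - 1) ^ (2 * c + 1) = 0) :
    (specO Q a - 1) ^ (2 * c) = 0 := by
  set A : Module.End F V := specO Q a with hA
  set b : Module.End F V := specO Q a⁻¹ with hb
  set N : Module.End F V := A - 1 with hN
  set B := polarBilin Q with hB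
  have hba : b * A = 1 := by rw [hA, hb, ← map_mul, inv_mul_cancel, map_one]
  have hab : A * b = 1 := by rw [hA, hb, ← map_mul, mul_inv_cancel, map_one]
  have hiso : ∀ u v, B (A u) (A v) = B u v := fun u v => specO_isometry a u v
  have hadj : ∀ u v, B (A u) v = B u (b v) := fun u v => by
    rw [← hiso u (b v), ← Module.End.mul_apply, hab]; rfl
  have hbN : Commute b N := by
    rw [hN]; exact Commute.sub_right (hba.trans hab.symm) (Commute.one_right _)
  have hM : b - 1 = -b * N := by rw [hN, mul_sub, neg_mul, hba]; noncomm_ring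
  have hN1 : ∀ u v, B (N u) v = B u ((-b * N) v) := fun u v => by
    rw [← hM, hN]
    simp only [LinearMap.sub_apply, Module.End.one_apply, map_sub, hadj]
  have hNk : ∀ k u v, B ((N ^ k) u) v = B u (((-b) ^ k * N ^ k) v) := by
    intro k
    induction k with
    | zero => intro u v; simp
    | succ k ih =>
      intro u v
      rw [pow_succ' N, Module.End.mul_apply, hN1, ih, ← Module.End.mul_apply,
        ← (hbN.neg_left.mul_pow k), ← pow_succ, hbN.neg_left.mul_pow, pow_succ' N]
  have two : (2 : F) = 0 := CharP.cast_eq_zero F 2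
  have halt : ∀ w, B w w = 0 := fun w => by
    have := o_polar_self Q w
    rw [hB, polarBilin_apply_apply, this, two, zero_mul]
  have hneg : -b = b := by
    ext x
    have : (2 : F) • b x = 0 := by rw [two, zero_smul]
    rw [two_smul] at this
    simpa using (neg_eq_of_add_eq_zero_left this)
  rw [hneg] at hM hNk
  set S : Module.End F V := ∑ i ∈ Finset.range c, b ^ i with hS
  have hSN : Commute S N := Commute.sum_left _ _ _ fun i _ => hbN.pow_left i
  have hbc : b ^ c = 1 + S * b * N := by
    have := geom_sum_mul b c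
    rw [← hS, hM] at this
    rw [mul_assoc, this]; abel
  have hg : ∀ u, B ((N ^ (2 * c)) u) u = 0 := fun u => by
    rw [two_mul, pow_add, Module.End.mul_apply, hNk, Module.End.mul_apply, hbc]
    simp only [LinearMap.add_apply, Module.End.one_apply, map_add, halt, zero_add]
    rw [hNk, ← Module.End.mul_apply, ← Module.End.mul_apply]
    have h1 : b ^ c * N ^ c * (S * b * N * N ^ c) = b ^ c * (S * b) * N ^ (2 * c + 1) := by
      have h2 : N ^ c * (S * b) = (S * b) * N ^ c := ((hSN.mul_left hbN).pow_right c).eq.symm
      calc b ^ c * N ^ c * (S * b * N * N ^ c) = b ^ c * (N ^ c * (S * b)) * (N * N ^ c) := by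
            noncomm_ring
        _ = b ^ c * (S * b) * (N ^ c * (N * N ^ c)) := by rw [h2]; noncomm_ring
        _ = _ := by rw [← pow_succ', ← pow_add]; congr 2; omega
    rw [mul_assoc (b ^ c * N ^ c), h1, h]; simp
  by_contra hne
  obtain ⟨u, hu⟩ : ∃ u, (N ^ (2 * c)) u ≠ 0 := by
    by_contra h'
    push Not at h'
    exact hne (LinearMap.ext h')
  obtain ⟨v, hv⟩ : ∃ v, B ((N ^ (2 * c)) u) v ≠ 0 := by
    by_contra h'
    push Not at h'
    exact hu (hQ.1 _ h')
  have hv' : B ((N ^ (2 * c)) v) u ≠ 0 := by
    intro h0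
    have := hg (u + v)
    simp only [map_add, LinearMap.add_apply, hg, h0, zero_add, add_zero] at this
    exact hv this
  have hind : LinearIndependent F
      ![(⟨(N ^ (2 * c)) u, u, rfl⟩ : LinearMap.range (N ^ (2 * c))), ⟨(N ^ (2 * c)) v, v, rfl⟩] := by
    rw [LinearIndependent.pair_iff]
    intro s t hst
    have h0 : s • (N ^ (2 * c)) u + t • (N ^ (2 * c)) v = 0 := by
      simpa using congrArg Subtype.val hst
    have h1 := congrArg (fun x => B x v) h0
    have h2 := congrArg (fun x => B x u) h0
    simp only [map_add, map_smul, LinearMap.add_apply, LinearMap.smul_apply, hg, smul_eq_mul,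
      mul_zero, add_zero, zero_add, map_zero, LinearMap.zero_apply] at h1 h2
    exact ⟨(mul_eq_zero.1 h1).resolve_right hv, (mul_eq_zero.1 h2).resolve_right hv'⟩
  have h2 := hind.fintype_card_le_finrank
  have h3 := lua_rank N h (by simpa using h2)
  omega

end Cfsg.Agent.SpS.LO
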