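import Mathlib
import Cfsg.Agent.SpS.LO1

/-! Orders of isometries of dimension at most `8` over the field with two elements: eigenvalue types. -/

set_option autoImplicit false

namespace Cfsg.Agent.SpS.LO.LUg

open Cfsg Polynomial Module QuadraticMap Cfsg.Agent.Cl Cfsg.Agent.Cl.OS Cfsg.Agent.Cl.SpO

variable {F : Type} [Field F] [Fintype F] {V : Type*} [AddCommGroup V] [Module F V]
  [FiniteDimensional F V]

theorem char_two (h : Fintype.card F = 2) : CharP F 2 := by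
  obtain ⟨p, hp⟩ := CharP.exists F
  have h1 : (p : ℤ) ∣ (Fintype.card F : ℤ) := (CharP.intCast_eq_zero_iff F p _).1 (by simp)
  rw [h] at h1
  obtain rfl := (Nat.prime_dvd_prime_iff_eq (CharP.char_is_prime F p) Nat.prime_two).1 (by exact_mod_cast h1)
  exact hp

/-- the test: `d` is a multiple of the order for the type `u, a₁, …, a₈` -/
def ok (u a1 a2 a3 a4 a5 a6 a7 a8 d : ℕ) : Bool :=
  [1, 2, 4, 8].any fun t => d % t == 0 && [u, a1, a2, a3, a4, a5, a6, a7, a8].all (· ≤ t) &&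
    [(a2, 3), (a3, 3), (a4, 5), (a5, 7), (a6, 9), (a7, 15), (a8, 17)].all fun x => x.1 == 0 || (d / t) % x.2 == 0

theorem gen (h : Fintype.card F = 2) {x : End F V}
    (hx : (evs (AlgebraicClosure F) x).map (fun ν => ν⁻¹) = evs (AlgebraicClosure F) x) (hu : IsUnit x)
    (hd : finrank F V ≤ 8) : ∃ u a1 a2 a3 a4 a5 a6 a7 a8 : ℕ,
      u + 2 * (a1 + a2 + 2 * (a3 + a4) + 3 * (a5 + a6) + 4 * (a7 + a8)) = finrank F V ∧
      (IsUnit (x - 1) → u = 0) ∧ ∀ d, ok u a1 a2 a3 a4 a5 a6 a7 a8 d = true → x ^ d = 1 := by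
  classical
  have := char_two h
  have : CharP (AlgebraicClosure F) 2 := inferInstance
  set E := evs (AlgebraicClosure F) x with hE
  have hφ := spec_pow_card_injective (F := F) (K := AlgebraicClosure F)
  have hfil : ∀ f : AlgebraicClosure F → AlgebraicClosure F, E.map f = E → (∀ ν, f ν = 1 ↔ ν = 1) →
      (E.filter (· ≠ 1)).map f = E.filter (· ≠ 1) := fun f h1 h2 => by
    conv_rhs => rw [← h1, Multiset.filter_map]
    congr 1
    exact Multiset.filter_congr fun ν _ => by simp [h2]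
  have hne : ∀ ν ∈ E.filter (· ≠ 1), ν ≠ ν⁻¹ := fun ν hν h1 => by
    obtain ⟨h2, h3⟩ := Multiset.mem_filter.1 hν
    refine h3 (spec_eq_one_of_pow_char_pow 2 (b := 1) ?_)
    rw [pow_one, pow_two]
    nth_rw 2 [h1]
    exact mul_inv_cancel₀ (ne_zero_of_mem_evs hu h2)
  have hc : E.count 1 + (E.filter (· ≠ 1)).card = finrank F V := by
    rw [← evs_card (K := AlgebraicClosure F) x, ← hE, Multiset.count_eq_card_filter_eq, ← Multiset.card_add]
    conv_rhs => rw [← Multiset.filter_add_not (fun ν => 1 = ν) E]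
    congr 2
    exact Multiset.filter_congr fun ν _ => ne_comm
  obtain ⟨n, h1, h2⟩ := exists_ty hφ _ (hfil _ (evs_map_frob x) fun ν =>
    ⟨fun h => hφ (by simpa using h), fun h => by simp [h]⟩) (hfil _ hx fun ν => inv_eq_one) hne rfl (by omega)
  refine ⟨E.count 1, n 1 true, n 1 false, n 2 true, n 2 false, n 3 true, n 3 false, n 4 true, n 4 false,
    by omega, fun h3 => Multiset.count_eq_zero.2 fun h4 => ne_of_isUnit h3 h4 rfl, fun d hok => ?_⟩
  simp only [ok, List.any_eq_true, Bool.and_eq_true, beq_iff_eq, List.all_cons, List.all_nil, Bool.and_true,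
    decide_eq_true_eq, Bool.or_eq_true] at hok
  obtain ⟨t, ht, ⟨h3, c0, c1, c2, c3, c4, c5, c6, c7, c8⟩, d2, d3, d4, d5, d6, d7, d8⟩ := hok
  obtain ⟨b, rfl⟩ : ∃ b, t = 2 ^ b := by
    simp only [List.mem_cons, List.not_mem_nil, or_false] at ht
    rcases ht with rfl | rfl | rfl | rfl
    exacts [⟨0, rfl⟩, ⟨1, rfl⟩, ⟨2, rfl⟩, ⟨3, rfl⟩]
  have key : ∀ ν ∈ E, ν ^ (d / 2 ^ b) = 1 ∧ E.count ν ≤ 2 ^ b := by
    intro ν hν
    by_cases h4 : ν = 1
    · subst h4
      exact ⟨one_pow _, c0⟩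
    have h5 : ν ∈ E.filter (· ≠ 1) := Multiset.mem_filter.2 ⟨hν, h4⟩
    obtain ⟨e, s, h6, h7, h8⟩ := h2 ν h5
    have h9 := h6.pow_tor (by omega) (hne ν h5)
    have h10 := Multiset.count_pos.2 h5
    rw [Multiset.count_filter_of_pos (p := (· ≠ 1)) h4] at h8 h10
    have h11 := h6.1
    rw [h] at h9
    have aux : ∀ {a r : ℕ}, (a = 0 ∨ d / 2 ^ b % r = 0) → a ≤ 2 ^ b → E.count ν ≤ a → ν ^ r = 1 →
        ν ^ (d / 2 ^ b) = 1 ∧ E.count ν ≤ 2 ^ b := fun k1 k2 k3 k4 =>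
      ⟨pow_eq_one_of_dvd' k4 (Nat.dvd_of_mod_eq_zero (k1.resolve_left (by omega))), k3.trans k2⟩
    interval_cases e <;> cases s
    · exact aux d2 c2 h8 h9
    · exact absurd (by simpa [tor] using h9) h4
    · exact aux d4 c4 h8 h9
    · exact aux d3 c3 h8 h9
    · exact aux d6 c6 h8 h9
    · exact aux d5 c5 h8 h9
    · exact aux d8 c8 h8 h9
    · exact aux d7 c7 h8 h9
  have h4 := orderOf_dvd_of_count 2 (x := x) (b := b) (fun ν hν => (key ν hν).1) fun ν => by
    by_cases hν : ν ∈ E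
    · exact (key ν hν).2
    · rw [Multiset.count_eq_zero.2 hν]; positivity
  rwa [Nat.div_mul_cancel (Nat.dvd_of_mod_eq_zero h3), orderOf_dvd_iff_pow_eq_one] at h4

/-- runs over the types of total dimension `m` -/
def all (m : ℕ) (f : ℕ → ℕ → ℕ → ℕ → ℕ → ℕ → ℕ → ℕ → ℕ → Bool) : Bool :=
  (List.range 5).all fun a1 => (List.range 5).all fun a2 => (List.range 3).all fun a3 => (List.range 3).all fun a4 =>
    (List.range 2).all fun a5 => (List.range 2).all fun a6 => (List.range 2).all fun a7 => (List.range 2).all fun a8 =>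
      decide (m < 2 * (a1 + a2 + 2 * (a3 + a4) + 3 * (a5 + a6) + 4 * (a7 + a8))) ||
        f (m - 2 * (a1 + a2 + 2 * (a3 + a4) + 3 * (a5 + a6) + 4 * (a7 + a8))) a1 a2 a3 a4 a5 a6 a7 a8

theorem all_spec {m : ℕ} {f : ℕ → ℕ → ℕ → ℕ → ℕ → ℕ → ℕ → ℕ → ℕ → Bool} (h : all m f = true) (hm : m ≤ 8)
    {u a1 a2 a3 a4 a5 a6 a7 a8 : ℕ}
    (he : u + 2 * (a1 + a2 + 2 * (a3 + a4) + 3 * (a5 + a6) + 4 * (a7 + a8)) = m) :
    f u a1 a2 a3 a4 a5 a6 a7 a8 = true := by
  simp only [all, List.all_eq_true, List.mem_range, Bool.or_eq_true, decide_eq_true_eq] at h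
  have := (h a1 (by omega) a2 (by omega) a3 (by omega) a4 (by omega) a5 (by omega) a6 (by omega) a7 (by omega)
    a8 (by omega)).resolve_left (by omega)
  rwa [← he, Nat.add_sub_cancel] at this

end Cfsg.Agent.SpS.LO.LUg
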