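import Mathlib
import Cfsg.Agent.SpS.LUa
import Cfsg.Agent.SpS.LUg

set_option autoImplicit false

namespace Cfsg.Agent.SpS.LO

open Cfsg Polynomial Module QuadraticMap Cfsg.Agent.Cl Cfsg.Agent.Cl.OS Cfsg.Agent.Cl.SpO

variable {F : Type} [Field F] [Fintype F] {V : Type*} [AddCommGroup V] [Module F V]
  [FiniteDimensional F V] {Q : QuadraticForm F V}

theorem LUb.unip [CharP F 2] (hQ : (polarBilin Q).Nondegenerate) {a : OG Q} (h1 : dickson hQ a = 1)
    (h : (specO Q a - 1) ^ finrank F V = 0) {c b : ℕ} (hd : finrank F V = 2 * c) (hb : 2 * c ≤ 2 ^ b + 2)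
    (h0 : c ≤ 1 → b = 0) : specO Q a ^ 2 ^ b = 1 := by
  rw [spec_pow_char_pow_eq_one_iff 2]
  rcases c with _ | c
  · exact pow_eq_zero_of_le (by rw [hd]; positivity) h
  have h2 := pow_eq_zero_of_dickson hQ (c := c) (by omega) h1 h
  rcases Nat.eq_zero_or_pos c with rfl | hc
  · rwa [h0 le_rfl]
  · exact pow_eq_zero_of_le (by omega) (unip_even hQ hc (by omega) h2)

/-- the test for a fixed-point-free part of dimension `m` and a unipotent part of exponent `t` -/
def LUb.chk (m t : ℕ) (D : List ℕ) : Bool :=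
  LUg.all m fun u a1 a2 a3 a4 a5 a6 a7 a8 => u != 0 || D.any fun d => d % t == 0 && LUg.ok u a1 a2 a3 a4 a5 a6 a7 a8 d

theorem ub_o8 (h : Fintype.card F = 2) (hQ : (polarBilin Q).Nondegenerate) (hd : finrank F V = 8)
    {g : OG Q} (hg : dickson hQ g = 1) : (∃ d ∈ [7, 8, 9, 10, 12, 15], orderOf g ∣ d) ∨
      (IsUnit (specO Q g - 1) ∧ ∃ d ∈ [17, 21, 30], orderOf g ∣ d) := by
  have := LUg.char_two h
  have h2 : (2 : F) = 0 := by exact_mod_cast CharP.cast_eq_zero F 2
  obtain ⟨A, B, hA, hB, a, b, hS, h1, -, h3, h4⟩ := exists_fit hQ g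
  obtain ⟨r, hr⟩ := even_of_two h2 hB
  have hf := hS.finrank_eq
  have ha : dickson hA a = 1 := by
    rw [dickson_of_isUnit hB h4, hr, pow_mul, hg] at h1
    simpa using h1.symm
  obtain ⟨u, a1, a2, a3, a4, a5, a6, a7, a8, h5, h6, h7⟩ := LUg.gen h (x := specO _ b) (evs_specO_map hB b)
    ((Group.isUnit b).map _) (by omega)
  have key : ∀ (k : ℕ) (D : List ℕ), 2 * (4 - r) ≤ 2 ^ k + 2 → (4 - r ≤ 1 → k = 0) →
      LUb.chk (2 * r) (2 ^ k) D = true → ∃ d ∈ D, orderOf g ∣ d := fun k D k1 k2 k3 => by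
    have h8 := LUg.all_spec k3 (by omega) (h5.trans hr)
    simp only [h6 h4, bne_self_eq_false, Bool.false_or, List.any_eq_true, Bool.and_eq_true, beq_iff_eq] at h8
    obtain ⟨d, h9, h10, h11⟩ := h8
    refine ⟨d, h9, ?_⟩
    rw [← orderOf_specO, orderOf_dvd_iff_pow_eq_one, hS.pow_iff]
    refine ⟨?_, h7 d (by rwa [h6 h4])⟩
    obtain ⟨c, rfl⟩ := Nat.dvd_of_mod_eq_zero h10
    rw [pow_mul, LUb.unip hA ha h3 (c := 4 - r) (by omega) k1 k2, one_pow]
  have hr4 : r ≤ 4 := by omega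
  interval_cases r
  · exact Or.inl (key 3 _ (by norm_num) (by norm_num) (by decide +kernel))
  · exact Or.inl (key 2 _ (by norm_num) (by norm_num) (by decide +kernel))
  · exact Or.inl (key 1 _ (by norm_num) (by norm_num) (by decide +kernel))
  · exact Or.inl (key 0 _ (by norm_num) (by norm_num) (by decide +kernel))
  obtain ⟨d, h8, h9⟩ := key 0 ([7, 8, 9, 10, 12, 15] ++ [17, 21, 30]) (by norm_num) (by norm_num) (by decide +kernel)
  rcases List.mem_append.1 h8 with h8 | h8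
  · exact Or.inl ⟨d, h8, h9⟩
  refine Or.inr ⟨?_, d, h8, h9⟩
  have h10 := isUnit_aeval_of_evs (K := AlgebraicClosure F) (x := specO Q g) (A := X - 1) fun ν hν => by
    rw [hS.evs_eq, Multiset.card_eq_zero.1 ((evs_card (specO _ a)).trans (by omega)), zero_add] at hν
    simpa [sub_eq_zero] using ne_of_isUnit h4 hν
  simpa using h10

end Cfsg.Agent.SpS.LO
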