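import Mathlib
import Cfsg.Agent.SpS.LO2
import Cfsg.Agent.SpS.LUg

set_option autoImplicit false

namespace Cfsg.Agent.SpS.LO

open Cfsg Polynomial Module QuadraticMap Cfsg.Agent.Cl Cfsg.Agent.Cl.OS Cfsg.Agent.Cl.SpO

variable {F : Type} [Field F] [Fintype F] {V : Type*} [AddCommGroup V] [Module F V]
  [FiniteDimensional F V] {Q : QuadraticForm F V}

theorem LUc.ub (h : Fintype.card F = 2) {n : ℕ} (hn : n ≤ 4) {D : List ℕ}
    (hc : LUg.all (2 * n) (fun u a1 a2 a3 a4 a5 a6 a7 a8 => D.any (LUg.ok u a1 a2 a3 a4 a5 a6 a7 a8)) = true) :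
    Ub (PSp n F) D := by
  intro g
  obtain ⟨g, rfl⟩ := QuotientGroup.mk_surjective g
  have hd : finrank F (Fin n ⊕ Fin n → F) = 2 * n := by simp [two_mul]
  obtain ⟨u, a1, a2, a3, a4, a5, a6, a7, a8, h1, -, h2⟩ := LUg.gen h (x := specSp F n g) (evs_specSp_map g)
    ((Group.isUnit g).map _) (by omega)
  obtain ⟨d, h3, h4⟩ := List.any_eq_true.1 (LUg.all_spec hc (by omega) (h1.trans hd))
  exact ⟨d, h3, (orderOf_PSp_dvd g).trans (orderOf_dvd_of_pow_eq_one (h2 d h4))⟩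

theorem ub_sp6 (h : Fintype.card F = 2) : Ub (PSp 3 F) [7, 8, 9, 10, 12, 15] :=
  LUc.ub h (by norm_num) (by decide +kernel)

theorem ub_sp8 (h : Fintype.card F = 2) : Ub (PSp 4 F) [14, 17, 18, 20, 21, 24, 30] :=
  LUc.ub h (by norm_num) (by decide +kernel)

end Cfsg.Agent.SpS.LO
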