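import Mathlib
import Cfsg.Agent.SpS.LO2

set_option autoImplicit false
set_option linter.unusedSectionVars false

namespace Cfsg.Agent.SpS.LO

open Cfsg Polynomial Module QuadraticMap Cfsg.Agent.Cl Cfsg.Agent.Cl.OS Cfsg.Agent.Cl.SpO

variable {F : Type} [Field F] [Fintype F] {V : Type*} [AddCommGroup V] [Module F V]
  [FiniteDimensional F V] {Q : QuadraticForm F V}

namespace LUp

theorem modeq (S : Set V) (f : Module.End F V) (hS : ∀ v ∈ S, f v ∈ S) {p : ℕ} (hp : p.Prime)
    (hf : f ^ p = 1) : S.ncard ≡ {v ∈ S | f v = v}.ncard [MOD p] := by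
  classical
  have : Finite V := Module.finite_of_finite F
  have := Fact.mk hp
  have := Fintype.ofFinite S
  let φ : Function.End S := fun v => ⟨f v, hS v v.2⟩
  have hk : ∀ (k : ℕ) (v : S), ((φ ^ k) v : V) = (f ^ k) v := by
    intro k
    induction k with
    | zero => intro v; rfl
    | succ k ih => intro v; rw [pow_succ, pow_succ]; exact ih (φ v)
  have h1 : φ ^ p ^ 1 = 1 := by
    funext v
    apply Subtype.ext
    rw [pow_one, hk, hf]; rfl
  have h2 := Equiv.Perm.card_fixedPoints_modEq h1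
  rw [← Nat.card_eq_fintype_card, ← Nat.card_eq_fintype_card, Nat.card_coe_set_eq,
    Nat.card_coe_set_eq] at h2
  have h3 : {v ∈ S | f v = v} = Subtype.val '' (Function.fixedPoints φ) := by
    ext v
    constructor
    · rintro ⟨h4, h5⟩
      exact ⟨⟨v, h4⟩, Subtype.ext h5, rfl⟩
    · rintro ⟨w, h4, rfl⟩
      exact ⟨w.2, congrArg Subtype.val h4⟩
  rw [h3, Set.ncard_image_of_injective _ Subtype.val_injective]
  exact h2

theorem dvd_of_fpf (S : Set V) (f : Module.End F V) (hS : ∀ v ∈ S, f v ∈ S) {p : ℕ}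
    (hp : p.Prime) (hf : f ^ p = 1) (h0 : ∀ v ∈ S, f v ≠ v) : p ∣ S.ncard := by
  have h := modeq S f hS hp hf
  have : {v ∈ S | f v = v} = ∅ := Set.eq_empty_of_forall_notMem fun v hv => h0 v hv.1 hv.2
  rw [this, Set.ncard_empty] at h
  exact (Nat.modEq_zero_iff_dvd).1 h

theorem one_of_fpf (U : Submodule F V) (f : Module.End F V) (hS : ∀ v ∈ U, f v ∈ U) {p : ℕ}
    (hp : p.Prime) (hf : f ^ p = 1) (h0 : ∀ v ∈ U, f v = v → v = 0) :
    (U : Set V).ncard ≡ 1 [MOD p] := by
  have h := modeq (U : Set V) f hS hp hf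
  have : {v ∈ (U : Set V) | f v = v} = {0} := by
    ext v
    exact ⟨fun hv => h0 v hv.1 hv.2, fun hv => by rw [hv]; exact ⟨U.zero_mem, map_zero _⟩⟩
  rwa [this, Set.ncard_singleton] at h

theorem sub_dvd {U W : Submodule F V} (h : U ≤ W) : (U : Set V).ncard ∣ (W : Set V).ncard := by
  rw [← Nat.card_coe_set_eq, ← Nat.card_coe_set_eq]
  exact AddSubgroup.card_dvd_of_le (H := U.toAddSubgroup) (K := W.toAddSubgroup) h

theorem sub_eq {U W : Submodule F V} (h : U ≤ W) (h2 : (W : Set V).ncard ≤ (U : Set V).ncard) :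
    U = W := by
  have : Finite V := Module.finite_of_finite F
  exact SetLike.coe_injective (Set.eq_of_subset_of_ncard_le h h2)

theorem dvd256 {k : ℕ} (h : k ∣ 256) : k = 1 ∨ k = 2 ∨ k = 4 ∨ k = 8 ∨ k = 16 ∨ k = 32 ∨ k = 64 ∨
    k = 128 ∨ k = 256 := by
  have : (256 : ℕ) = 2 ^ 8 := by norm_num
  rw [this, Nat.dvd_prime_pow Nat.prime_two] at h
  obtain ⟨i, hi, rfl⟩ := h
  interval_cases i <;> simp

theorem fix_pow {A : Module.End F V} {v : V} (h : A v = v) (k : ℕ) : (A ^ k) v = v := by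
  induction k with
  | zero => rfl
  | succ k ih => rw [pow_succ, Module.End.mul_apply, h, ih]

theorem ker_map {A T : Module.End F V} (h : Commute A T) :
    ∀ v ∈ LinearMap.ker T, A v ∈ LinearMap.ker T := fun v hv => by
  rw [LinearMap.mem_ker] at hv ⊢
  rw [← Module.End.mul_apply, ← h.eq, Module.End.mul_apply, hv, map_zero]

theorem mem_fix {T : Module.End F V} {v : V} : v ∈ LinearMap.ker (T - 1) ↔ T v = v := by
  simp [sub_eq_zero]

end LUp

open LUp

theorem not_fpf (h : Fintype.card F = 2) (hQ : (polarBilin Q).Nondegenerate) (h' : OTy Q 4 1)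
    {g : OG Q} (hu : IsUnit (specO Q g - 1)) :
    orderOf g ≠ 17 ∧ orderOf g ≠ 21 ∧ orderOf g ≠ 30 := by
  have : Finite V := Module.finite_of_finite F
  have hF : ∀ x : F, x = 0 ∨ x = 1 := fun x => by
    classical
    by_contra hx
    push Not at hx
    have h3 : ({x, 0, 1} : Finset F).card = 3 := by
      rw [Finset.card_eq_three]; exact ⟨x, 0, 1, hx.1, hx.2, zero_ne_one, rfl⟩
    have := Finset.card_le_univ ({x, 0, 1} : Finset F)
    omega
  have two : (1 : F) + 1 = 0 := (hF (1 + 1)).resolve_right (by simp)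
  have twoV : ∀ v : V, v + v = 0 := fun v => by
    rw [← one_smul F v, ← add_smul, two, zero_smul]
  have twoE : ∀ T : Module.End F V, T + T = 0 := fun T => LinearMap.ext fun v => twoV _
  have hV : ((⊤ : Submodule F V) : Set V).ncard = 256 := by
    rw [Submodule.top_coe, Set.ncard_univ, Module.natCard_eq_pow_finrank (K := F), h'.1,
      Nat.card_eq_fintype_card, h]
    norm_num
  set Y : Set V := {v | Q v = 1} with hXd
  have hX : Y.ncard = 120 := by
    have := h'.level hQ (one_ne_zero (α := F))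
    rw [Nat.card_eq_fintype_card (α := F), h] at this
    rw [← Nat.card_coe_set_eq]
    have h2 : Nat.card Y = Nat.card {v // Q v = 1} := rfl
    rw [h2]
    norm_num at this
    omega
  set A : Module.End F V := specO Q g with hA
  have hord : orderOf A = orderOf g := orderOf_specO g
  have hQA : ∀ k v, Q ((A ^ k) v) = Q v := fun k v => by
    rw [hA, ← map_pow, specO_apply]; exact OG.map_app _ _
  have hXA : ∀ k, ∀ v ∈ Y, (A ^ k) v ∈ Y := fun k v hv => (hQA k v).trans hv
  have hX0 : ∀ v ∈ Y, v ≠ 0 := fun v hv h0 => by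
    rw [h0, hXd, Set.mem_ofPred_eq, map_zero] at hv; exact zero_ne_one hv
  have hinj : ∀ {T : Module.End F V}, IsUnit T → ∀ v, T v = 0 → v = 0 := fun hT v hv =>
    ((Module.End.isUnit_iff _).1 hT).1 (hv.trans (map_zero _).symm)
  have hfix : ∀ v, A v = v → v = 0 := fun v hv => hinj hu v (by simp [hv])
  have hcomm : ∀ i j, Commute (A ^ i) (A ^ j - 1) := fun i j =>
    ((Commute.refl A).pow_pow i j).sub_right (Commute.one_right _)
  have hne : ∀ k, 0 < k → k < orderOf g → A ^ k ≠ 1 := fun k h1 h2 =>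
    pow_ne_one_of_lt_orderOf h1.ne' (hord ▸ h2)
  have htop : ∀ k, 0 < k → k < orderOf g → ((LinearMap.ker (A ^ k - 1) : Submodule F V) : Set V).ncard
      ≠ 256 := fun k h1 h2 h3 => by
    have := sub_eq (le_top (a := LinearMap.ker (A ^ k - 1))) (by rw [hV, h3])
    exact hne k h1 h2 (sub_eq_zero.1 (LinearMap.ker_eq_top.1 this))
  have hdvd : ∀ U : Submodule F V, (U : Set V).ncard ∣ 256 := fun U => hV ▸ sub_dvd le_top
  -- the three congruences for `y = A ^ i` of order `r` and `z = A ^ j` of order three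
  have key : ∀ i j r : ℕ, r.Prime → (A ^ i) ^ r = 1 → (A ^ j) ^ 3 = 1 →
      (∀ v, (A ^ i) v = v → (A ^ j) v = v → v = 0) →
      120 ≡ {v ∈ Y | (A ^ i) v = v}.ncard [MOD r] ∧ 3 ∣ {v ∈ Y | (A ^ i) v = v}.ncard ∧
      256 ≡ ((LinearMap.ker (A ^ i - 1) : Submodule F V) : Set V).ncard [MOD r] ∧
      ((LinearMap.ker (A ^ i - 1) : Submodule F V) : Set V).ncard ≡ 1 [MOD 3] ∧
      {v ∈ Y | (A ^ i) v = v}.ncard + 1 ≤
        ((LinearMap.ker (A ^ i - 1) : Submodule F V) : Set V).ncard := by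
    intro i j r hr h1 h2 h3
    refine ⟨hX ▸ modeq Y _ (hXA i) hr h1, dvd_of_fpf {v ∈ Y | (A ^ i) v = v} (A ^ j) (fun v hv => ⟨hXA j v hv.1,
      mem_fix.1 (ker_map (hcomm j i) v (mem_fix.2 hv.2))⟩) Nat.prime_three h2
      (fun v hv h4 => hX0 v hv.1 (h3 v hv.2 h4)), ?_, one_of_fpf _ (A ^ j) (ker_map (hcomm j i))
      Nat.prime_three h2 (fun v hv h4 => h3 v (mem_fix.1 hv) h4), ?_⟩
    · have := modeq ((⊤ : Submodule F V) : Set V) (A ^ i) (fun _ _ => trivial) hr h1
      rw [hV] at this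
      convert this using 2
      ext v
      simp [sub_eq_zero]
    · rw [← Set.ncard_insert_of_notMem (a := (0 : V)) (fun h0 => hX0 _ h0.1 rfl)]
      refine Set.ncard_le_ncard ?_
      rintro v (rfl | hv)
      · exact Submodule.zero_mem _
      · exact mem_fix.2 hv.2
  refine ⟨fun ho => ?_, fun ho => ?_, fun ho => ?_⟩
  · have h1 : A ^ 17 = 1 := by rw [← ho, ← hord, pow_orderOf_eq_one]
    have := dvd_of_fpf Y A (by simpa using hXA 1) (by norm_num) h1
      (fun v hv h4 => hX0 v hv (hfix v h4))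
    rw [hX] at this
    omega
  · have h1 : A ^ 21 = 1 := by rw [← ho, ← hord, pow_orderOf_eq_one]
    obtain ⟨k1, k2, k3, k4, k5⟩ := key 3 7 7 (by norm_num) (by rw [← pow_mul]; exact h1)
      (by rw [← pow_mul]; exact h1) (fun v h3 h4 => hfix v (by
        have h5 : A = (A ^ 3) ^ 5 * A ^ 7 := by
          rw [← pow_mul, ← pow_add, show 3 * 5 + 7 = 21 + 1 from rfl, pow_succ, h1, one_mul]
        rw [h5, Module.End.mul_apply, h4, fix_pow h3]))
    have k6 := htop 3 (by norm_num) (by omega)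
    have k7 := dvd256 (hdvd (LinearMap.ker (A ^ 3 - 1)))
    unfold Nat.ModEq at k1 k3 k4
    omega
  have h1 : A ^ 30 = 1 := by rw [← ho, ← hord, pow_orderOf_eq_one]
  have hsq : ∀ T : Module.End F V, (T - 1) * (T - 1) = T ^ 2 - 1 := fun T => by
    have : (T - 1) * (T - 1) = T ^ 2 - 1 + ((1 - T) + (1 - T)) := by noncomm_ring
    rw [this, twoE, add_zero]
  have hu2 : IsUnit (A ^ 2 - 1) := hsq A ▸ hu.mul hu
  have hyz : ∀ v, (A ^ 6) v = v → (A ^ 10) v = v → v = 0 := fun v h3 h4 => hinj hu2 v (by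
    have h5 : A ^ 2 = (A ^ 6) ^ 2 * (A ^ 10) ^ 2 := by
      rw [← pow_mul, ← pow_mul, ← pow_add, show 6 * 2 + 10 * 2 = 30 + 2 from rfl, pow_add, h1,
        one_mul]
    rw [LinearMap.sub_apply, h5, Module.End.mul_apply, fix_pow h4, fix_pow h3]; simp)
  have h65 : (A ^ 6) ^ 5 = 1 := by rw [← pow_mul]; exact h1
  obtain ⟨k1, k2, k3, k4, k5⟩ := key 6 10 5 (by norm_num) h65 (by rw [← pow_mul]; exact h1) hyz
  have k6 := htop 6 (by norm_num) (by omega)
  have k7 := dvd256 (hdvd (LinearMap.ker (A ^ 6 - 1)))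
  set W : Submodule F V := LinearMap.ker (A ^ 6 - 1) with hW
  set B := polarBilin Q with hB
  have hiso : ∀ k u v, B ((A ^ k) u) ((A ^ k) v) = B u v := fun k u v => by
    rw [hA, ← map_pow]; exact specO_isometry _ u v
  have hQadd : ∀ u v, Q (u + v) = Q u + Q v + B u v := fun u v => by
    rw [hB, polarBilin_apply_apply, polar]; ring
  unfold Nat.ModEq at k1 k3 k4
  have k8 : (W : Set V).ncard = 1 ∨ (W : Set V).ncard = 16 := by omega
  rcases k8 with k8 | k8
  · -- `y` acts without fixed points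
    have hW0 : W = ⊥ := (sub_eq bot_le (by rw [k8]; simp)).symm
    have hy : ∀ v, (A ^ 6) v = v → v = 0 := fun v hv => by
      have : v ∈ W := mem_fix.2 hv
      rwa [hW0] at this
    set U : Submodule F V := LinearMap.ker (A ^ 15 - 1) with hU
    have hNN : (A ^ 15 - 1) * (A ^ 15 - 1) = 0 := by rw [hsq, ← pow_mul, h1, sub_self]
    have hU1 := one_of_fpf U (A ^ 6) (ker_map (hcomm 6 15)) (by norm_num) h65
      (fun v _ hv => hy v hv)
    have hU2 := htop 15 (by norm_num) (by omega)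
    have hU3 := dvd256 (hdvd U)
    rw [← hU] at hU2
    unfold Nat.ModEq at hU1
    have dich : ∀ T : Module.End F V, Commute A T →
        (∀ v ∈ U, T v = 0 → v = 0) ∨ T * T = 0 := by
      intro T hT
      have a1 := one_of_fpf (U ⊓ LinearMap.ker T) (A ^ 6) (fun v hv =>
        ⟨ker_map (hcomm 6 15) v hv.1, ker_map (hT.pow_left 6) v hv.2⟩) (by norm_num) h65
        (fun v _ hv => hy v hv)
      have a2 := dvd256 (hdvd (U ⊓ LinearMap.ker T))
      have a3 : ((U ⊓ LinearMap.ker T : Submodule F V) : Set V).ncard ≤ (U : Set V).ncard :=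
        Set.ncard_le_ncard (fun _ hv => hv.1)
      unfold Nat.ModEq at a1
      by_cases a4 : ((U ⊓ LinearMap.ker T : Submodule F V) : Set V).ncard = 1
      · left
        intro v hv h0
        have : (⊥ : Submodule F V) = U ⊓ LinearMap.ker T := sub_eq bot_le (by rw [a4]; simp)
        have h5 : v ∈ U ⊓ LinearMap.ker T := ⟨hv, h0⟩
        rwa [← this] at h5
      · right
        have a5 : U ⊓ LinearMap.ker T = U := sub_eq inf_le_left (by omega)
        have a6 : ∀ v ∈ U, T v = 0 := fun v hv => by rw [← a5] at hv; exact hv.2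
        have a7 : Commute (A ^ 15 - 1) T := (hT.pow_left 15).sub_left (Commute.one_left _)
        ext v
        refine a6 _ ?_
        rw [hU, LinearMap.mem_ker, ← Module.End.mul_apply, a7.eq, Module.End.mul_apply]
        refine a6 _ ?_
        rw [hU, LinearMap.mem_ker, ← Module.End.mul_apply, hNN]; rfl
    have c1 : ∀ k, Commute A (A ^ k) := fun k => (Commute.refl A).pow_right k
    have hz : ∀ v ∈ U, (A ^ 10 - 1 : Module.End F V) v = 0 → v = 0 := by
      refine (dich _ ((c1 10).sub_right (Commute.one_right _))).resolve_right fun h0 => ?_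
      rw [hsq, ← pow_mul, sub_eq_zero] at h0
      exact hne 20 (by norm_num) (by omega) h0
    set f : Module.End F V := A ^ 8 + A ^ 2 + 1 with hf
    set f' : Module.End F V := A ^ 8 + A ^ 6 + 1 with hf'
    have cf : Commute A f := ((c1 8).add_right (c1 2)).add_right (Commute.one_right _)
    have cf' : Commute A f' := ((c1 8).add_right (c1 6)).add_right (Commute.one_right _)
    have hUT : ∀ T : Module.End F V, Commute A T → ∀ v ∈ U, T v ∈ U := fun T hT =>
      ker_map ((hT.pow_left 15).sub_left (Commute.one_left _)).symm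
    have hphi : (A ^ 6 - 1) * ((A ^ 10 - 1) * (f * f')) = 0 := by
      have e1 : (A ^ 6 - 1) * ((A ^ 10 - 1) * (f * f')) = (A ^ 30 - 1) * (A ^ 2 - 1) +
          ((A ^ 6 - 1) * (A ^ 10 - 1) * (A ^ 14 + A ^ 8 + A ^ 8 + A ^ 2) +
            (A ^ 6 - 1) * (A ^ 10 - 1) * (A ^ 14 + A ^ 8 + A ^ 8 + A ^ 2)) := by
        rw [hf, hf']
        have := congrArg (Polynomial.aeval (R := F) A) (show
          (X ^ 6 - 1) * ((X ^ 10 - 1) * ((X ^ 8 + X ^ 2 + 1) * (X ^ 8 + X ^ 6 + 1))) =
            (X ^ 30 - 1) * (X ^ 2 - 1) + ((X ^ 6 - 1) * (X ^ 10 - 1) * (X ^ 14 + X ^ 8 + X ^ 8 + X ^ 2) +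
              (X ^ 6 - 1) * (X ^ 10 - 1) * (X ^ 14 + X ^ 8 + X ^ 8 + X ^ 2) : F[X]) by ring)
        simpa only [map_mul, map_add, map_sub, map_pow, map_one, aeval_X] using this
      rw [e1, twoE, h1, sub_self, zero_mul, add_zero]
    have hff : ∀ v ∈ U, f (f' v) = 0 := fun v hv => by
      refine hz _ (hUT f cf _ (hUT f' cf' v hv)) (hy _ (mem_fix.1 ?_))
      exact LinearMap.congr_fun hphi v
    have hadj : ∀ k, k ≤ 8 → ∀ u v, B ((A ^ k) u) ((A ^ 8) v) = B u ((A ^ (8 - k)) v) := by
      intro k hk u v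
      rw [← hiso k u, ← Module.End.mul_apply, ← pow_add, Nat.add_sub_cancel' hk]
    have hsym : ∀ u v, B u v = B v u := fun u v => polar_comm _ _ _
    have ad1 : ∀ u v, B (f u) ((A ^ 8) v) = B u (f' v) := fun u v => by
      have e0 := hadj 0 (by norm_num) u v
      simp only [hf, hf', LinearMap.add_apply, map_add, hadj 8 le_rfl, hadj 2 (by norm_num),
        Module.End.one_apply, Nat.sub_self, pow_zero]
      ring
    have ad2 : ∀ u v, B (f' u) ((A ^ 8) v) = B u (f v) := fun u v => by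
      simp only [hf, hf', LinearMap.add_apply, map_add, hadj 8 le_rfl, hadj 6 (by norm_num),
        Module.End.one_apply, Nat.sub_self, pow_zero]
      ring
    have tr : ∀ T T' : Module.End F V, (∀ u v, B (T u) ((A ^ 8) v) = B u (T' v)) → Commute A T' →
        T * T = 0 → T' * T' = 0 := by
      intro T T' a1 a2 a3
      ext v
      refine hQ.2 _ fun u => ?_
      have a5 : (A ^ 8) (T' v) = T' ((A ^ 8) v) := LinearMap.congr_fun (a2.pow_left 8).eq v
      have a6 : T (T u) = 0 := LinearMap.congr_fun a3 u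
      rw [Module.End.mul_apply, ← a1, a5, ← a1, a6, map_zero, LinearMap.zero_apply]
    have hboth : f * f = 0 ∧ f' * f' = 0 := by
      rcases dich f cf with a1 | a1
      · rcases dich f' cf' with a2 | a2
        · exfalso
          have hU0 : U = ⊥ := eq_bot_iff.2 fun v hv => a2 v hv (a1 _ (hUT f' cf' v hv) (hff v hv))
          refine hne 15 (by norm_num) (by omega) (sub_eq_zero.1 (LinearMap.ext fun v => ?_))
          have : (A ^ 15 - 1 : Module.End F V) v ∈ U := LinearMap.congr_fun hNN v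
          rwa [hU0] at this
        · exact ⟨tr f' f ad2 cf a2, a2⟩
      · exact ⟨a1, tr f f' ad1 cf' a1⟩
    have hgu : IsUnit A := (Group.isUnit g).map (specO Q)
    have e2 : (A ^ 2 * ((A ^ 2 - 1) * (A ^ 2 - 1))) * (A ^ 2 * ((A ^ 2 - 1) * (A ^ 2 - 1))) = 0 := by
      have e3 : A ^ 2 * ((A ^ 2 - 1) * (A ^ 2 - 1)) = f' - f := by
        have : A ^ 2 * (A ^ 2) ^ 2 = A ^ 6 := by rw [← pow_mul, ← pow_add]
        rw [hsq, mul_sub, this, mul_one, hf, hf']; abel
      have cff : f * f' = f' * f := by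
        have : Commute f f' := by
          rw [hf]
          exact ((cf'.pow_left 8).add_left (cf'.pow_left 2)).add_left (Commute.one_left _)
        exact this.eq
      have e4 : (f' - f) * (f' - f) = f' * f' + f * f - (f' * f + f * f') := by noncomm_ring
      rw [e3, e4, hboth.1, hboth.2, cff, twoE (f' * f)]; simp
    have e5 : IsUnit (A ^ 2 * ((A ^ 2 - 1) * (A ^ 2 - 1))) := (hgu.pow 2).mul (hu2.mul hu2)
    refine hne 1 one_pos (by omega) (LinearMap.ext fun v => ?_)
    have : v = 0 := hinj (e5.mul e5) v (by rw [e2]; rfl)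
    rw [this]; simp
  · -- `W` has sixteen elements
    have hW0 : ∃ w ∈ W, w ≠ 0 := by
      by_contra h0
      push Not at h0
      have : W = ⊥ := eq_bot_iff.2 h0
      rw [this] at k8
      simp at k8
    obtain ⟨w, hw, hw0⟩ := hW0
    obtain ⟨u, hu1⟩ : ∃ u, B w u = 1 := by
      by_contra h0
      push Not at h0
      exact hw0 (hQ.1 w fun u => (hF _).resolve_right (h0 u))
    have hw' : ∀ k, ((A ^ 6) ^ k) w = w := fix_pow (mem_fix.1 hw)
    set u' : V := (∑ i ∈ Finset.range 5, (A ^ 6) ^ i) u with hu'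
    have hu'W : u' ∈ W := by
      rw [hW, LinearMap.mem_ker, hu', ← Module.End.mul_apply, mul_geom_sum, h65, sub_self]; rfl
    have hwu : B w u' = 1 := by
      have : ∀ i, B w (((A ^ 6) ^ i) u) = 1 := fun i => by
        rw [← hw' i, ← pow_mul, hiso, hu1]
      rw [hu', LinearMap.sum_apply, map_sum]
      simp only [this, Finset.sum_range_succ, Finset.sum_range_zero]
      linear_combination 2 * two
    have hex : ∃ v, v ∈ {v ∈ Y | (A ^ 6) v = v} := by
      rcases hF (Q w) with a1 | a1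
      · rcases hF (Q u') with a2 | a2
        · refine ⟨w + u', ?_, mem_fix.1 (W.add_mem hw hu'W)⟩
          show Q _ = 1
          rw [hQadd, a1, a2, hwu]; simp
        · exact ⟨u', a2, mem_fix.1 hu'W⟩
      · exact ⟨w, a1, mem_fix.1 hw⟩
    have hpos : 0 < {v ∈ Y | (A ^ 6) v = v}.ncard := (Set.ncard_pos (Set.toFinite _)).2 hex
    have hall : insert 0 {v ∈ Y | (A ^ 6) v = v} = (W : Set V) := by
      refine Set.eq_of_subset_of_ncard_le ?_ ?_
      · rintro v (rfl | hv)
        · exact Submodule.zero_mem _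
        · exact mem_fix.2 hv.2
      · rw [Set.ncard_insert_of_notMem (a := (0 : V)) (fun h0 => hX0 _ h0.1 rfl)]
        omega
    have hQ1 : ∀ v ∈ W, v ≠ 0 → Q v = 1 := fun v hv h0 => by
      have : v ∈ (W : Set V) := hv
      rw [← hall] at this
      exact (this.resolve_left h0).1
    have hB1 : ∀ a ∈ W, ∀ b ∈ W, a ≠ 0 → b ≠ 0 → a ≠ b → B a b = 1 := fun a ha b hb a0 b0 ab => by
      have e1 := hQadd a b
      rw [hQ1 a ha a0, hQ1 b hb b0, hQ1 _ (W.add_mem ha hb) (fun h0 => ab (by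
        rw [← add_zero a, ← twoV b, ← add_assoc, h0, zero_add])), two, zero_add] at e1
      exact e1.symm
    have halt : B w w = 0 := by
      have := hQadd w w
      rw [twoV, map_zero, hQ1 w hw hw0, two, zero_add] at this
      exact this.symm
    have hu0 : u' ≠ 0 := fun h0 => by rw [h0, map_zero] at hwu; exact zero_ne_one hwu
    obtain ⟨c, hc, hc'⟩ : ∃ c ∈ (W : Set V), c ∉ ({0, w, u', w + u'} : Set V) := by
      refine Set.exists_mem_notMem_of_ncard_lt_ncard ?_
      have := (Set.ncard_insert_le (0 : V) {w, u', w + u'}).trans (Nat.add_le_add_right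
        ((Set.ncard_insert_le w {u', w + u'}).trans (Nat.add_le_add_right
          (Set.ncard_insert_le u' {w + u'}) 1)) 1)
      rw [Set.ncard_singleton] at this
      omega
    simp only [Set.mem_insert_iff, Set.mem_singleton_iff, not_or] at hc'
    obtain ⟨c0, c1, c2, c3⟩ := hc'
    have e1 := hB1 w hw c hc hw0 c0 (Ne.symm c1)
    have e2 := hB1 w hw (u' + c) (W.add_mem hu'W hc) hw0 (fun h0 => c2 (by
      rw [← add_zero c, ← twoV u', ← add_assoc, add_comm c, h0, zero_add])) (fun h0 => c3 (by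
      rw [h0, add_right_comm, twoV, zero_add]))
    rw [map_add, hwu, e1, two] at e2
    exact zero_ne_one e2

end Cfsg.Agent.SpS.LO
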