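import Mathlib
import Cfsg.Agent.SpS.Defs

/-! More definitions for the `p`-local part of S3586 / S3535. -/

set_option autoImplicit false

namespace Cfsg.Agent.SpS

open Subgroup

variable {X : Type*} [Group X] {p : ℕ}

/-- the configuration that is excluded when the solvable radical is a non-trivial `3`-group -/
def Nice (p : ℕ) (X : Type*) [Group X] : Prop :=
  ¬ Om X (3 * p) ∧ ∃ x z : X, orderOf x = p ∧ orderOf z = p ∧ Commute x z ∧ x ∉ zpowers z ∧
    ∀ i : ℕ, (∃ a b : X, orderOf a = 2 ∧ orderOf b = 2 ∧ a ≠ b ∧ Commute a b ∧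
        Commute a (x * z ^ i) ∧ Commute b (x * z ^ i)) ∨
      ∃ t : X, orderOf t = 2 ∧ Commute t (x * z ^ i) ∧ t * z * t⁻¹ = z⁻¹

/-- `R` is elementary abelian of order `p ^ 3`. -/
structure Ab (p : ℕ) (R : Subgroup X) : Prop where
  card : Nat.card R = p ^ 3
  comm : ∀ x ∈ R, ∀ y ∈ R, x * y = y * x
  exp : ∀ x ∈ R, x ^ p = 1

/-- `O_{p'}(C(z))` -/
abbrev Ex.D (E : Ex p X) : Subgroup X := Dx p E.z

/-- `N(⟨z⟩)` -/
abbrev Ex.NZ (E : Ex p X) : Subgroup X := normalizer (zpowers E.z : Set X)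

/-- `⟨x, z⟩` -/
abbrev Ex.V (E : Ex p X) (x : X) : Subgroup X := zpowers x ⊔ zpowers E.z

/-- coordinates of the essential elements -/
def Ex.EV (E : Ex p X) : Set (Fin 2 → ZMod p) := {v | ∃ x, E.Ess x ∧ E.κ x = v}

/-- the matrix of an element of `GL₂(p)` -/
abbrev mt (M : GL (Fin 2) (ZMod p)) : Matrix (Fin 2) (Fin 2) (ZMod p) := M

/-- conditions on the image of `N(R)` in `GL₂(p)` -/
structure GE (p : ℕ) (A : Subgroup (GL (Fin 2) (ZMod p))) : Prop where
  cop : (Nat.card A).Coprime p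
  eig : ∀ M ∈ A, ∀ v, v ≠ 0 → (mt M).mulVec v = v → M ^ 2 = 1 ∨ M ^ 3 = 1
  det : ∀ M ∈ A, (mt M).det = 1 → M ^ 2 = 1 ∨ M ^ 3 = 1

/-- `M` acts on the line of `v` as a torus of `SL₂(p)` on `⟨z, x⟩` does. -/
def Tor (M : GL (Fin 2) (ZMod p)) (v : Fin 2 → ZMod p) : Prop :=
  v ≠ 0 ∧ ∃ l : (ZMod p)ˣ, orderOf l = p - 1 ∧ (mt M).det = l ∧ (mt M).mulVec v = (l⁻¹ : (ZMod p)ˣ) • v

/-- the vectors admitting such a torus element in `A` -/
def TV (A : Subgroup (GL (Fin 2) (ZMod p))) : Set (Fin 2 → ZMod p) := {v | ∃ M ∈ A, Tor M v}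

/-- the line spanned by `v` -/
def Ln (v : Fin 2 → ZMod p) : Set (Fin 2 → ZMod p) := {w | ∃ c : ZMod p, w = c • v}

/-- the subgroup generated by the elements of order dividing `p` normalizing `V` -/
abbrev Lp (p : ℕ) (V : Subgroup X) : Subgroup X :=
  closure {a | a ∈ normalizer (V : Set X) ∧ a ^ p = 1}

/-- `R` is a trivial-intersection abelian Sylow `5`-subgroup with a complement `Y` of order `24`
in its normalizer, in a group of McLaughlin's order. -/
structure TI5 (R Y : Subgroup X) : Prop where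
  card : Nat.card X = 898128000
  ub : Ub X [7, 8, 10, 11, 12, 15, 18]
  ab : Ab 5 R
  cen : ∀ x ∈ R, x ≠ 1 → Ce x ≤ normalizer (R : Set X)
  cY : Nat.card Y = 24
  sup : R ⊔ Y = normalizer (R : Set X)

end Cfsg.Agent.SpS
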