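import Mathlib
import Cfsg.Agent.SpS.Defs
import Cfsg.Agent.SpS.Defs2
import Cfsg.Agent.S4005
import Cfsg.Agent.GT.CoprimeSylow
import Cfsg.Agent.GT.PPrimeCore
import Cfsg.Agent.GT.Conj

/-! S3586/S3535, piece PA: groups with elements of order at most three, the ratio lemma. -/

set_option autoImplicit false
set_option linter.unusedSectionVars false
set_option linter.unusedVariables false

namespace Cfsg.Agent.SpS

open Subgroup

variable {G X : Type*} [Group G] [Finite G] [Group X] [Finite X] {p : ℕ}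

namespace PAx

theorem ce_eq (x : X) : centralizer (zpowers x : Set X) = Ce x := by rw [zpowers_eq_closure, centralizer_closure]

theorem sq_of_two {D : Subgroup X} (h : Sm D) (h2 : IsPGroup 2 D) {y : X} (hy : y ∈ D) : y ^ 2 = 1 := by
  refine (h y hy).elim id fun h3 => ?_
  obtain ⟨k, hk⟩ := h2 ⟨y, hy⟩
  have h4 : y ^ 2 ^ k = 1 := congrArg Subtype.val hk
  have := Nat.dvd_gcd (orderOf_dvd_of_pow_eq_one h3) (orderOf_dvd_of_pow_eq_one h4)
  rw [(Nat.Coprime.pow_right k (by decide : Nat.Coprime 3 2)).gcd_eq_one, Nat.dvd_one, orderOf_eq_one_iff] at this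
  rw [this, one_pow]

theorem comm_of_sq {D : Subgroup X} (h : ∀ y ∈ D, y ^ 2 = 1) {a b : X} (ha : a ∈ D) (hb : b ∈ D) : a * b = b * a := by
  have i : ∀ y ∈ D, y⁻¹ = y := fun y hy => inv_eq_of_mul_eq_one_right (by rw [← sq, h y hy])
  rw [← i _ (mul_mem ha hb), mul_inv_rev, i a ha, i b hb]

theorem norm_of_iff {D Q : Subgroup X} {q : ℕ} (h : ∀ y, y ∈ Q ↔ y ∈ D ∧ y ^ q = 1) :
    normalizer (D : Set X) ≤ normalizer (Q : Set X) := fun g hg => mem_normalizer_iff.2 fun y => by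
  rw [h, h, ← mem_normalizer_iff.1 hg y, conj_pow, conj_eq_one_iff]

theorem part {D : Subgroup X} {q r : ℕ} (hq : q.Prime) (hqr : q.Coprime r) {N : Subgroup D} (hn : N.Normal)
    (he : IsElementaryAbelian q N) (hi : N.index = r) {y : X} (hy : y ∈ D) (ho : orderOf y = q) :
    ∃ (Q : Subgroup X) (a : ℕ), (∀ y, y ∈ Q ↔ y ∈ D ∧ y ^ q = 1) ∧ 0 < a ∧ Nat.card Q = q ^ a ∧
      Nat.card D = q ^ a * r := by
  have := Fact.mk hq
  have key : ∀ y, y ∈ N.map D.subtype ↔ y ∈ D ∧ y ^ q = 1 := fun y =>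
    ⟨by rintro ⟨y, hy, rfl⟩; exact ⟨y.2, congrArg Subtype.val (he.2 y hy)⟩, fun ⟨h1, h2⟩ => by
      refine ⟨⟨y, h1⟩, ?_, rfl⟩
      have h3 : (⟨y, h1⟩ : D) ^ r ∈ N := hi ▸ pow_index_mem _ _
      obtain ⟨k, hk⟩ := exists_pow_eq_self_of_coprime (x := (⟨y, h1⟩ : D)) (n := r)
        (Nat.Coprime.coprime_dvd_right (orderOf_dvd_of_pow_eq_one (Subtype.ext h2)) hqr.symm)
      exact hk ▸ pow_mem h3 k⟩
  obtain ⟨a, ha⟩ := IsPGroup.iff_card.1
    (show IsPGroup q N from fun x => ⟨1, Subtype.ext (by rw [pow_one]; exact he.2 x x.2)⟩)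
  have hc : Nat.card (N.map D.subtype) = q ^ a := by rw [card_map_of_injective D.subtype_injective, ha]
  refine ⟨_, a, key, Nat.pos_of_ne_zero fun h0 => ?_, hc, by rw [← ha, ← hi, card_mul_index]⟩
  have := orderOf_dvd_natCard _ ((key y).2 ⟨hy, ho ▸ pow_orderOf_eq_one y⟩)
  rw [hc, h0, pow_zero, ho, Nat.dvd_one] at this
  exact hq.one_lt.ne' this

theorem modEq (hp : p.Prime) {D : Subgroup X} {z : X} (hz : orderOf z = p) (hn : z ∈ normalizer (D : Set X)) :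
    Nat.card D ≡ Nat.card (D ⊓ Ce z : Subgroup X) [MOD p] := by
  have := Fact.mk hp
  rw [← ce_eq]
  exact GT.card_modEq_card_inf_centralizer (IsPGroup.of_card (n := 1) (by rw [Nat.card_zpowers, hz, pow_one]))
    (zpowers_le.2 hn)

end PAx

open PAx

theorem PL.prime (h : PL p X) : p.Prime := by
  rcases h.p57 with rfl | rfl <;> norm_num

theorem PL.ord (h : PL p X) {x y : X} (hx : orderOf x = p) (hc : Commute x y)
    (hy : (orderOf y).Coprime p) : orderOf y = 1 ∨ orderOf y = 2 ∨ orderOf y = 3 := by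
  rcases h.cen x y hx hc with k | k
  · exact ((Nat.dvd_prime Nat.prime_two).1 (hy.dvd_of_dvd_mul_right (orderOf_dvd_of_pow_eq_one k))).imp_right Or.inl
  · exact ((Nat.dvd_prime Nat.prime_three).1 (hy.dvd_of_dvd_mul_right (orderOf_dvd_of_pow_eq_one k))).imp_right Or.inr

theorem PL.sm (h : PL p X) {x : X} (hx : orderOf x = p) {Y : Subgroup X} (hY : Y ≤ Ce x)
    (hc : (Nat.card Y).Coprime p) : Sm Y := fun y hy => by
  rcases h.ord hx (mem_centralizer_singleton_iff.1 (hY hy)).symm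
    (Nat.Coprime.coprime_dvd_left (orderOf_dvd_natCard _ hy) hc) with k | k | k
  · left; rw [orderOf_eq_one_iff.1 k, one_pow]
  · exact Or.inl (k ▸ pow_orderOf_eq_one y)
  · exact Or.inr (k ▸ pow_orderOf_eq_one y)

theorem PL.sm_D (h : PL p X) {x : X} (hx : orderOf x = p) : Sm (Dx p x) :=
  h.sm hx (GT.pPrimeCoreOf_le _) (GT.coprime_card_pPrimeCoreOf p _)

theorem PL.of_ub (h57 : p = 5 ∨ p = 7) (d3 : p ^ 3 ∣ Nat.card X) (d4 : ¬ p ^ 4 ∣ Nat.card X)
    (h : ∀ m, Om X (p * m) → m = 1 ∨ m = 2 ∨ m = 3) : PL p X := by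
  have hp : p.Prime := by rcases h57 with rfl | rfl <;> norm_num
  refine ⟨h57, d3, d4, fun x y hx hc => ?_⟩
  simp only [← orderOf_dvd_iff_pow_eq_one]
  by_cases hd : p ∣ orderOf y
  · obtain ⟨m, hm⟩ := hd
    rw [hm, mul_comm]
    rcases h m ⟨y, hm⟩ with rfl | rfl | rfl
    exacts [Or.inl (mul_dvd_mul_right (one_dvd 2) p), Or.inl dvd_rfl, Or.inr dvd_rfl]
  · rcases h _ (Om.mul hc (hx ▸ dvd_rfl) dvd_rfl ((Nat.Prime.coprime_iff_not_dvd hp).2 hd)) with k | k | k <;> rw [k]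
    exacts [Or.inl (one_dvd _), Or.inl (dvd_mul_right _ _), Or.inr (dvd_mul_right _ _)]

theorem Sm.cases {D : Subgroup X} (h : Sm D) : ∃ (Q : Subgroup X) (a : ℕ), Q ≤ D ∧
    normalizer (D : Set X) ≤ normalizer (Q : Set X) ∧
    ((Nat.card Q = 2 ^ a ∧ Q = D) ∨ (Nat.card Q = 3 ^ a ∧ Q = D) ∨
      (0 < a ∧ Nat.card Q = 4 ^ a ∧ Nat.card D = 4 ^ a * 3) ∨
      (0 < a ∧ Nat.card Q = 3 ^ a ∧ Nat.card D = 3 ^ a * 2)) := by
  have f3 := Fact.mk Nat.prime_three
  by_cases h2 : ∀ y ∈ D, y ^ 2 = 1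
  · obtain ⟨a, ha⟩ := IsPGroup.iff_card.1
      (show IsPGroup 2 D from fun x => ⟨1, Subtype.ext (by rw [pow_one]; exact h2 x x.2)⟩)
    exact ⟨D, a, le_rfl, le_rfl, Or.inl ⟨ha, rfl⟩⟩
  by_cases h3 : ∀ y ∈ D, y ^ 3 = 1
  · obtain ⟨a, ha⟩ := IsPGroup.iff_card.1
      (show IsPGroup 3 D from fun x => ⟨1, Subtype.ext (by rw [pow_one]; exact h3 x x.2)⟩)
    exact ⟨D, a, le_rfl, le_rfl, Or.inr (Or.inl ⟨ha, rfl⟩)⟩
  push Not at h2 h3
  obtain ⟨u, hu, hu2⟩ := h2
  obtain ⟨v, hv, hv3⟩ := h3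
  have ou : orderOf u = 3 := orderOf_eq_prime ((h u hu).resolve_left hu2) fun k => hu2 (by rw [k, one_pow])
  have ov : orderOf v = 2 := orderOf_eq_prime ((h v hv).resolve_right hv3) fun k => hv3 (by rw [k, one_pow])
  have hr : Set.range (orderOf : D → ℕ) = {k : ℕ | 1 ≤ k ∧ k ≤ 3} := by
    ext k
    constructor
    · rintro ⟨y, rfl⟩
      refine ⟨orderOf_pos y, ?_⟩
      rcases h y y.2 with k | k
      · exact (orderOf_le_of_pow_eq_one two_pos (Subtype.ext k)).trans (by decide)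
      · exact orderOf_le_of_pow_eq_one three_pos (Subtype.ext k)
    · rintro ⟨k1, k3⟩
      interval_cases k
      exacts [⟨1, orderOf_one⟩, ⟨⟨v, hv⟩, (orderOf_mk _ _).trans ov⟩, ⟨⟨u, hu⟩, (orderOf_mk _ _).trans ou⟩]
  rcases S4005.result hr with ⟨N, hn, he, hi⟩ | ⟨N, hn, he, hi⟩
  · obtain ⟨Q, a, k, a0, c1, c2⟩ := part Nat.prime_three (by decide) hn he hi hu ou
    exact ⟨Q, a, fun y hy => ((k y).1 hy).1, norm_of_iff k, Or.inr (Or.inr (Or.inr ⟨a0, c1, c2⟩))⟩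
  · obtain ⟨Q, a, k, a0, c1, c2⟩ := part Nat.prime_two (by decide) hn he hi hv ov
    have h1 := modEq Nat.prime_three ou (norm_of_iff k (le_normalizer hu))
    have h4 : Q ⊓ Ce u = ⊥ := eq_bot_iff.2 fun y hy => by
      obtain ⟨y1, y2⟩ := (k y).1 hy.1
      have c : Commute y u := mem_centralizer_singleton_iff.1 hy.2
      rcases h _ (mul_mem y1 hu) with e | e
      · rw [c.mul_pow, y2, one_mul] at e
        exact absurd e hu2
      · rw [c.mul_pow, ← ou, pow_orderOf_eq_one, mul_one, ou, pow_succ, y2, one_mul] at e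
        exact e
    rw [h4, card_bot, c1] at h1
    obtain ⟨b, rfl | rfl⟩ := Nat.even_or_odd' a
    · rw [pow_mul] at c1 c2
      exact ⟨Q, b, fun y hy => ((k y).1 hy).1, norm_of_iff k, Or.inr (Or.inr (Or.inl ⟨by omega, c1, c2⟩))⟩
    · rw [pow_succ, pow_mul, Nat.ModEq, Nat.mul_mod, Nat.pow_mod] at h1
      simp at h1

theorem Sm.comm {D : Subgroup X} (h : Sm D) (h2 : IsPGroup 2 D) : ∀ a ∈ D, ∀ b ∈ D, a * b = b * a :=
  fun _ ha _ hb => comm_of_sq (fun _ hy => sq_of_two h h2 hy) ha hb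

theorem Sm.four {D : Subgroup X} (h : Sm D) (h4 : 4 ∣ Nat.card D) :
    ∃ a ∈ D, ∃ b ∈ D, orderOf a = 2 ∧ orderOf b = 2 ∧ a ≠ b ∧ Commute a b := by
  obtain ⟨K, hK⟩ := Sylow.exists_subgroup_card_pow_prime 2 (n := 2) h4
  have hle : K.map D.subtype ≤ D := map_subtype_le K
  have hs : ∀ y ∈ K.map D.subtype, y ^ 2 = 1 := fun y hy =>
    sq_of_two (fun y hy => h y (hle hy)) ((IsPGroup.of_card hK).map _) hy
  have := Fintype.ofFinite (K.map D.subtype)
  obtain ⟨x, y, z, h1, h2, h3⟩ := (Fintype.two_lt_card_iff (α := K.map D.subtype)).1 (by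
    rw [← Nat.card_eq_fintype_card, card_map_of_injective D.subtype_injective, hK]; decide)
  have m1 := mul_mem (inv_mem x.2) y.2
  have m2 := mul_mem (inv_mem x.2) z.2
  exact ⟨_, hle m1, _, hle m2, orderOf_eq_prime (hs _ m1) fun k => h1 (Subtype.ext (inv_mul_eq_one.1 k)),
    orderOf_eq_prime (hs _ m2) fun k => h2 (Subtype.ext (inv_mul_eq_one.1 k)),
    fun k => h3 (Subtype.ext (mul_left_cancel k)), comm_of_sq hs m1 m2⟩

theorem ratio (hp : p.Prime) {D : Subgroup X} {z : X} (hz : orderOf z = p)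
    (hn : z ∈ normalizer (D : Set X)) (hc : (Nat.card D).Coprime p) {q : ℕ} (hq : q.Prime) :
    ∃ k, q ^ k % p = 1 ∧
      padicValNat q (Nat.card D) = padicValNat q (Nat.card (D ⊓ Ce z : Subgroup X)) + k := by
  have := Fact.mk hq
  have h1 : (Nat.card (zpowers z)).Coprime (Nat.card D) := by rw [Nat.card_zpowers, hz]; exact hc.symm
  have h2 : Group.IsSolvable (zpowers z) ∨ Group.IsSolvable D := Or.inl inferInstance
  obtain ⟨P, hP⟩ := GT.CopAct.exists_invariant_sylow (zpowers_le.2 hn) h1 h2 q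
  obtain ⟨Q, hQ⟩ := GT.CopAct.exists_sylow_inf_centralizer (zpowers_le.2 hn) h1 h2 P hP
  have c1 : Nat.card ((P : Subgroup D).map D.subtype) = q ^ padicValNat q (Nat.card D) := by
    rw [card_map_of_injective D.subtype_injective, P.card_eq_multiplicity, Nat.factorization_def _ hq]
  have c2 : Nat.card ((P : Subgroup D).map D.subtype ⊓ Ce z : Subgroup X) =
      q ^ padicValNat q (Nat.card (D ⊓ Ce z : Subgroup X)) := by
    rw [← ce_eq, ← hQ, card_map_of_injective (subtype_injective _), Q.card_eq_multiplicity,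
      Nat.factorization_def _ hq]
  have h3 := modEq hp hz (zpowers_le.1 hP)
  have h4 := card_dvd_of_le (inf_le_left : (P : Subgroup D).map D.subtype ⊓ Ce z ≤ _)
  have h5 := Nat.Coprime.coprime_dvd_left (h4.trans (card_dvd_of_le (map_subtype_le _))) hc
  rw [c1, c2] at h3 h4
  rw [c2] at h5
  obtain ⟨k, hk⟩ := Nat.exists_eq_add_of_le ((Nat.pow_dvd_pow_iff_le_right hq.one_lt).1 h4)
  refine ⟨k, ?_, hk⟩
  rw [hk, pow_add] at h3
  rw [← Nat.mod_eq_of_lt hp.one_lt]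
  exact Nat.ModEq.cancel_left_of_coprime h5.symm (h3.trans (by rw [mul_one]))

theorem Dx_le (x : X) : Dx p x ≤ Ce x := GT.pPrimeCoreOf_le _

theorem Dx_cop (x : X) : (Nat.card (Dx p x)).Coprime p := GT.coprime_card_pPrimeCoreOf p _

theorem Dx_norm (x : X) : normalizer (zpowers x : Set X) ≤ normalizer (Dx p x : Set X) :=
  (Inv.Fz.normalizer_le_normalizer_centralizer _).trans
    (ce_eq x ▸ GT.normalizer_le_normalizer_pPrimeCoreOf (p := p) (Ce x))

theorem Ce_le_norm_Dx (x : X) : Ce x ≤ normalizer (Dx p x : Set X) := GT.le_normalizer_pPrimeCoreOf _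

theorem le_Dx {x : X} {Y : Subgroup X} (h1 : Y ≤ Ce x) (h2 : Ce x ≤ normalizer (Y : Set X))
    (hc : (Nat.card Y).Coprime p) : Y ≤ Dx p x := GT.le_pPrimeCoreOf h1 h2 hc

end Cfsg.Agent.SpS
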