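import Mathlib
import Cfsg.Agent.SpS.Defs
import Cfsg.Agent.SpS.Defs2
import Cfsg.Agent.SpS.PA
import Cfsg.Agent.GT.Fitting
import Cfsg.Agent.GT.PPrimeCore
import Cfsg.Agent.GT.PGroupChain
import Cfsg.Agent.Ch.Burnside

/-! S3586/S3535, piece PCa: solvable centralizers of elements of order `p`. -/

set_option autoImplicit false
set_option linter.unusedSectionVars false
set_option linter.unusedVariables false

namespace Cfsg.Agent.SpS

open Subgroup

variable {G X : Type*} [Group G] [Finite G] [Group X] [Finite X] {p : ℕ}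

namespace PCa

/-- A group of characteristic `p` with a central element of order `p` and `p ^ 4 ∤ |Y|` has a
normal Sylow `p`-subgroup. -/
theorem le_pCore {Y : Type*} [Group Y] [Finite Y] (hp : p.Prime)
    (hc : centralizer (Cfsg.pCore p Y : Set Y) ≤ Cfsg.pCore p Y) {x : Y} (hx : orderOf x = p)
    (hz : x ∈ center Y) (h4 : ¬ p ^ 4 ∣ Nat.card Y) {P : Subgroup Y} (hP : IsPGroup p P) :
    P ≤ Cfsg.pCore p Y := by
  have := Fact.mk hp
  set F := Cfsg.pCore p Y with hF
  have hFp : IsPGroup p F := GT.isPGroup_pCore p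
  by_contra hn
  -- `|F| ≤ p ^ 2`
  have hQ : IsPGroup p (P ⊔ F : Subgroup Y) := IsPGroup.to_sup_of_normal_right hP hFp
  obtain ⟨a, ha⟩ := hQ.exists_card_eq
  obtain ⟨b, hb⟩ := hFp.exists_card_eq
  have ha3 : a ≤ 3 := by
    by_contra h
    exact h4 ((pow_dvd_pow p (by omega)).trans (ha ▸ card_subgroup_dvd_card _))
  have hlt : F < P ⊔ F := lt_of_le_of_ne le_sup_right (fun e => hn (e ▸ le_sup_left))
  have hba : b < a := by
    have := Inv.Fz.card_lt_of_lt hlt
    rw [ha, hb] at this
    exact (Nat.pow_lt_pow_iff_right hp.one_lt).1 this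
  have hxF : x ∈ F := hc (center_le_centralizer _ hz)
  have hZ : zpowers x ≤ center Y := zpowers_le.2 hz
  have hZn : (zpowers x).Normal := ⟨fun y hy g => by
    rw [mem_center_iff.1 (hZ hy) g, mul_inv_cancel_right]; exact hy⟩
  let π := QuotientGroup.mk' (zpowers x)
  have hπ : Function.Surjective π := QuotientGroup.mk'_surjective _
  have : (F.map π).Normal := Normal.map inferInstance π hπ
  have hcard : Nat.card (F.map π) * p = p ^ b := by
    have h1 : (F.map π).index = F.index := by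
      rw [index_map, QuotientGroup.ker_mk', sup_eq_left.2 (zpowers_le.2 hxF),
        MonoidHom.range_eq_top.2 hπ, index_top, mul_one]
    have h2 := (F.map π).card_mul_index
    have h3 := F.card_mul_index
    have h4 := (zpowers x).card_mul_index
    rw [Nat.card_zpowers, hx, index_eq_card] at h4
    rw [h1] at h2
    have h5 : F.index ≠ 0 := index_ne_zero_of_finite
    apply Nat.eq_of_mul_eq_mul_right (Nat.pos_of_ne_zero h5)
    rw [← hb, h3, ← h4, ← h2]; ring
  -- the kernel of the action on `F / ⟨x⟩`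
  let K : Subgroup Y := (centralizer (F.map π : Set (Y ⧸ zpowers x))).comap π
  have : K.Normal := Normal.comap inferInstance π
  have hKp : IsPGroup p K := by
    intro g
    have hg : (g : Y) ^ p ∈ centralizer (F : Set Y) := by
      intro f hf
      have h1 : π f * π g = π g * π f := g.2 _ (mem_map_of_mem π hf)
      have h2 : (g : Y) * f * (g : Y)⁻¹ * f⁻¹ ∈ zpowers x := by
        rw [← QuotientGroup.ker_mk' (zpowers x), MonoidHom.mem_ker]
        change π _ = 1
        simp only [map_mul, map_inv]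
        rw [← h1]; group
      set c := (g : Y) * f * (g : Y)⁻¹ * f⁻¹ with hcdef
      have hcz : c ∈ center Y := hZ h2
      have hcp : c ^ p = 1 := by
        obtain ⟨k, hk⟩ := mem_zpowers_iff.1 h2
        rw [← hk, ← zpow_natCast, ← zpow_mul, mul_comm, zpow_mul, zpow_natCast, ← hx,
          pow_orderOf_eq_one, one_zpow]
      have h3 : ∀ k : ℕ, (g : Y) ^ k * f = c ^ k * f * (g : Y) ^ k := by
        intro k
        induction k with
        | zero => simp
        | succ k ih =>
          have h4 : (g : Y) * f = c * f * g := by rw [hcdef]; group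
          have h5 : (g : Y) * c ^ k = c ^ k * g := mem_center_iff.1 (pow_mem hcz k) g
          rw [pow_succ', mul_assoc, ih, ← mul_assoc, ← mul_assoc, h5, mul_assoc (c ^ k), h4,
            pow_succ c]
          simp only [mul_assoc]
      rw [h3 p, hcp, one_mul]
    obtain ⟨k, hk⟩ := hFp ⟨_, hc hg⟩
    refine ⟨k + 1, Subtype.ext ?_⟩
    have := congrArg Subtype.val hk
    simp only [SubgroupClass.coe_pow, OneMemClass.coe_one] at this ⊢
    rw [pow_succ', pow_mul, this]
  have hKF : K ≤ F := GT.le_pCore hKp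
  apply hn
  refine le_trans ?_ hKF
  rw [← map_le_iff_le_comap]
  have hb2 : b = 1 ∨ b = 2 := by
    rcases b with _ | b
    · exfalso
      rw [pow_zero] at hcard
      exact hp.one_lt.ne' (Nat.eq_one_of_mul_eq_one_left hcard)
    · omega
  rcases hb2 with rfl | rfl
  · have h1 : Nat.card (F.map π) = 1 := by
      apply Nat.eq_of_mul_eq_mul_right hp.pos
      rw [hcard]; ring
    rw [card_eq_one.1 h1]
    intro g _ y hy
    rw [SetLike.mem_coe, mem_bot] at hy
    rw [hy, one_mul, mul_one]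
  · have h1 : Nat.card (F.map π) = p := by
      apply Nat.eq_of_mul_eq_mul_right hp.pos
      rw [hcard]; ring
    exact GT.PG.le_centralizer_of_card_prime h1 (hP.map π) (le_top.trans (normalizer_eq_top _).ge)

/-- the primes of the centralizer of an element of order `p` -/
theorem primes (h : PL p X) {x : X} (hx : orderOf x = p) {r : ℕ} (hr : r.Prime)
    (hd : r ∣ Nat.card (Ce x)) : r = 2 ∨ r = 3 ∨ r = p := by
  have := Fact.mk hr
  obtain ⟨y, hy⟩ := exists_prime_orderOf_dvd_card' r hd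
  have hy' : orderOf (y : X) = r := by rw [Subgroup.orderOf_coe, hy]
  have hc : Commute x y := y.2 x rfl
  rcases h.cen x y hx hc with h1 | h1
  · have := orderOf_dvd_of_pow_eq_one h1
    rw [hy'] at this
    rcases (Nat.Prime.dvd_mul hr).1 this with h2 | h2
    · exact .inl ((Nat.prime_dvd_prime_iff_eq hr Nat.prime_two).1 h2)
    · exact .inr (.inr ((Nat.prime_dvd_prime_iff_eq hr h.prime).1 h2))
  · have := orderOf_dvd_of_pow_eq_one h1
    rw [hy'] at this
    rcases (Nat.Prime.dvd_mul hr).1 this with h2 | h2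
    · exact .inr (.inl ((Nat.prime_dvd_prime_iff_eq hr Nat.prime_three).1 h2))
    · exact .inr (.inr ((Nat.prime_dvd_prime_iff_eq hr h.prime).1 h2))

/-- `Sol` as soon as `C(x) / O_{p'}(C(x))` has characteristic `p`. -/
theorem sol_of_charP (h : PL p X) {x : X} (hx : orderOf x = p)
    (hc : centralizer (Cfsg.pCore p (Ce x ⧸ Cfsg.pPrimeCore p (Ce x)) :
      Set (Ce x ⧸ Cfsg.pPrimeCore p (Ce x))) ≤ Cfsg.pCore p (Ce x ⧸ Cfsg.pPrimeCore p (Ce x))) :
    Sol p x := by
  have hp := h.prime
  have := Fact.mk hp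
  intro P hP c hcx
  let π := QuotientGroup.mk' (Cfsg.pPrimeCore p (Ce x))
  have hπ : Function.Surjective π := QuotientGroup.mk'_surjective _
  let x0 : Ce x := ⟨x, mem_centralizer_singleton_iff.2 rfl⟩
  have hx0 : orderOf x0 = p := by rw [← Subgroup.orderOf_coe]; exact hx
  have hxb : orderOf (π x0) = p := by
    have h1 : orderOf (π x0) ∣ p := hx0 ▸ orderOf_map_dvd π x0
    rcases (Nat.dvd_prime hp).1 h1 with h2 | h2
    · exfalso
      have h3 : x0 ∈ Cfsg.pPrimeCore p (Ce x) := by
        rw [← QuotientGroup.ker_mk' (Cfsg.pPrimeCore p (Ce x))]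
        exact orderOf_eq_one_iff.1 h2
      exact GT.not_dvd_card_pPrimeCore hp (hx0 ▸ orderOf_dvd_natCard _ h3)
    · exact h2
  have hzb : π x0 ∈ center _ := by
    rw [mem_center_iff]
    intro g
    obtain ⟨g, rfl⟩ := hπ g
    rw [← map_mul, ← map_mul]
    congr 1
    exact Subtype.ext (mem_centralizer_singleton_iff.1 g.2)
  have h4 : ¬ p ^ 4 ∣ Nat.card (Ce x ⧸ Cfsg.pPrimeCore p (Ce x)) := fun e =>
    h.d4 ((e.trans (card_quotient_dvd_card _)).trans (card_subgroup_dvd_card _))
  set F := Cfsg.pCore p (Ce x ⧸ Cfsg.pPrimeCore p (Ce x)) with hF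
  have hFp : IsPGroup p F := GT.isPGroup_pCore p
  have hle : (hP.toSylow : Subgroup (Ce x)).map π ≤ F :=
    le_pCore hp hc hxb hzb h4 (hP.toSylow.isPGroup'.map π)
  have heq : F = (hP.toSylow : Subgroup (Ce x)).map π :=
    (hP.toSylow.mapSurjective hπ).is_maximal' hFp hle
  have hM : F.comap π = P.subgroupOf (Ce x) ⊔ Cfsg.pPrimeCore p (Ce x) := by
    rw [heq, comap_map_eq, QuotientGroup.ker_mk', hP.coe_toSylow]
  have hM' : (F.comap π).map (Ce x).subtype = P ⊔ Dx p x := by
    rw [hM, Subgroup.map_sup, subgroupOf_map_subtype, inf_eq_left.2 hP.le]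
    rfl
  have hcn : c ∈ normalizer ((P ⊔ Dx p x : Subgroup X) : Set X) := by
    rw [← hM']
    apply Inv.Fz.mem_normalizer_of_conj_mem
    rintro _ ⟨y, hy, rfl⟩
    exact ⟨⟨c, hcx⟩ * y * ⟨c, hcx⟩⁻¹, Normal.conj_mem inferInstance y hy _, rfl⟩
  obtain ⟨k, hk, hkc⟩ := (hP.mono le_sup_left (sup_le hP.le (Dx_le x))).frattini hcn
  obtain ⟨a, ha, d, hd, rfl⟩ :=
    (Inv.Fz.mem_sup_iff_of_le_normalizer (hP.le.trans (Ce_le_norm_Dx x))).1 hk
  refine ⟨d⁻¹, inv_mem hd, ?_⟩
  have := mul_mem (inv_mem (le_normalizer ha)) hkc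
  simpa [mul_assoc] using this

end PCa

theorem PL.sol_of_solvable (h : PL p X) {x : X} (hx : orderOf x = p) (hs : Group.IsSolvable (Ce x)) :
    Sol p x :=
  PCa.sol_of_charP h hx (GT.centralizer_pCore_le h.prime GT.pPrimeCore_quotient_pPrimeCore)

theorem PL.solvable_of_sol (h : PL p X) {x : X} (hx : orderOf x = p) (hs : Sol p x) :
    Group.IsSolvable (Ce x) := by
  have hp := h.prime
  have := Fact.mk hp
  obtain ⟨P0⟩ : Nonempty (Sylow p (Ce x)) := inferInstance
  have hP := Inv.Fz.isSylIn_map_subtype P0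
  have key : ∀ {H : Type _} [Group H] [Finite H], Nat.card H ∣ Nat.card (Ce x) →
      ¬ p ∣ Nat.card H → Group.IsSolvable H := by
    intro H _ _ h1 h2
    refine Ch.burnside_isSolvable_of_primes (p := 2) Nat.prime_three (fun r hr hd => ?_)
    rcases PCa.primes h hx hr (hd.trans h1) with h3 | h3 | h3
    · exact .inl h3
    · exact .inr h3
    · exact absurd (h3 ▸ hd) h2
  have hD : Group.IsSolvable (Cfsg.pPrimeCore p (Ce x)) :=
    key (card_subgroup_dvd_card _) (GT.not_dvd_card_pPrimeCore hp)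
  let N : Subgroup (Ce x) := normalizer ((P0 : Subgroup (Ce x)) : Set (Ce x))
  have hN : Group.IsSolvable N := by
    have h1 : Group.IsSolvable ((P0 : Subgroup (Ce x)).subgroupOf N) := by
      have : IsPGroup p ((P0 : Subgroup (Ce x)).subgroupOf N) := P0.isPGroup'.comap_subtype
      have := this.isNilpotent
      infer_instance
    have h2 : Group.IsSolvable (N ⧸ (P0 : Subgroup (Ce x)).subgroupOf N) := by
      refine key ((card_quotient_dvd_card _).trans (card_subgroup_dvd_card _)) ?_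
      rw [← index_eq_card]
      exact fun e => P0.not_dvd_index
        (e.trans (relIndex_dvd_index_of_le (le_normalizer : (P0 : Subgroup (Ce x)) ≤ N)))
    exact Group.isSolvable_of_ker_le_range ((P0 : Subgroup (Ce x)).subgroupOf N).subtype
      (QuotientGroup.mk' ((P0 : Subgroup (Ce x)).subgroupOf N))
      (by rw [QuotientGroup.ker_mk', range_subtype])
  let π := QuotientGroup.mk' (Cfsg.pPrimeCore p (Ce x))
  have hQ : Group.IsSolvable (Ce x ⧸ Cfsg.pPrimeCore p (Ce x)) := by
    refine Group.isSolvable_of_surjective (f := π.comp N.subtype) ?_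
    intro y
    obtain ⟨c, rfl⟩ := QuotientGroup.mk'_surjective _ y
    obtain ⟨_, ⟨d, hd, rfl⟩, hn⟩ := hs _ hP c c.2
    refine ⟨⟨d⁻¹ * c, ?_⟩, ?_⟩
    · apply Inv.Fz.mem_normalizer_of_conj_mem
      intro y hy
      have := (mem_normalizer_iff.1 hn y).1 (mem_map_of_mem _ hy)
      obtain ⟨y', hy', e⟩ := this
      have e' : y' = d⁻¹ * c * y * (d⁻¹ * c)⁻¹ := Subtype.ext e
      exact e' ▸ hy'
    · have h1 : π d = 1 := (QuotientGroup.eq_one_iff d).2 hd
      change π (d⁻¹ * c) = π c
      rw [map_mul, map_inv, h1, inv_one, one_mul]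
  exact Group.isSolvable_of_ker_le_range (Cfsg.pPrimeCore p (Ce x)).subtype π
    (by rw [QuotientGroup.ker_mk', range_subtype])

theorem Alt.not_solvable {x : X} (h : Alt x) : ¬ Group.IsSolvable (Ce x) := by
  obtain ⟨L, W, ⟨e⟩, -, -, -, -, hs⟩ := h
  intro hsol
  have hle : L ≤ Ce x := hs ▸ le_sup_left
  have : Group.IsSolvable L := Group.isSolvable_of_isSolvable_injective (inclusion_injective hle)
  have : Group.IsSolvable (alternatingGroup (Fin 5)) :=
    Group.isSolvable_of_surjective (f := e.toMonoidHom) e.surjective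
  have hc := IsSimpleGroup.comm_iff_isSolvable.2 this
  revert hc
  decide

theorem Alt.D_eq_bot {x : X} (h : Alt x) : Dx 5 x = ⊥ := by
  obtain ⟨L, W, ⟨e⟩, hW, -, hc, -, hs⟩ := h
  have hle : L ≤ Ce x := hs ▸ le_sup_left
  have : IsSimpleGroup L := e.isSimpleGroup
  have hL : Nat.card L = 60 := by
    rw [Nat.card_congr e.toEquiv, nat_card_alternatingGroup]; simp [Nat.factorial]
  have hcop := Dx_cop (p := 5) x
  have : ((Dx 5 x).subgroupOf L).Normal :=
    (normal_subgroupOf_iff_le_normalizer_inf.2 (by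
      intro l hl
      apply Inv.Fz.mem_normalizer_of_conj_mem
      intro y hy
      exact ⟨(mem_normalizer_iff.1 (Ce_le_norm_Dx (p := 5) x (hle hl)) y).1 hy.1,
        L.mul_mem (L.mul_mem hl hy.2) (L.inv_mem hl)⟩))
  have hDL : ∀ y ∈ L, y ∈ Dx 5 x → y = 1 := by
    rcases IsSimpleGroup.eq_bot_or_eq_top_of_normal ((Dx 5 x).subgroupOf L) this with h1 | h1
    · intro y hy hyD
      have : (⟨y, hy⟩ : L) ∈ (Dx 5 x).subgroupOf L := hyD
      rw [h1, mem_bot] at this
      exact congrArg Subtype.val this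
    · exfalso
      have h2 : Nat.card L ∣ Nat.card (Dx 5 x) := card_dvd_of_le (subgroupOf_eq_top.1 h1)
      rw [hL] at h2
      have := Nat.Coprime.coprime_dvd_left h2 hcop
      norm_num at this
  rw [eq_bot_iff]
  intro d hd
  have hd' : d ∈ L ⊔ W := hs ▸ Dx_le x hd
  obtain ⟨l, hl, w, hw, rfl⟩ :=
    (Inv.Fz.mem_sup_iff_of_le_normalizer (hc.trans (centralizer_le_normalizer _))).1 hd'
  obtain ⟨k, hk⟩ := hW ⟨w, hw⟩
  have hk' : w ^ 5 ^ k = 1 := congrArg Subtype.val hk
  have hcm : Commute l w := (hc hl w hw).symm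
  have h1 : (l * w) ^ 5 ^ k = l ^ 5 ^ k := by rw [hcm.mul_pow, hk', mul_one]
  have h2 : (l * w) ^ 5 ^ k = 1 := by
    apply hDL _ (h1 ▸ pow_mem hl _) (pow_mem hd _)
  have h3 : (orderOf (l * w)).Coprime (5 ^ k) :=
    (Nat.Coprime.coprime_dvd_left (orderOf_dvd_natCard _ hd) hcop).pow_right k
  rw [mem_bot, ← orderOf_eq_one_iff]
  exact Nat.Coprime.eq_one_of_dvd h3 (orderOf_dvd_of_pow_eq_one h2)

end Cfsg.Agent.SpS
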