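import Mathlib
import Cfsg.Agent.SpS.Defs
import Cfsg.Agent.SpS.Defs2

/-! S3586/S3535, piece T8.  Proof: see `stubs/Cfsg/Agent/SpS/PLAN2.md`. -/

set_option autoImplicit false
set_option linter.unusedSectionVars false
set_option linter.unusedVariables false

namespace Cfsg.Agent.SpS

open Subgroup

variable {G X : Type*} [Group G] [Finite G] [Group X] [Finite X] {p : ℕ}

theorem syl_move {T : Subgroup X} (hT : IsPGroup 2 T) (h2 : 2 * Nat.card T ∣ Nat.card X) :
    ∃ S : Subgroup X, IsPGroup 2 S ∧ T ≤ S ∧ S ≤ normalizer (T : Set X) ∧ Nat.card S = 2 * Nat.card T := by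
  have := Fact.mk Nat.prime_two
  obtain ⟨n, hn⟩ := IsPGroup.iff_card.1 hT
  obtain ⟨S, hS, hle⟩ := Sylow.exists_subgroup_card_pow_succ (p := 2) (n := n)
    (by rw [pow_succ', ← hn]; exact h2) hn
  have hc : Nat.card S = 2 * Nat.card T := by rw [hS, hn, pow_succ']
  refine ⟨S, IsPGroup.of_card hS, hle, ?_, hc⟩
  have h1 := (T.subgroupOf S).index_mul_card
  rw [Nat.card_congr (subgroupOfEquivOfLe hle).toEquiv, hc] at h1
  exact (normal_subgroupOf_iff_le_normalizer hle).1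
    (normal_of_index_eq_two (Nat.eq_of_mul_eq_mul_right Nat.card_pos h1))

namespace T8

theorem not_le {T S : Subgroup X} {t : X} (hS : Inv.Fz.IsSylIn 2 T (Ce t)) (h1 : IsPGroup 2 S)
    (h2 : T ≤ S) (h3 : Nat.card S = 2 * Nat.card T) : ¬ S ≤ Ce t := fun h => by
  have h4 := card_le_of_le (hS.2.2 S h1 h h2).le
  have h5 : 0 < Nat.card T := Nat.card_pos
  omega

theorem dvd_range {N A : Type*} [Group N] [Group A] (φ : N →* A) {q k : ℕ} (hq : q.Prime) {g : N}
    (hg : g ^ q ^ k = 1) (h1 : φ g ≠ 1) : q ∣ Nat.card φ.range := by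
  have h2 : orderOf (φ g) ∣ q ^ k := orderOf_dvd_of_pow_eq_one (by rw [← map_pow, hg, map_one])
  obtain ⟨j, -, hj⟩ := (Nat.dvd_prime_pow hq).1 h2
  have h3 : j ≠ 0 := by
    rintro rfl
    exact h1 (orderOf_eq_one_iff.1 hj)
  exact (hj ▸ dvd_pow_self q h3).trans (orderOf_dvd_natCard _ ⟨g, rfl⟩)

/-- An involutory automorphism of a group of order eight and exponent two has at least three
fixed points. -/
theorem three_le {T : Type*} [Group T] [Finite T] (hT : Nat.card T = 8) (he : ∀ a : T, a * a = 1)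
    {σ : MulAut T} (hσ : σ * σ = 1) : 3 ≤ Nat.card {x : T // σ x = x} := by
  have inv : ∀ a : T, a⁻¹ = a := fun a => inv_eq_of_mul_eq_one_right (he a)
  have cm : ∀ a b : T, a * b = b * a := fun a b => by rw [← inv (a * b), mul_inv_rev, inv, inv]
  let ν : T →* T := MonoidHom.mk' (fun x => x * σ x) fun a b => by
    rw [map_mul]
    exact Commute.mul_mul_mul_comm (cm _ _) _ _
  have h1 : Nat.card ν.ker ≤ Nat.card {x : T // σ x = x} :=
    Nat.card_le_card_of_injective (fun x => ⟨x.1, (eq_inv_of_mul_eq_one_right x.2).trans (inv _)⟩)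
      fun x y e => Subtype.ext (Subtype.mk.inj e)
  have h2 : Nat.card ν.range ≤ Nat.card {x : T // σ x = x} :=
    Nat.card_le_card_of_injective (fun x => ⟨x.1, by
      obtain ⟨_, y, rfl⟩ := x
      change σ (y * σ y) = y * σ y
      rw [map_mul, ← MulAut.mul_apply, hσ, MulAut.one_apply, cm]⟩)
      fun x y e => Subtype.ext (Subtype.mk.inj e)
  have h3 := ν.ker.card_mul_index
  rw [index_ker, hT] at h3
  by_contra h4
  have h5 := Nat.mul_le_mul (h1.trans (Nat.le_of_lt_succ (Nat.lt_of_not_le h4)))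
    (h2.trans (Nat.le_of_lt_succ (Nat.lt_of_not_le h4)))
  omega

end T8

theorem t8 {T : Subgroup X} (hT : Nat.card T = 8) (he : ∀ a ∈ T, a ^ 2 = 1) {t u : X} (ht : t ∈ T)
    (hS : Inv.Fz.IsSylIn 2 T (Ce t)) (hN : normalizer (T : Set X) ⊓ Ce t ≤ centralizer (T : Set X))
    (hu : u ∈ normalizer (T : Set X)) (hu3 : ∃ k, orderOf u = 3 ^ k) (huc : u ∉ centralizer (T : Set X))
    (h16 : 16 ∣ Nat.card X) : False := by
  have := Fact.mk Nat.prime_two
  let φ := T.normalizerMonoidHom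
  have hk : ∀ g : normalizer (T : Set X), φ g = 1 ↔ (g : X) ∈ centralizer (T : Set X) := fun g => by
    rw [← MonoidHom.mem_ker, normalizerMonoidHom_ker, mem_subgroupOf]
  have free : ∀ a ∈ φ.range, a ⟨t, ht⟩ = ⟨t, ht⟩ → a = 1 := by
    rintro _ ⟨g, rfl⟩ e
    have e' : (g : X) * t * (g : X)⁻¹ = t := congrArg Subtype.val e
    exact (hk g).2 (hN ⟨g.2, mem_centralizer_singleton_iff.2 (mul_inv_eq_iff_eq_mul.1 e')⟩)
  obtain ⟨S, pS, le, nS, cS⟩ := syl_move hS.isPGroup (by rw [hT]; exact h16)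
  have d2 : 2 ∣ Nat.card φ.range := by
    obtain ⟨s, hs, hs'⟩ := SetLike.not_le_iff_exists.1 (T8.not_le hS pS le cS)
    obtain ⟨k, hk'⟩ := pS ⟨s, hs⟩
    refine T8.dvd_range φ Nat.prime_two (k := k) (g := ⟨s, nS hs⟩)
      (Subtype.ext (congrArg Subtype.val hk' :)) fun e => hs' ?_
    exact mem_centralizer_singleton_iff.2 (mem_centralizer_iff.1 ((hk _).1 e) t ht).symm
  have d3 : 3 ∣ Nat.card φ.range := by
    obtain ⟨k, hk'⟩ := hu3
    exact T8.dvd_range φ Nat.prime_three (k := k) (g := ⟨u, hu⟩)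
      (Subtype.ext (by rw [coe_pow, ← hk']; exact pow_orderOf_eq_one u)) fun e => huc ((hk _).1 e)
  have d6 : 6 ≤ Nat.card φ.range :=
    Nat.le_of_dvd Nat.card_pos (Nat.Coprime.mul_dvd_of_dvd_of_dvd (by decide) d2 d3)
  obtain ⟨σ, hσ⟩ := exists_prime_orderOf_dvd_card' 2 d2
  have σ2 : (σ : MulAut T) * σ = 1 := by
    rw [← coe_mul, ← pow_two, ← hσ, pow_orderOf_eq_one, coe_one]
  have σ1 : σ ≠ 1 := by
    rintro rfl
    rw [orderOf_one] at hσ
    exact absurd hσ (by decide)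
  have h3 := T8.three_le hT (fun a => Subtype.ext (by rw [← pow_two]; exact he a a.2)) σ2
  have key : ∀ (a : φ.range) (x : T), (σ : MulAut T) x = x → (a : MulAut T) ⟨t, ht⟩ ≠ x := by
    rintro a _ hx rfl
    have h1 := free _ (a⁻¹ * σ * a).2 (by
      rw [coe_mul, coe_mul, MulAut.mul_apply, MulAut.mul_apply, hx, ← MulAut.mul_apply, ← coe_mul,
        inv_mul_cancel, coe_one, MulAut.one_apply])
    have h2 : a⁻¹ * σ * a = 1 := Subtype.ext h1
    exact σ1 (by rw [mul_assoc, inv_mul_eq_one] at h2; exact right_eq_mul.1 h2)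
  have h4 := Nat.card_le_card_of_injective
    (Sum.elim (fun a : φ.range => (a : MulAut T) ⟨t, ht⟩)
      (fun x : {x : T // (σ : MulAut T) x = x} => x.1)) (by
      rintro (a | x) (b | y) e
      · have e' : (a : MulAut T) ⟨t, ht⟩ = (b : MulAut T) ⟨t, ht⟩ := e
        have h1 := free _ (b⁻¹ * a).2 (by
          rw [coe_mul, MulAut.mul_apply, e', ← MulAut.mul_apply, ← coe_mul, inv_mul_cancel,
            coe_one, MulAut.one_apply])
        have h2 : b⁻¹ * a = 1 := Subtype.ext h1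
        rw [inv_mul_eq_one.1 h2]
      · exact absurd e (key a y.1 y.2)
      · exact absurd e.symm (key b x.1 x.2)
      · rw [Subtype.ext (e : x.1 = y.1)])
  rw [Nat.card_sum, hT] at h4
  omega

theorem syl_center {T : Subgroup X} {t : X} (hS : Inv.Fz.IsSylIn 2 T (Ce t)) (ht : t ∈ T)
    (hz : ∀ a ∈ T, a ∈ centralizer (T : Set X) → orderOf a = 2 → a = t) (h1 : orderOf t = 2) :
    ¬ 2 * Nat.card T ∣ Nat.card X := fun h => by
  obtain ⟨S, pS, le, nS, cS⟩ := syl_move hS.isPGroup h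
  refine T8.not_le hS pS le cS fun s hs => mem_centralizer_singleton_iff.2
    (mul_inv_eq_iff_eq_mul.1 (hz _ ((mem_normalizer_iff.1 (nS hs) t).1 ht) ?_ ?_))
  · refine mem_centralizer_iff.2 fun a ha => ?_
    have h2 := mem_centralizer_singleton_iff.1
      (hS.le ((mem_normalizer_iff.1 (inv_mem (nS hs)) a).1 ha))
    calc a * (s * t * s⁻¹) = s * (s⁻¹ * a * s⁻¹⁻¹ * t) * s⁻¹ := by group
      _ = _ := by rw [h2]; group
  · rw [← h1]
    exact (MulAut.conj s).orderOf_eq t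

end Cfsg.Agent.SpS
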