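import Mathlib
import Cfsg.Agent.SpS.Defs
import Cfsg.Agent.GT.CoprimeFixed
import Cfsg.Agent.GT.CoprimeGen
import Cfsg.Agent.GT.FourGroup
import Cfsg.Agent.Inv.Classes
import Cfsg.Agent.S3703

/-! S3586/S3535, piece Fix: fixed points of `p × p` and of `r : p` on `K`. -/

set_option autoImplicit false
set_option linter.unusedSectionVars false
set_option linter.unusedVariables false

namespace Cfsg.Agent.SpS

open Subgroup

namespace Fix

open Cfsg.Agent.GT.CopAct

variable {Y B : Type*} [Group Y] [Finite Y] [Group B]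

theorem lift (π : Y →* B) {M : Subgroup Y} {a : B} (ha : a ∈ M.map π)
    (hc : (orderOf a).Coprime (Nat.card π.ker)) : ∃ b ∈ M, π b = a ∧ orderOf b = orderOf a := by
  obtain ⟨b, hb, rfl⟩ := ha
  obtain ⟨k, hk1, hk2⟩ := Nat.chineseRemainder hc 1 0
  have e : π (b ^ k) = π b := by rw [map_pow, pow_eq_pow_iff_modEq.mpr hk1, pow_one]
  refine ⟨b ^ k, M.pow_mem hb k, e, Nat.dvd_antisymm (orderOf_dvd_of_pow_eq_one ?_) ?_⟩
  · obtain ⟨m, rfl⟩ := (Nat.modEq_zero_iff_dvd).mp hk2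
    have h1 : b ^ orderOf (π b) ∈ π.ker := by
      rw [MonoidHom.mem_ker, map_pow, pow_orderOf_eq_one]
    have h2 : (b ^ orderOf (π b)) ^ Nat.card π.ker = 1 :=
      congrArg Subtype.val (pow_card_eq_one' (G := π.ker) (x := ⟨_, h1⟩))
    rw [← pow_mul, mul_comm _ (orderOf (π b)), ← mul_assoc, pow_mul, pow_mul, h2, one_pow]
  · rw [← e]
    exact orderOf_map_dvd π _

theorem mem_zp {p : ℕ} (hp : p.Prime) {x k : Y} (hx : orderOf x = p) (hk : k ∈ zpowers x)
    (h1 : k ≠ 1) : x ∈ zpowers k := by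
  have h : zpowers k = zpowers x := by
    refine eq_of_le_of_card_ge (zpowers_le.mpr hk) ?_
    have := (zpowers x).orderOf_dvd_natCard hk
    rw [Nat.card_zpowers, hx] at this
    rw [Nat.card_zpowers, Nat.card_zpowers, hx]
    rcases (Nat.dvd_prime hp).mp this with e | e
    · exact absurd (orderOf_eq_one_iff.mp e) h1
    · rw [e]
  exact h ▸ mem_zpowers x

theorem comm_zp {x k y : Y} (h : x ∈ zpowers k) (hc : Commute k y) : Commute x y := by
  obtain ⟨i, rfl⟩ := h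
  exact hc.zpow_left i

/-- the subgroup generated by two commuting elements -/
def PR (a b : Y) (h : Commute a b) : Subgroup Y where
  carrier := {y | ∃ i j : ℤ, y = a ^ i * b ^ j}
  one_mem' := ⟨0, 0, by simp⟩
  mul_mem' := by
    rintro _ _ ⟨i, j, rfl⟩ ⟨k, l, rfl⟩
    exact ⟨i + k, j + l, by
      rw [zpow_add, zpow_add, mul_assoc, ← mul_assoc (b ^ j), ← (h.zpow_zpow k j).eq]; group⟩
  inv_mem' := by
    rintro _ ⟨i, j, rfl⟩
    exact ⟨-i, -j, by rw [mul_inv_rev, ← zpow_neg, ← zpow_neg, (h.zpow_zpow _ _).eq]⟩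

theorem PR_comm {a b : Y} (h : Commute a b) : IsMulCommutative (PR a b h) := by
  refine ⟨⟨?_⟩⟩
  rintro ⟨_, i, j, rfl⟩ ⟨_, k, l, rfl⟩
  exact Subtype.ext ((((Commute.refl a).zpow_zpow i k).mul_right (h.zpow_zpow i l)).mul_left
    ((h.symm.zpow_zpow j k).mul_right ((Commute.refl b).zpow_zpow j l))).eq

theorem PR_pow {p : ℕ} {a b : Y} (h : Commute a b) (ha : a ^ p = 1) (hb : b ^ p = 1) {y : Y}
    (hy : y ∈ PR a b h) : y ^ p = 1 := by
  obtain ⟨i, j, rfl⟩ := hy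
  rw [(h.zpow_zpow i j).mul_pow, ← zpow_natCast, ← zpow_natCast, ← zpow_mul, ← zpow_mul,
    mul_comm i, mul_comm j, zpow_mul, zpow_mul, zpow_natCast, zpow_natCast, ha, hb]
  simp

theorem PR_pg {p : ℕ} {a b : Y} (h : Commute a b) (ha : a ^ p = 1) (hb : b ^ p = 1) :
    IsPGroup p (PR a b h) := fun y => ⟨1, Subtype.ext (by simpa using PR_pow h ha hb y.2)⟩

theorem dvd_ord {s : ℕ} (hs : s.Prime) {K : Subgroup Y} (hK : IsPGroup s K) {k : Y} (hk : k ∈ K)
    (h1 : k ≠ 1) : ∃ n, orderOf k = s ^ (n + 1) := by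
  have := Fact.mk hs
  obtain ⟨n, hn⟩ := IsPGroup.iff_orderOf.mp hK ⟨k, hk⟩
  rw [← Subgroup.orderOf_coe] at hn
  rcases n with _ | n
  · exact absurd (orderOf_eq_one_iff.mp hn) h1
  · exact ⟨n, hn⟩

theorem fixB (π : Y →* B) (hπ : Function.Surjective π) {p s : ℕ} (hp : p.Prime) (hs : s.Prime)
    (hp2 : p ≠ 2) (hs2 : s ≠ 2) (hps : p ≠ s) (hK : IsPGroup s π.ker) (h2 : ¬ Om Y (2 * s * p))
    {x z : B} (hx : orderOf x = p) (hz : orderOf z = p) (hc : Commute x z) (hxz : x ∉ zpowers z)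
    (hA : ∀ y ∈ centralizer (π.ker : Set Y), π y ≠ z) :
    ∃ i : ℕ, (∀ a b : B, orderOf a = 2 → orderOf b = 2 → a ≠ b → Commute a b →
        Commute a (x * z ^ i) → ¬ Commute b (x * z ^ i)) ∧
      ∀ t : B, orderOf t = 2 → Commute t (x * z ^ i) → t * z * t⁻¹ ≠ z⁻¹ := by
  have := Fact.mk hp
  have := Fact.mk hs
  obtain ⟨nK, hnK⟩ := IsPGroup.iff_card.mp hK
  have cp : p.Coprime (Nat.card π.ker) := hnK ▸ ((Nat.coprime_primes hp hs).mpr hps).pow_right _
  have c2 : Nat.Coprime 2 (Nat.card π.ker) :=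
    hnK ▸ ((Nat.coprime_primes Nat.prime_two hs).mpr hs2.symm).pow_right _
  have cen : ∀ (g : Y) (b : B), (orderOf g).Coprime (Nat.card π.ker) → Commute b (π g) →
      (orderOf b).Coprime (Nat.card π.ker) → ∃ c, Commute c g ∧ π c = b ∧ orderOf c = orderOf b := by
    intro g b h1 h3 h4
    have h5 : b ∈ (centralizer (zpowers g : Set Y)).map π := by
      rw [map_centralizer_of_surjective π hπ (by rwa [Nat.card_zpowers])
        (Or.inl (isSolvable_zpowers g)), MonoidHom.map_zpowers]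
      rintro _ ⟨i, rfl⟩
      exact (h3.zpow_right i).symm.eq
    obtain ⟨c, h6, h7⟩ := lift π h5 h4
    exact ⟨c, (h6 g (mem_zpowers g)).symm, h7⟩
  obtain ⟨x1, -, hx1, ox1⟩ := lift π (M := ⊤) (a := x) (by
    obtain ⟨y, rfl⟩ := hπ x; exact ⟨y, mem_top y, rfl⟩) (hx ▸ cp)
  rw [hx] at ox1
  obtain ⟨z1, czx, hz1, oz1⟩ := cen x1 z (ox1 ▸ cp) (hx1 ▸ hc.symm) (hz ▸ cp)
  rw [hz] at oz1
  have px : x1 ^ p = 1 := ox1 ▸ pow_orderOf_eq_one x1
  have pz : z1 ^ p = 1 := oz1 ▸ pow_orderOf_eq_one z1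
  have hV := PR_pg czx.symm px pz
  have hcop : ∀ {A : Subgroup Y}, IsPGroup p A → (Nat.card A).Coprime (Nat.card π.ker) :=
    fun hA => coprime_of_isPGroup_left hA ((Nat.Prime.coprime_iff_not_dvd hp).mp cp)
  have hnc : ¬ IsCyclic (PR x1 z1 czx.symm) := by
    intro h
    obtain ⟨g, hg⟩ := h.exists_generator
    have h1 : z1 ∈ zpowers (g : Y) := by
      obtain ⟨i, hi⟩ := hg ⟨z1, 0, 1, by simp⟩
      exact ⟨i, congrArg Subtype.val hi⟩
    have h3 : x1 ∈ zpowers (g : Y) := by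
      obtain ⟨i, hi⟩ := hg ⟨x1, 1, 0, by simp⟩
      exact ⟨i, congrArg Subtype.val hi⟩
    have z0 : z1 ≠ 1 := fun e => hp.one_lt.ne (by rw [← oz1, e, orderOf_one])
    have g0 : (g : Y) ≠ 1 := fun e => z0 (by rw [e] at h1; simpa using h1)
    have h4 := mem_zp hp (orderOf_eq_prime (PR_pow czx.symm px pz g.2) g0) h1 z0
    obtain ⟨i, hi⟩ := (zpowers_le.mpr h4) h3
    exact hxz ⟨i, by rw [← hz1, ← hx1, ← hi, map_zpow]⟩
  have hex : ∃ a ∈ PR x1 z1 czx.symm, a ≠ 1 ∧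
      ¬ π.ker ⊓ centralizer {a} ≤ centralizer ({z1} : Set Y) := by
    by_contra h
    push Not at h
    have := le_of_centralizer_elt_le (PR_comm czx.symm) hnc (K := π.ker)
      (by rw [normalizer_eq_top]; exact le_top) (hcop hV) h
    exact hA z1 (fun k hk => mem_centralizer_singleton_iff.mp (this hk)) hz1
  obtain ⟨a, ⟨m, n, rfl⟩, a1, ha⟩ := hex
  have hm : ¬ (p : ℤ) ∣ m := by
    rintro ⟨m, rfl⟩
    rw [zpow_mul, zpow_natCast, px, one_zpow, one_mul] at a1 ha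
    refine ha fun k hk => mem_centralizer_singleton_iff.mpr ?_
    exact (comm_zp (mem_zp hp oz1 ⟨n, rfl⟩ a1) (mem_centralizer_singleton_iff.mp hk.2).symm).symm
  obtain ⟨u, v, huv⟩ := (Prime.coprime_iff_not_dvd (Nat.prime_iff_prime_int.mp hp)).mpr hm
  obtain ⟨i, hi⟩ : ∃ i : ℕ, z1 ^ i = z1 ^ (n * v) := (Submonoid.mem_powers_iff _ _).mp
    (mem_powers_iff_mem_zpowers.mpr ⟨_, rfl⟩)
  have hw : (x1 ^ m * z1 ^ n) ^ v = x1 * z1 ^ i := by
    rw [(czx.symm.zpow_zpow m n).mul_zpow, ← zpow_mul, ← zpow_mul, hi,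
      show m * v = 1 + (p : ℤ) * (-u) by linear_combination huv, zpow_add, zpow_mul, zpow_natCast, px,
      one_zpow, zpow_one, mul_one]
  have hw1 : ¬ π.ker ⊓ centralizer {x1 * z1 ^ i} ≤ centralizer ({z1} : Set Y) := fun h =>
    ha fun k hk => h ⟨hk.1, mem_centralizer_singleton_iff.mpr (hw ▸
      (show Commute k _ from mem_centralizer_singleton_iff.mp hk.2).zpow_right v)⟩
  have hπw : π (x1 * z1 ^ i) = x * z ^ i := by rw [map_mul, map_pow, hx1, hz1]
  have czw : Commute (x1 * z1 ^ i) z1 := czx.symm.mul_left ((Commute.refl z1).pow_left i)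
  have pw : (x1 * z1 ^ i) ^ p = 1 := by
    rw [(czx.symm.pow_right i).mul_pow, px, ← pow_mul, mul_comm i, pow_mul, pz, one_pow, mul_one]
  have ow : orderOf (x1 * z1 ^ i) = p := orderOf_eq_prime pw fun e => hxz (by
    rw [e, map_one, eq_comm, mul_eq_one_iff_eq_inv] at hπw
    exact hπw ▸ inv_mem (pow_mem (mem_zpowers z) i))
  refine ⟨i, ?_⟩
  rw [← hπw]
  generalize x1 * z1 ^ i = w at hw1 czw pw ow
  have key : ∀ t : Y, orderOf t = 2 → Commute t w → ∀ k ∈ π.ker ⊓ centralizer {w},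
      Commute k t → k = 1 := by
    intro t ht htw k hk hkt
    by_contra k1
    obtain ⟨n, hn⟩ := dvd_ord hs hK hk.1 k1
    have h3 : orderOf (t * k) = 2 * s ^ (n + 1) := by
      rw [hkt.symm.orderOf_mul_eq_mul_orderOf_of_coprime, ht, hn]
      rw [ht, hn]
      exact ((Nat.coprime_primes Nat.prime_two hs).mpr hs2.symm).pow_right _
    refine h2 (Om.mul (htw.mul_left (mem_centralizer_singleton_iff.mp hk.2)) ?_ (ow ▸ dvd_rfl) ?_)
    · rw [h3, pow_succ']
      exact Nat.mul_dvd_mul_left 2 (dvd_mul_right _ _)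
    · exact Nat.Coprime.mul_left ((Nat.coprime_primes Nat.prime_two hp).mpr hp2.symm)
        ((Nat.coprime_primes hs hp).mpr hps.symm)
  have nrm : ∀ t : Y, Commute t w →
      t ∈ normalizer ((π.ker ⊓ centralizer {w} : Subgroup Y) : Set Y) := fun t ht =>
    inf_normalizer_le_normalizer_inf ⟨by rw [normalizer_eq_top]; exact mem_top _,
      le_normalizer (mem_centralizer_singleton_iff.mpr ht)⟩
  constructor
  · intro a b ha hb hab cab caw cbw
    obtain ⟨a1, c1, e1, o1⟩ := cen w a (ow ▸ cp) caw (ha ▸ c2)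
    rw [ha] at o1
    have o2 : orderOf (w * a1) = p * 2 := by
      rw [c1.symm.orderOf_mul_eq_mul_orderOf_of_coprime, ow, o1]
      rw [ow, o1]
      exact (Nat.coprime_primes hp Nat.prime_two).mpr hp2
    obtain ⟨b1, c3, e3, o3⟩ := cen (w * a1) b (o2 ▸ cp.mul_left c2)
      (by rw [map_mul, e1]; exact cbw.mul_right cab.symm) (hb ▸ c2)
    rw [hb] at o3
    have a2 : a1 ^ 2 = 1 := o1 ▸ pow_orderOf_eq_one a1
    have b2 : b1 ^ 2 = 1 := o3 ▸ pow_orderOf_eq_one b1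
    have c4 : Commute b1 a1 := by
      have := c3.pow_right p
      obtain ⟨k, hk⟩ := hp.odd_of_ne_two hp2
      rwa [c1.symm.mul_pow, pw, one_mul, hk, pow_succ, pow_mul, a2, one_pow, one_mul] at this
    have c5 : Commute b1 w := by simpa using c3.mul_right c4.inv_right
    have ne : a1 ≠ b1 := fun e => hab (by rw [← e1, ← e3, e])
    have o4 : orderOf (a1 * b1) = 2 := by
      have := Fact.mk Nat.prime_two
      refine orderOf_eq_prime (by rw [c4.symm.mul_pow, a2, b2, mul_one]) fun e => ne ?_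
      rw [mul_eq_one_iff_eq_inv] at e
      rw [e, inv_eq_iff_mul_eq_one, ← sq, b2]
    have hodd : ¬ 2 ∣ Nat.card (π.ker ⊓ centralizer {w} : Subgroup Y) := fun h =>
      (Nat.Prime.coprime_iff_not_dvd Nat.prime_two).mp c2 (h.trans (card_dvd_of_le inf_le_left))
    have := GT.le_of_four_group (H := ⊥) o1 o3 ne c4.symm (nrm a1 c1) (nrm b1 c5) hodd
      (fun k hk => key a1 o1 c1 k hk.1 (mem_centralizer_singleton_iff.mp hk.2))
      (fun k hk => key b1 o3 c5 k hk.1 (mem_centralizer_singleton_iff.mp hk.2))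
      (fun k hk => key _ o4 (c1.mul_left c5) k hk.1 (mem_centralizer_singleton_iff.mp hk.2))
    exact hw1 (this.trans bot_le)
  · intro t ht ctw htz
    have hW := PR_pg czw pw pz
    have h5 : t ∈ (normalizer (PR w z1 czw : Set Y)).map π := by
      rw [map_normalizer_of_surjective π hπ (hcop hW) (Or.inl (isSolvable_of_isPGroup hW))]
      have : Finite B := Finite.of_surjective π hπ
      refine Inv.Fz.mem_normalizer_of_conj_mem ?_
      rintro _ ⟨_, ⟨k, l, rfl⟩, rfl⟩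
      refine ⟨w ^ k * z1 ^ (-l), ⟨k, -l, rfl⟩, ?_⟩
      rw [map_mul, map_mul, map_zpow, map_zpow, map_zpow, hz1, ← conj_mul, ← conj_zpow,
        ← conj_zpow, htz, ctw.eq, mul_inv_cancel_right, inv_zpow', zpow_neg]
    obtain ⟨t1, n1, e1, o1⟩ := lift π h5 (ht ▸ c2)
    rw [ht] at o1
    have inj : ∀ a ∈ PR w z1 czw, ∀ b ∈ PR w z1 czw, π a = π b → a = b := fun a ha b hb e =>
      inv_mul_eq_one.mp (eq_one_of_coprime (hcop hW) (mul_mem (inv_mem ha) hb)
        (by rw [MonoidHom.mem_ker, map_mul, map_inv, e, inv_mul_cancel]))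
    have mw : w ∈ PR w z1 czw := ⟨1, 0, by simp⟩
    have mz : z1 ∈ PR w z1 czw := ⟨0, 1, by simp⟩
    have c1 : Commute t1 w := mul_inv_eq_iff_eq_mul.mp (inj _ ((mem_normalizer_iff.mp n1 w).mp mw) _
      mw (by rw [map_mul, map_mul, map_inv, e1, ctw.eq, mul_inv_cancel_right]))
    have i1 : t1 * z1 * t1⁻¹ = z1⁻¹ := inj _ ((mem_normalizer_iff.mp n1 z1).mp mz) _ (inv_mem mz)
      (by rw [map_mul, map_mul, map_inv, map_inv, e1, hz1, htz])
    have hinv := Inv.inverts_of_fixedPointFree (by rw [← sq, ← o1, pow_orderOf_eq_one]) (nrm t1 c1)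
      (key t1 o1 c1)
    refine hw1 fun k hk => mem_centralizer_singleton_iff.mpr ?_
    have h6 := hinv _ ((mem_normalizer_iff.mp (nrm z1 czw.symm) k).mp hk)
    have h7 : Commute (z1 ^ 2) k⁻¹ := by
      have e : t1 * (z1 * k * z1⁻¹) * t1⁻¹ = z1⁻¹ * k⁻¹ * z1 := by
        rw [← conj_mul, ← conj_mul, ← conj_inv, i1, hinv k hk, inv_inv]
      rw [e] at h6
      calc z1 ^ 2 * k⁻¹ = z1 * (z1 * k * z1⁻¹)⁻¹ * z1 := by rw [sq]; group
        _ = k⁻¹ * z1 ^ 2 := by rw [← h6, sq]; group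
    have h8 : z1 ^ 2 ≠ 1 := fun e => hp2 ((Nat.prime_dvd_prime_iff_eq hp Nat.prime_two).mp
      (oz1 ▸ orderOf_dvd_of_pow_eq_one e))
    exact (Commute.inv_right_iff.mp
      (comm_zp (mem_zp hp oz1 (pow_mem (mem_zpowers z1) 2) h8) h7)).symm

theorem fixpt {P : Subgroup Y} [P.Normal] {s r p : ℕ} (hs : s.Prime) (hr : r.Prime) (hp : p.Prime)
    (hP : IsPGroup s P) (h0 : s ∣ Nat.card P) (hrs : r ≠ s) (hn : ¬ Om Y (r * s)) {x y : Y}
    (hx : orderOf x = r) (hy : orderOf y = p) (hyn : y ∈ normalizer (zpowers x : Set Y))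
    (hxy : ¬ Commute x y) : ∃ a ∈ P, a ≠ 1 ∧ Commute a y := by
  have := Fact.mk hs
  by_contra h
  push Not at h
  have hN : P.Normal := inferInstance
  let f : P → P := fun k => ⟨(k : Y)⁻¹ * (y * k * y⁻¹), mul_mem (inv_mem k.2) (hN.conj_mem _ k.2 y)⟩
  have hf : Function.Injective f := by
    intro k l e
    have e' : (k : Y)⁻¹ * (y * k * y⁻¹) = (l : Y)⁻¹ * (y * l * y⁻¹) := congrArg Subtype.val e
    by_contra hne
    refine h ((l : Y) * (k : Y)⁻¹) (mul_mem l.2 (inv_mem k.2))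
      (fun e => hne (Subtype.ext (mul_inv_eq_one.mp e).symm)) ?_
    calc (l : Y) * (k : Y)⁻¹ * y = l * ((k : Y)⁻¹ * (y * k * y⁻¹)) * y * (k : Y)⁻¹ := by group
      _ = y * (l * (k : Y)⁻¹) := by rw [e']; group
  obtain ⟨m, hm⟩ : ∃ m, p = m + 1 := ⟨p - 1, by have := hp.pos; omega⟩
  obtain ⟨nP, hnP⟩ := IsPGroup.iff_card.mp hP
  have := S3703.le_centralizer hP (K := zpowers x) (by rw [normalizer_eq_top]; exact le_top)
    (y := y) (by rw [normalizer_eq_top]; exact mem_top _) hyn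
    (by rw [Nat.card_zpowers, hx, hnP]; exact ((Nat.coprime_primes hr hs).mpr hrs).pow_right _)
    (m := m) (fun j hj k hk e => by
      by_contra k1
      have h1 : y ^ (j + 1) ≠ 1 := fun e => by
        have := Nat.le_of_dvd (Nat.succ_pos j) (hy ▸ orderOf_dvd_of_pow_eq_one e)
        omega
      exact hxy (comm_zp (mem_zp hp hy (pow_mem (mem_zpowers y) _) h1)
        (comm_zp (mem_zp hr hx hk k1) e).symm).symm)
    (fun v hv => by
      obtain ⟨k, hk⟩ := Finite.injective_iff_surjective.mp hf ⟨v, hv⟩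
      have e : v * y = (k : Y)⁻¹ * y * (k : Y)⁻¹⁻¹ := by
        rw [← (show (k : Y)⁻¹ * (y * k * y⁻¹) = v from congrArg Subtype.val hk)]; group
      rw [e, conj_pow, ← hm, ← hy, pow_orderOf_eq_one, mul_one, mul_inv_cancel])
  obtain ⟨a, ha⟩ := exists_prime_orderOf_dvd_card' (G := P) s h0
  exact hn (Om.mul (x := x) (y := a) (this (mem_zpowers x) a a.2).symm (hx ▸ dvd_rfl)
    (by rw [Subgroup.orderOf_coe, ha]) ((Nat.coprime_primes hr hs).mpr hrs))

end Fix

variable {G X : Type*} [Group G] [Finite G] [Group X] [Finite X] {p : ℕ}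

/-- the embedding of `X` in `G / K` -/
def Fix.j (c : Cx G X) : X →* G ⧸ c.K := c.S.subtype.comp c.e.symm.toMonoidHom

theorem Fix.j_inj (c : Cx G X) : Function.Injective (Fix.j c) :=
  c.S.subtype_injective.comp c.e.symm.injective

theorem Cx.fix (c : Cx G X) (h : Sf G X) {s u : ℕ} (hp : p.Prime) (hs : s.Prime) (hp2 : p ≠ 2) (hs2 : s ≠ 2)
    (hps : p ≠ s) (hK : IsPGroup s c.K) (h0 : c.K ≠ ⊥) (hu : u.Prime) (hus : u ≠ s)
    (huX : u ∣ Nat.card X) (hn : ¬ Om G (u * s)) (h2 : ¬ Om G (2 * s * p)) {x z : X}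
    (hx : orderOf x = p) (hz : orderOf z = p) (hc : Commute x z) (hxz : x ∉ zpowers z) :
    ∃ i : ℕ, (∀ a b : X, orderOf a = 2 → orderOf b = 2 → a ≠ b → Commute a b →
        Commute a (x * z ^ i) → ¬ Commute b (x * z ^ i)) ∧
      ∀ t : X, orderOf t = 2 → Commute t (x * z ^ i) → t * z * t⁻¹ ≠ z⁻¹ := by
  have hj := Fix.j_inj c
  have ho : ∀ a, orderOf (Fix.j c a) = orderOf a := orderOf_injective _ hj
  obtain ⟨i, h3, h4⟩ := Fix.fixB (QuotientGroup.mk' c.K) (QuotientGroup.mk'_surjective _) hp hs hp2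
    hs2 hps (by rwa [QuotientGroup.ker_mk']) h2 ((ho x).trans hx) ((ho z).trans hz) (hc.map _)
    (fun ⟨k, hk⟩ => hxz ⟨k, hj (by rw [map_zpow]; exact hk)⟩) (fun y hy e => by
      rw [QuotientGroup.ker_mk'] at hy
      have hN : ((centralizer (c.K : Set G)).map (QuotientGroup.mk' c.K)).Normal :=
        Normal.map inferInstance _ (QuotientGroup.mk'_surjective _)
      rcases h.simp.eq_bot_or_eq_top_of_normal _ (hN.comap (Fix.j c)) with h5 | h5
      · have : z ∈ ((centralizer (c.K : Set G)).map (QuotientGroup.mk' c.K)).comap (Fix.j c) :=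
          ⟨y, hy, e⟩
        rw [h5, mem_bot] at this
        rw [this, orderOf_one] at hz
        exact hp.one_lt.ne hz
      · obtain ⟨a, ha⟩ := Om.of_prime hu huX
        have : a ∈ ((centralizer (c.K : Set G)).map (QuotientGroup.mk' c.K)).comap (Fix.j c) :=
          h5 ▸ mem_top a
        obtain ⟨g, hg, e⟩ := this
        obtain ⟨⟨k, hk⟩, k1⟩ := ne_bot_iff_exists_ne_one.mp h0
        obtain ⟨n, hn'⟩ := Fix.dvd_ord hs hK hk (fun e => k1 (Subtype.ext e))
        refine hn (Om.mul (x := g) (y := k) (hg k hk).symm ?_ ?_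
          ((Nat.coprime_primes hu hs).mpr hus))
        · rw [← ha, ← ho, ← e]
          exact orderOf_map_dvd _ _
        · rw [hn', pow_succ]
          exact dvd_mul_left _ _)
  rw [← map_pow, ← map_mul] at h3 h4
  exact ⟨i, fun a b ha hb ne c1 c2 c3 => h3 _ _ ((ho a).trans ha) ((ho b).trans hb)
    (fun e => ne (hj e)) (c1.map _) (c2.map _) (c3.map _), fun t ht c1 e => h4 _ ((ho t).trans ht)
    (c1.map _) (by rw [← map_inv, ← map_mul, ← map_mul, e, map_inv])⟩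

theorem Cx.ppg (c : Cx G X) (hN : Group.IsNilpotent c.K) {s s' r : ℕ} (hs : s.Prime) (hs' : s'.Prime)
    (hr : r.Prime) (hss : s ≠ s') (hK : s ∣ Nat.card c.K) (hK' : s' ∣ Nat.card c.K)
    (hrK : ¬ r ∣ Nat.card c.K) (hn : ¬ Om G (r * s)) (hn' : ¬ Om G (r * s')) {x y : X}
    (hx : orderOf x = r) (hy : orderOf y = p) (hp : p.Prime) (hpK : ¬ p ∣ Nat.card c.K)
    (hyn : y ∈ normalizer (zpowers x : Set X)) (hxy : ¬ Commute x y) : Om G (s * s' * p) := by
  have hj := Fix.j_inj c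
  have ho : ∀ a, orderOf (Fix.j c a) = orderOf a := orderOf_injective _ hj
  have hπ := QuotientGroup.mk'_surjective c.K
  have cr : r.Coprime (Nat.card (QuotientGroup.mk' c.K).ker) := by
    rw [QuotientGroup.ker_mk']
    exact (Nat.Prime.coprime_iff_not_dvd hr).mpr hrK
  have cp : p.Coprime (Nat.card (QuotientGroup.mk' c.K).ker) := by
    rw [QuotientGroup.ker_mk']
    exact (Nat.Prime.coprime_iff_not_dvd hp).mpr hpK
  obtain ⟨x1, -, e1, o1⟩ := Fix.lift (QuotientGroup.mk' c.K) (M := ⊤) (a := Fix.j c x) (by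
    obtain ⟨g, hg⟩ := hπ (Fix.j c x); exact ⟨g, mem_top g, hg⟩) (by rwa [ho, hx])
  rw [ho, hx] at o1
  obtain ⟨y1, n2, e2, o2⟩ := Fix.lift (QuotientGroup.mk' c.K)
    (M := normalizer (zpowers x1 : Set G)) (a := Fix.j c y) (by
      rw [GT.CopAct.map_normalizer_of_surjective _ hπ (by rwa [Nat.card_zpowers, o1])
        (Or.inl (GT.CopAct.isSolvable_zpowers x1)), MonoidHom.map_zpowers, e1,
        ← MonoidHom.map_zpowers]
      exact le_normalizer_map _ ⟨y, hyn, rfl⟩) (by rwa [ho, hy])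
  rw [ho, hy] at o2
  have nc : ¬ Commute x1 y1 := fun e => hxy (by
    have := e.map (QuotientGroup.mk' c.K)
    rw [e1, e2] at this
    exact hj (by rw [map_mul, map_mul, this.eq]))
  have key : ∀ s : ℕ, s.Prime → s ∣ Nat.card c.K → ¬ Om G (r * s) →
      ∃ P : Subgroup G, P.Normal ∧ IsPGroup s P ∧ ∃ a ∈ P, a ≠ 1 ∧ Commute a y1 := by
    intro s hs hK hn
    have := Fact.mk hs
    obtain ⟨P⟩ : Nonempty (Sylow s c.K) := inferInstance
    have h1 : (P : Subgroup c.K).Normal := P.normal_of_normalizerCondition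
      Group.normalizerCondition_of_isNilpotent
    have h2 := P.characteristic_of_normal h1
    have h3 : ((P : Subgroup c.K).map c.K.subtype).Normal :=
      ConjAct.normal_of_characteristic_of_normal
    exact ⟨_, h3, P.isPGroup'.map _, Fix.fixpt hs hr hp (P.isPGroup'.map _)
      (by rw [card_map_of_injective c.K.subtype_injective]; exact P.dvd_card_of_dvd_card hK)
      (fun e => hrK (e ▸ hK)) hn o1 o2 n2 nc⟩
  obtain ⟨P, nP, pP, a, ha, a1, ca⟩ := key s hs hK hn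
  obtain ⟨Q, nQ, pQ, b, hb, b1, cb⟩ := key s' hs' hK' hn'
  have := Fact.mk hs
  have := Fact.mk hs'
  have cab : Commute a b :=
    commute_of_normal_of_disjoint P Q nP nQ (IsPGroup.disjoint_of_ne s s' hss P Q pP pQ) a b ha hb
  obtain ⟨n, hn1⟩ := Fix.dvd_ord hs pP ha a1
  obtain ⟨m, hm1⟩ := Fix.dvd_ord hs' pQ hb b1
  refine Om.mul (ca.mul_left cb) ?_ (o2 ▸ dvd_rfl) ?_
  · rw [cab.orderOf_mul_eq_mul_orderOf_of_coprime, hn1, hm1, pow_succ', pow_succ']
    · exact mul_dvd_mul (dvd_mul_right _ _) (dvd_mul_right _ _)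
    · rw [hn1, hm1]
      exact Nat.Coprime.pow _ _ ((Nat.coprime_primes hs hs').mpr hss)
  · exact Nat.Coprime.mul_left ((Nat.coprime_primes hs hp).mpr fun e => hpK (e ▸ hK))
      ((Nat.coprime_primes hs' hp).mpr fun e => hpK (e ▸ hK'))

end Cfsg.Agent.SpS
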