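import Mathlib
import Cfsg.Agent.SpS.Defs
import Cfsg.Agent.SpS.Defs2
import Cfsg.Agent.SpS.SN
import Cfsg.Agent.GT.Conj
import Cfsg.Agent.GT.PiGroups
import Cfsg.Agent.Cl.PSL2Small

/-! Toolkit for a trivial-intersection Sylow `5`-subgroup; groups of order `24`
(S3586/S3535, piece M0). -/

set_option autoImplicit false
set_option linter.unusedSectionVars false
set_option linter.unusedVariables false

namespace Cfsg.Agent.SpS

open Subgroup

variable {G X : Type*} [Group G] [Finite G] [Group X] [Finite X] {p : ℕ}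

namespace M0

open Inv.Fz

instance : Fact (Nat.Prime 5) := ⟨by norm_num⟩

variable {R Y : Subgroup X}

theorem pg (h : TI5 R Y) : IsPGroup 5 R := IsPGroup.of_card h.ab.card

theorem sylR (h : TI5 R Y) : IsSylIn 5 R ⊤ := by
  refine isSylIn_of_not_dvd le_top (pg h) fun hd => ?_
  have h1 := card_mul_relIndex (le_top : R ≤ ⊤)
  rw [h.ab.card, card_top, h.card] at h1
  obtain ⟨k, hk⟩ := hd
  rw [hk] at h1
  omega

theorem le_of_norm (h : TI5 R Y) {Q : Subgroup X} (hQ : IsPGroup 5 Q)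
    (hn : Q ≤ normalizer (R : Set X)) : Q ≤ R := by
  have h1 : IsPGroup 5 (Q ⊔ R : Subgroup X) :=
    IsPGroup.to_sup_of_normal_right' hQ (pg h) hn
  exact le_sup_left.trans ((sylR h).eq_of_le h1 le_top le_sup_right).le

theorem comm_of_pg (h : TI5 R Y) {Q : Subgroup X} (hQ : IsPGroup 5 Q) {a b : X} (ha : a ∈ Q)
    (hb : b ∈ Q) : a * b = b * a := by
  obtain ⟨g, -, hg⟩ := (sylR h).exists_cj_le hQ le_top
  have e := h.ab.comm _ (hg (conj_mem_cj.2 ha)) _ (hg (conj_mem_cj.2 hb))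
  rw [conj_mul, conj_mul, mul_left_inj, mul_right_inj] at e
  exact e

/-- a `5`-subgroup meeting `R` lies in `R` -/
theorem le_of_mem (h : TI5 R Y) {Q : Subgroup X} (hQ : IsPGroup 5 Q) {b : X} (hb : b ∈ R)
    (hbQ : b ∈ Q) (h1 : b ≠ 1) : Q ≤ R :=
  le_of_norm h hQ fun a ha => h.cen b hb h1 (SN.mem_Ce.2 (comm_of_pg h hQ hbQ ha))

theorem ti (h : TI5 R Y) {g b : X} (hb : b ∈ R) (h1 : b ≠ 1) (hg : g * b * g⁻¹ ∈ R) :
    g ∈ normalizer (R : Set X) := by
  rw [← cj_eq_iff]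
  refine cj_eq_of_le (le_of_mem h (isPGroup_cj (pg h) g) hg (conj_mem_cj.2 hb) ?_)
  intro e
  apply h1
  have : b = g⁻¹ * (g * b * g⁻¹) * g := by group
  rw [this, e]
  group

theorem inf_bot (h : TI5 R Y) : R ⊓ Y = ⊥ :=
  inf_eq_bot_of_coprime (by rw [h.ab.card, h.cY]; norm_num)

theorem Y_le (h : TI5 R Y) : Y ≤ normalizer (R : Set X) := h.sup ▸ le_sup_right

theorem ord5 (h : TI5 R Y) {b : X} (hb : b ∈ R) (h1 : b ≠ 1) : orderOf b = 5 :=
  orderOf_eq_prime (h.ab.exp b hb) h1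

theorem card_B (h : TI5 R Y) (t : X) : Nat.card (R ⊓ Ce t : Subgroup X) = 1 ∨
    Nat.card (R ⊓ Ce t : Subgroup X) = 5 ∨ Nat.card (R ⊓ Ce t : Subgroup X) = 25 ∨
    Nat.card (R ⊓ Ce t : Subgroup X) = 125 := by
  have h1 : Nat.card (R ⊓ Ce t : Subgroup X) ∣ 5 ^ 3 := h.ab.card ▸ card_dvd_of_le inf_le_left
  obtain ⟨k, hk, e⟩ := (Nat.dvd_prime_pow (by norm_num)).1 h1
  rw [e]
  interval_cases k <;> simp

theorem sq_dvd {q : ℕ} [Fact q.Prime] {z : X} (hz : orderOf z = q) (h : q ^ 2 ∣ Nat.card X) :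
    q ^ 2 ∣ Nat.card (Ce z) := by
  have hq : q.Prime := Fact.out
  have hc : Nat.card (zpowers z) = q := by rw [Nat.card_zpowers, hz]
  have hzp : IsPGroup q (zpowers z) := IsPGroup.of_card (n := 1) (by rw [hc, pow_one])
  obtain ⟨P, hP⟩ := hzp.exists_le_sylow
  have hlt : zpowers z < P := by
    refine lt_of_le_of_ne hP fun e => ?_
    have h1 := P.pow_dvd_card_of_pow_dvd_card h
    rw [← e, hc] at h1
    have := Nat.le_of_dvd hq.pos h1
    nlinarith [hq.one_lt]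
  have h2 := lt_inf_normalizer P.isPGroup' hlt
  set Q := (P : Subgroup X) ⊓ normalizer (zpowers z : Set X) with hQ
  have hQp : IsPGroup q Q := P.isPGroup'.to_le inf_le_left
  have h3 := GT.card_modEq_card_inf_centralizer (L := zpowers z) hQp inf_le_right
  have h4 : zpowers z ⊓ centralizer (Q : Set X) = zpowers z := by
    refine eq_of_le_of_card_ge inf_le_left ?_
    rw [hc] at h3 ⊢
    exact Nat.le_of_dvd Nat.card_pos ((Nat.modEq_zero_iff_dvd).1
      (h3.symm.trans ((Nat.modEq_zero_iff_dvd).2 dvd_rfl)))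
  have h5 : Q ≤ Ce z := fun a ha => by
    have : z ∈ centralizer (Q : Set X) := (h4.ge (mem_zpowers z)).2
    exact SN.mem_Ce.2 (this a ha).symm
  obtain ⟨k, hk⟩ := IsPGroup.iff_card.1 hQp
  have h6 := card_lt_of_lt h2
  rw [hc, hk] at h6
  have h7 : 1 < k := by
    rwa [← Nat.pow_lt_pow_iff_right hq.one_lt, pow_one]
  exact ((pow_dvd_pow q h7).trans hk.symm.dvd).trans (card_dvd_of_le h5)

/-- no element of order `r` commutes with `t` when `r * orderOf t` is excluded -/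
theorem not_dvd_Ce (h : TI5 R Y) {t : X} {r : ℕ} (hr : r.Prime) (hc : r.Coprime (orderOf t))
    (hm : ∀ d ∈ [7, 8, 10, 11, 12, 15, 18], ¬ r * orderOf t ∣ d) : ¬ r ∣ Nat.card (Ce t) := by
  intro hd
  haveI := Fact.mk hr
  obtain ⟨z, hz⟩ := exists_prime_orderOf_dvd_card' (G := Ce t) r hd
  refine h.ub.not_om hm (Om.mul (SN.mem_Ce.1 z.2).symm ?_ dvd_rfl hc)
  rw [Subgroup.orderOf_coe, hz]

theorem dvd23 {n : ℕ} (h : n ∣ 898128000) (h5 : ¬ 5 ∣ n) (h7 : ¬ 7 ∣ n) (h11 : ¬ 11 ∣ n) :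
    ∃ a ≤ 7, ∃ b ≤ 6, n = 2 ^ a * 3 ^ b := by
  have e : 898128000 = (2 ^ 7 * 3 ^ 6) * (5 ^ 3 * (7 * 11)) := by norm_num
  rw [e] at h
  have c5 : n.Coprime (5 ^ 3) :=
    Nat.Coprime.pow_right _ ((Nat.Prime.coprime_iff_not_dvd (by norm_num)).2 h5).symm
  have c7 : n.Coprime 7 := ((Nat.Prime.coprime_iff_not_dvd (by norm_num)).2 h7).symm
  have c11 : n.Coprime 11 := ((Nat.Prime.coprime_iff_not_dvd (by norm_num)).2 h11).symm
  have h1 := (c5.mul_right (c7.mul_right c11)).dvd_of_dvd_mul_right h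
  obtain ⟨a, b, ha, hb, rfl⟩ := (Nat.dvd_mul).1 h1
  obtain ⟨i, hi, rfl⟩ := (Nat.dvd_prime_pow Nat.prime_two).1 ha
  obtain ⟨j, hj, rfl⟩ := (Nat.dvd_prime_pow Nat.prime_three).1 hb
  exact ⟨i, hi, j, hj, rfl⟩

end M0

open M0 Inv.Fz

theorem TI5.syl {R Y : Subgroup X} (h : TI5 R Y) {t : X} (h1 : R ⊓ Ce t ≠ ⊥) :
    Inv.Fz.IsSylIn 5 (R ⊓ Ce t) (Ce t) := by
  refine ⟨inf_le_right, (pg h).to_le inf_le_left, fun Q hQ hQC hBQ => ?_⟩
  obtain ⟨⟨b, hb⟩, hb1⟩ := (ne_bot_iff_exists_ne_one).1 h1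
  have hb1' : b ≠ 1 := fun e => hb1 (Subtype.ext e)
  exact le_antisymm (le_inf (le_of_mem h hQ hb.1 (hBQ hb) hb1') hQC) hBQ

theorem TI5.card_conj {R Y : Subgroup X} (h : TI5 R Y) {t s : X} (hc : IsConj t s) (h1 : R ⊓ Ce t ≠ ⊥)
    (h2 : R ⊓ Ce s ≠ ⊥) : Nat.card (R ⊓ Ce t : Subgroup X) = Nat.card (R ⊓ Ce s : Subgroup X) := by
  obtain ⟨c, rfl⟩ := isConj_iff.1 hc
  have h3 := (h.syl h1).cj c
  rw [cj_centralizer_singleton] at h3
  rw [← card_cj c]
  exact h3.card_eq (h.syl h2)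

theorem TI5.cen_inf {R Y : Subgroup X} (h : TI5 R Y) {t : X} (ht : t ∈ Y) :
    Ce t ⊓ normalizer (R : Set X) = (R ⊓ Ce t) ⊔ (Y ⊓ Ce t) := by
  apply le_antisymm
  · rintro g ⟨hg, hn⟩
    have hn' : g ∈ Y ⊔ R := by rw [sup_comm, h.sup]; exact hn
    obtain ⟨y, hy, r, hr, rfl⟩ := (mem_sup_iff_of_le_normalizer (Y_le h)).1 hn'
    have hc : t * (y * r) = y * r * t := (SN.mem_Ce.1 hg).eq
    have htr : t * r * t⁻¹ ∈ R := (mem_normalizer_iff.1 (Y_le h ht) r).1 hr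
    have e : y⁻¹ * (t * y * t⁻¹) = r * (t * r * t⁻¹)⁻¹ := by
      have : t * y = y * r * t * r⁻¹ := by rw [← hc]; group
      rw [this]
      group
    have hm : y⁻¹ * (t * y * t⁻¹) ∈ R ⊓ Y :=
      ⟨e ▸ R.mul_mem hr (R.inv_mem htr),
        Y.mul_mem (Y.inv_mem hy) (Y.mul_mem (Y.mul_mem ht hy) (Y.inv_mem ht))⟩
    rw [inf_bot h, mem_bot] at hm
    have hy' : y ∈ Ce t := by
      rw [SN.mem_Ce]
      have := inv_mul_eq_one.1 hm
      exact (mul_inv_eq_iff_eq_mul.1 this.symm)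
    have hr' : r ∈ Ce t := by
      have := (Ce t).mul_mem ((Ce t).inv_mem hy') hg
      rwa [inv_mul_cancel_left] at this
    exact mul_mem (mem_sup_right ⟨hy, hy'⟩) (mem_sup_left ⟨hr, hr'⟩)
  · exact sup_le (le_inf inf_le_right (inf_le_left.trans le_normalizer))
      (le_inf inf_le_right (inf_le_left.trans (Y_le h)))

namespace M0

variable {R Y : Subgroup X}

theorem card_cen_inf (h : TI5 R Y) {t : X} (ht : t ∈ Y) :
    Nat.card (Ce t ⊓ normalizer (R : Set X) : Subgroup X) =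
      Nat.card (R ⊓ Ce t : Subgroup X) * Nat.card (Y ⊓ Ce t : Subgroup X) := by
  rw [h.cen_inf ht, sup_comm, mul_comm]
  refine GT.card_sup_of_inf_eq_bot (fun y hy => mem_normalizer_of_conj_mem fun b hb => ⟨?_, ?_⟩) ?_
  · exact (mem_normalizer_iff.1 (Y_le h hy.1) b).1 hb.1
  · exact (Ce t).mul_mem ((Ce t).mul_mem hy.2 hb.2) ((Ce t).inv_mem hy.2)
  · rw [eq_bot_iff, ← inf_bot h]
    exact fun x hx => ⟨hx.2.1, hx.1.1⟩

theorem idx0 (h : TI5 R Y) {t : X} (ht : t ∈ Y) (h1 : R ⊓ Ce t ≠ ⊥) :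
    ∃ n, Nat.card (Ce t) = Nat.card (R ⊓ Ce t : Subgroup X) * Nat.card (Y ⊓ Ce t : Subgroup X) * n ∧
      n % Nat.card (R ⊓ Ce t : Subgroup X) = 1 % Nat.card (R ⊓ Ce t : Subgroup X) := by
  have hS := h.syl h1
  obtain ⟨⟨b, hb⟩, hb1⟩ := (ne_bot_iff_exists_ne_one).1 h1
  have hb1' : b ≠ 1 := fun e => hb1 (Subtype.ext e)
  have key := se_index (X := Ce t) hS.toSylow (M := (normalizer (R : Set X)).subgroupOf (Ce t))
    (fun g hg => by
      have := (mem_normalizer_iff.1 hg ⟨b, hb.2⟩).1 hb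
      exact ti h hb.1 hb1' this.1)
    (fun x hx hx1 c hc => h.cen x hx.1 (fun e => hx1 (Subtype.ext e))
      (SN.mem_Ce.2 (congrArg Subtype.val (SN.mem_Ce.1 hc).eq)))
    ⟨⟨fun a c => Subtype.ext (Subtype.ext (h.ab.comm _ a.2.1 _ c.2.1))⟩⟩
  have hc : Nat.card (hS.toSylow : Subgroup (Ce t)) = Nat.card (R ⊓ Ce t : Subgroup X) :=
    Nat.card_congr (subgroupOfEquivOfLe inf_le_right).toEquiv
  rw [hc] at key
  refine ⟨_, ?_, key⟩
  rw [← card_cen_inf h ht, ← card_mul_relIndex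
    (inf_le_left : Ce t ⊓ normalizer (R : Set X) ≤ Ce t), inf_relIndex_left]
  rfl

end M0

theorem TI5.idx {R Y : Subgroup X} (h : TI5 R Y) {t : X} (ht : t ∈ Y) (h2 : orderOf t = 2)
    (h25 : 25 ∣ Nat.card (R ⊓ Ce t : Subgroup X)) :
    ∃ n, Nat.card (Ce t) = Nat.card (R ⊓ Ce t : Subgroup X) * Nat.card (Y ⊓ Ce t : Subgroup X) * n ∧
      (n = 1 ∨ (Nat.card (R ⊓ Ce t : Subgroup X) = 25 ∧ (n = 576 ∨ n = 7776))) := by
  have h1 : R ⊓ Ce t ≠ ⊥ := fun e => by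
    rw [e, card_bot] at h25
    norm_num at h25
  obtain ⟨n, hn, hm⟩ := idx0 h ht h1
  refine ⟨n, hn, ?_⟩
  have hd : n ∣ Nat.card (Ce t) := hn ▸ Dvd.intro_left _ rfl
  have h7 := not_dvd_Ce h (t := t) (r := 7) (by norm_num) (by rw [h2]; norm_num)
    (by rw [h2]; decide)
  have h11 := not_dvd_Ce h (t := t) (r := 11) (by norm_num) (by rw [h2]; norm_num)
    (by rw [h2]; decide)
  have hB := card_B h t
  have h5 : ¬ 5 ∣ n := by
    rcases hB with e | e | e | e <;> rw [e] at h25 hm <;> omega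
  obtain ⟨a, ha, b, hb, rfl⟩ := dvd23 (h.card ▸ hd.trans (card_subgroup_dvd_card _)) h5
    (fun e => h7 (e.trans hd)) (fun e => h11 (e.trans hd))
  clear hn hd
  rcases hB with e | e | e | e <;> rw [e] at h25 hm ⊢
  · omega
  · omega
  · interval_cases a <;> interval_cases b <;> simp at hm ⊢
  · interval_cases a <;> interval_cases b <;> simp at hm ⊢

theorem TI5.le_norm {R Y : Subgroup X} (h : TI5 R Y) {t : X} (ht : t ∈ Y) (h2 : orderOf t = 2)
    (h25 : 25 ∣ Nat.card (R ⊓ Ce t : Subgroup X)) (h8 : 8 ∣ Nat.card (Y ⊓ Ce t : Subgroup X)) :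
    Ce t = (R ⊓ Ce t) ⊔ (Y ⊓ Ce t) := by
  obtain ⟨n, hn, hm⟩ := h.idx ht h2 h25
  have hd : Nat.card (Ce t) ∣ 898128000 := h.card ▸ card_subgroup_dvd_card _
  have hd' : 8 * n ∣ 898128000 :=
    ((Nat.mul_dvd_mul_right (h8.mul_left _) n).trans hn.symm.dvd).trans hd
  rcases hm with rfl | ⟨-, rfl | rfl⟩
  · rw [← h.cen_inf ht]
    refine (eq_of_le_of_card_ge inf_le_left ?_).symm
    rw [card_cen_inf h ht, hn, mul_one]
  · norm_num at hd'
  · norm_num at hd'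

theorem TI5.ord {R Y : Subgroup X} (h : TI5 R Y) {y : X} (hy : y ∈ Y) (h1 : R ⊓ Ce y ≠ ⊥) :
    orderOf y = 1 ∨ orderOf y = 2 ∨ orderOf y = 3 := by
  obtain ⟨⟨b, hb⟩, hb1⟩ := (ne_bot_iff_exists_ne_one).1 h1
  have hb1' : b ≠ 1 := fun e => hb1 (Subtype.ext e)
  have hd : orderOf y ∣ 24 := h.cY ▸ Y.orderOf_dvd_natCard hy
  have hc : (5 : ℕ).Coprime (orderOf y) := Nat.Coprime.coprime_dvd_right hd (by norm_num)
  obtain ⟨g, hg⟩ := Om.mul (SN.mem_Ce.1 hb.2).symm (ord5 h hb.1 hb1').symm.dvd dvd_rfl hc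
  obtain ⟨d, hd1, hd2⟩ := h.ub g
  rw [hg] at hd2
  have hle := Nat.le_of_dvd (by norm_num) hd
  generalize orderOf y = m at *
  simp only [List.mem_cons, List.not_mem_nil, or_false] at hd1
  interval_cases m <;> rcases hd1 with rfl | rfl | rfl | rfl | rfl | rfl | rfl <;> omega

theorem TI5.three {R Y : Subgroup X} (h : TI5 R Y) {u : X} (hu : u ∈ Y) (h3 : orderOf u = 3) :
    Nat.card (R ⊓ Ce u : Subgroup X) = 5 := by
  haveI : Fact (Nat.Prime 3) := ⟨Nat.prime_three⟩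
  have hp : IsPGroup 3 (zpowers u) :=
    IsPGroup.of_card (n := 1) (by rw [Nat.card_zpowers, h3, pow_one])
  have hm := GT.card_modEq_card_inf_centralizer (L := R) hp (zpowers_le.2 (Y_le h hu))
  rw [SN.cen_zpowers, h.ab.card] at hm
  rcases card_B h u with e | e | e | e
  · rw [e] at hm; norm_num [Nat.ModEq] at hm
  · exact e
  · rw [e] at hm; norm_num [Nat.ModEq] at hm
  exfalso
  have h1 : R ⊓ Ce u ≠ ⊥ := fun e' => by
    rw [e', card_bot] at e
    norm_num at e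
  obtain ⟨n, hn, hn'⟩ := idx0 h hu h1
  have hd : n ∣ Nat.card (Ce u) := hn ▸ Dvd.intro_left _ rfl
  have h7 := not_dvd_Ce h (t := u) (r := 7) (by norm_num) (by rw [h3]; norm_num)
    (by rw [h3]; decide)
  have h11 := not_dvd_Ce h (t := u) (r := 11) (by norm_num) (by rw [h3]; norm_num)
    (by rw [h3]; decide)
  rw [e] at hn hn'
  obtain ⟨a, ha, b, hb, rfl⟩ := dvd23 (h.card ▸ hd.trans (card_subgroup_dvd_card _)) (by omega)
    (fun e => h7 (e.trans hd)) (fun e => h11 (e.trans hd))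
  have hn1 : 2 ^ a * 3 ^ b = 1 := by
    clear hn hd
    interval_cases a <;> interval_cases b <;> simp at hn' ⊢
  have h9 := sq_dvd h3 (by rw [h.card]; norm_num)
  have h24 : Nat.card (Y ⊓ Ce u : Subgroup X) ∣ 24 := h.cY ▸ card_dvd_of_le inf_le_left
  rw [hn, hn1, mul_one] at h9
  have := h9.trans (Nat.mul_dvd_mul_left 125 h24)
  norm_num at this

theorem cases24 {Y : Subgroup X} (hY : Nat.card Y = 24) :
    (∃ u ∈ Y, orderOf u = 3 ∧ Y ≤ normalizer (zpowers u : Set X)) ∨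
      (∃ T : Subgroup X, T ≤ Y ∧ Nat.card T = 8 ∧ Y ≤ normalizer (T : Set X) ∧
        ∃ u ∈ Y, orderOf u = 3 ∧ u ∉ centralizer (T : Set X)) ∨
      Nonempty (Y ≃* Equiv.Perm (Fin 4)) := by
  haveI : Fact (Nat.Prime 3) := ⟨Nat.prime_three⟩
  obtain ⟨u, hu⟩ := exists_prime_orderOf_dvd_card' (G := Y) 3 (by rw [hY]; norm_num)
  have hu' : orderOf (u : X) = 3 := by rw [Subgroup.orderOf_coe, hu]
  have hc : Nat.card (zpowers u) = 3 := by rw [Nat.card_zpowers, hu]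
  by_cases hn : (zpowers u).Normal
  · refine Or.inl ⟨u, u.2, hu', fun y hy => mem_normalizer_of_conj_mem fun x hx => ?_⟩
    obtain ⟨k, rfl⟩ := mem_zpowers_iff.1 hx
    obtain ⟨j, hj⟩ := mem_zpowers_iff.1 (hn.conj_mem _ (zpow_mem (mem_zpowers u) k) ⟨y, hy⟩)
    exact ⟨j, congrArg Subtype.val hj⟩
  right
  by_cases hz : ∀ z : Y, orderOf z = 2 → ∃ g, g * z ≠ z * g
  · exact Or.inr (Cl.L2.nonempty_perm_four hY hc hn hz)
  left
  push Not at hz
  obtain ⟨z, hz, hzc⟩ := hz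
  obtain ⟨P, hP⟩ := sylow_of_prime hu (by rw [hY]; norm_num)
  have hN : Nat.card (normalizer (zpowers u : Set Y)) = 6 := by
    have h1 := card_sylow_modEq_one 3 Y
    rw [P.card_eq_index_normalizer, ← P.coe_coe, hP] at h1
    have h2 := (normalizer (zpowers u : Set Y)).card_mul_index
    have h3 : 3 ∣ Nat.card (normalizer (zpowers u : Set Y)) := hc ▸ card_dvd_of_le le_normalizer
    have h4 : (normalizer (zpowers u : Set Y)).index ≠ 1 := fun e =>
      hn (normalizer_eq_top_iff.1 (index_eq_one.1 e))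
    rw [hY] at h2
    obtain ⟨k, hk⟩ := h3
    rw [hk] at h2 ⊢
    have h5 : (normalizer (zpowers u : Set Y)).index ∣ 8 := ⟨k, by linarith⟩
    have h6 := Nat.le_of_dvd (by norm_num) h5
    generalize (normalizer (zpowers u : Set Y)).index = m at *
    unfold Nat.ModEq at h1
    interval_cases m <;> omega
  have hC : normalizer (zpowers u : Set Y) ≤ centralizer (zpowers u : Set Y) := by
    refine (eq_of_le_of_card_ge (centralizer_le_normalizer _) ?_).ge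
    rw [hN, SN.cen_zpowers]
    refine Nat.le_of_dvd Nat.card_pos (Nat.Coprime.mul_dvd_of_dvd_of_dvd (m := 2) (n := 3)
      (by norm_num) ?_ ?_)
    · exact hz ▸ (Ce u).orderOf_dvd_natCard (SN.mem_Ce.2 (hzc u))
    · exact hu ▸ (Ce u).orderOf_dvd_natCard (SN.mem_Ce.2 (Commute.refl u))
  have hC' : normalizer ((P : Subgroup Y) : Set Y) ≤ centralizer ((P : Subgroup Y) : Set Y) := by
    rw [hP]; exact hC
  have hK := MonoidHom.ker_transferSylow_isComplement' P hC'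
  set K := (MonoidHom.transferSylow P hC').ker with hKd
  have hK8 : Nat.card K = 8 := by
    have h1 := hK.card_mul
    rw [hP, hc, hY] at h1
    omega
  refine ⟨K.map Y.subtype, map_subtype_le K, ?_, ?_, u, u.2, hu', fun hcu => ?_⟩
  · rw [card_map_of_injective Y.subtype_injective, hK8]
  · refine fun y hy => mem_normalizer_of_conj_mem ?_
    rintro _ ⟨x, hx, rfl⟩
    exact ⟨_, (inferInstance : K.Normal).conj_mem x hx ⟨y, hy⟩, rfl⟩
  · have h1 : K ≤ normalizer (zpowers u : Set Y) := fun x hx => by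
      refine centralizer_le_normalizer _ ?_
      rw [SN.cen_zpowers, SN.mem_Ce]
      exact Subtype.ext (hcu x ⟨x, hx, rfl⟩).symm
    have := card_dvd_of_le h1
    rw [hK8, hN] at this
    norm_num at this

end Cfsg.Agent.SpS
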