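import Mathlib
import Cfsg.Agent.SpS.Defs
import Cfsg.Agent.SpS.Defs2
import Cfsg.Agent.SpS.M0
import Cfsg.Agent.SpS.T8
import Cfsg.Agent.SpS.SN
import Cfsg.Agent.GT.Conj
import Cfsg.Agent.GT.PGroupBasic

/-! S3586/S3535, piece M1: the complement has a normal subgroup of order three. -/

set_option autoImplicit false
set_option linter.unusedSectionVars false
set_option linter.unusedVariables false

namespace Cfsg.Agent.SpS

open Subgroup Cfsg.Agent.GT
open SN (mem_Ce)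

variable {G X : Type*} [Group G] [Finite G] [Group X] [Finite X] {p : ℕ}

theorem M1.inv {R : Subgroup X} (hc : ∀ x ∈ R, ∀ y ∈ R, x * y = y * x) {s r : X}
    (hs : s ∈ normalizer (R : Set X)) (hb : R ⊓ Ce s = ⊥) (hr : r ∈ R) (h2 : Commute (s * s) r) :
    s * r * s⁻¹ = r⁻¹ := by
  have h1 : s * r * s⁻¹ ∈ R := conj_mem_of_mem_normalizer hs hr
  have : r * (s * r * s⁻¹) ∈ R ⊓ Ce s := mem_inf.2 ⟨mul_mem hr h1, mem_Ce.2 (by
    show s * (r * (s * r * s⁻¹)) = r * (s * r * s⁻¹) * s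
    calc s * (r * (s * r * s⁻¹)) = s * r * s⁻¹ * (s * s * r * (s * s)⁻¹) * s := by group
      _ = s * r * s⁻¹ * r * s := by rw [h2.eq, mul_inv_cancel_right]
      _ = _ := by rw [hc r hr _ h1])⟩
  rw [hb, mem_bot] at this
  exact eq_inv_of_mul_eq_one_right this

theorem M1.comm {g x : X} (h : g * x * g⁻¹ = x) : Commute g x := mul_inv_eq_iff_eq_mul.1 h

theorem M1.conj {g x : X} (h : Commute g x) : g * x * g⁻¹ = x := by rw [h.eq, mul_inv_cancel_right]

theorem M1.cjm (g k x : X) : g * k * x * (g * k)⁻¹ = g * (k * x * k⁻¹) * g⁻¹ := by group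

/-- The configuration `⟨c⟩ × ⟨t⟩`. -/
theorem M1.fin {R Y T : Subgroup X} (h : TI5 R Y) {u a t c : X} (hu : u ∈ Y) (h3 : orderOf u = 3)
    (hA : R ⊓ Ce u = zpowers a) (a1 : a ≠ 1) (TY : T ≤ Y) (hT : Nat.card T = 8)
    (hyu : ∀ y ∈ Y, y * u * y⁻¹ = u ∨ y * u * y⁻¹ = u⁻¹)
    (hya : ∀ y ∈ Y, ∃ k : Fin 4, y * a * y⁻¹ = a ^ (k.val + 1))
    (inj : ∀ y ∈ T, Commute y a → Commute y u → y = 1) (tT : t ∈ T) (cT : c ∈ T)
    (ta : t * a * t⁻¹ = a) (tu : t * u * t⁻¹ = u⁻¹) (ca : c * a * c⁻¹ = a ^ 2) (cu : c * u * c⁻¹ = u) :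
    False := by
  have YN : Y ≤ normalizer (R : Set X) := h.sup ▸ le_sup_right
  have aA : a ∈ R ⊓ Ce u := hA ▸ mem_zpowers a
  have aR : a ∈ R := aA.1
  have a5 : a ^ 5 = 1 := h.ab.exp a aR
  have u3 : u ^ 3 = 1 := h3 ▸ pow_orderOf_eq_one u
  have uu : u⁻¹ ≠ u := fun e => by
    have : orderOf u ∣ 2 := orderOf_dvd_of_pow_eq_one (by rw [sq]; nth_rewrite 1 [← e]; exact inv_mul_cancel u)
    rw [h3] at this; omega
  have odd : ∀ r ∈ R, r⁻¹ = r → r = 1 := fun r hr e => by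
    have e2 : r * r = 1 := by nth_rewrite 1 [← e]; exact inv_mul_cancel r
    calc r = r * (r * r) * (r * r) := by rw [e2, mul_one, mul_one]
      _ = r ^ 5 := by simp only [pow_succ, pow_zero, one_mul, mul_assoc]
      _ = 1 := h.ab.exp r hr
  have sq_u : ∀ y ∈ Y, Commute (y * y) u := fun y hy => M1.comm (by
    rw [M1.cjm]
    rcases hyu y hy with e | e
    · rw [e, e]
    · rw [e, ← conj_inv, e, inv_inv])
  have tt : t * t = 1 := inj _ (mul_mem tT tT) ((M1.comm ta).mul_left (M1.comm ta)) (sq_u t (TY tT))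
  have t1 : t ≠ 1 := fun e => uu (by rw [← tu, e]; group)
  have t2 : orderOf t = 2 := orderOf_eq_prime (by rw [sq, tt]) t1
  have uniq : ∀ s ∈ T, Commute s a → s = 1 ∨ s = t := fun s hs sa => by
    rcases hyu s (TY hs) with e | e
    · exact Or.inl (inj s hs sa (M1.comm e))
    · have := inj _ (mul_mem hs tT) (sa.mul_left (M1.comm ta))
        (M1.comm (by rw [M1.cjm, tu, ← conj_inv, e, inv_inv]))
      exact Or.inr ((eq_inv_of_mul_eq_one_left this).trans (inv_eq_of_mul_eq_one_right tt))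
  have Tt : T ≤ Ce t := fun y hy => by
    obtain ⟨k, hk⟩ := hya _ (TY (inv_mem hy))
    have h1 : Commute t (y⁻¹ * a * y⁻¹⁻¹) := hk ▸ (M1.comm ta).pow_right _
    have h2 : Commute (y * t * y⁻¹) a := by
      show _ = _
      calc y * t * y⁻¹ * a = y * (t * (y⁻¹ * a * y⁻¹⁻¹)) * y⁻¹ := by group
        _ = _ := by rw [h1.eq]; group
    rcases uniq _ (mul_mem (mul_mem hy tT) (inv_mem hy)) h2 with e | e
    · exact absurd (conj_eq_one_iff.1 e) t1
    · exact mem_Ce.2 (M1.comm e).symm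
  obtain ⟨z, hz⟩ : ∃ z, z = c * c := ⟨_, rfl⟩
  have zT : z ∈ T := hz ▸ mul_mem cT cT
  have za : z * a * z⁻¹ = a⁻¹ := by
    rw [hz, M1.cjm, ca, ← conj_pow, ca, ← pow_mul]
    exact eq_inv_of_mul_eq_one_left (by rw [← pow_succ, a5])
  have zu : Commute z u := hz ▸ sq_u c (TY cT)
  have zz : z * z = 1 := inj _ (mul_mem zT zT)
    (M1.comm (by rw [M1.cjm, za, ← conj_inv, za, inv_inv])) (zu.mul_left zu)
  have z1 : z ≠ 1 := fun e => a1 (odd a aR (by rw [← za, e]; group))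
  have tc : Commute t c := mem_Ce.1 (Tt cT)
  have tz : Commute t z := mem_Ce.1 (Tt zT)
  have free : ∀ y ∈ Y, y * y = z → R ⊓ Ce y = ⊥ := fun y hy e => by
    by_contra n
    have h4 : orderOf y ∣ 4 := orderOf_dvd_of_pow_eq_one (by
      rw [show y ^ 4 = y * y * (y * y) by simp only [pow_succ, pow_zero, one_mul, mul_assoc], e, zz])
    have h5 : ¬ orderOf y ∣ 2 := fun k => z1 (by rw [← e, ← sq]; exact orderOf_dvd_iff_pow_eq_one.1 k)
    rcases h.ord hy n with k | k | k <;> rw [k] at h4 h5 <;> omega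
  have ctz : c * t * (c * t) = z := by
    rw [mul_assoc, ← mul_assoc t, tc.eq, mul_assoc, tt, mul_one, hz]
  have u_of : ∀ r, Commute (u * u) r → Commute u r := fun r k => by
    have := k.mul_left k
    rwa [show u * u * (u * u) = u ^ 3 * u by simp only [pow_succ, pow_zero, one_mul, mul_assoc], u3, one_mul] at this
  have zfree : R ⊓ Ce z = ⊥ := by
    have k1 : ∀ r ∈ R ⊓ Ce z, Commute t r := fun r hr => by
      have e1 := M1.inv h.ab.comm (YN (TY cT)) (free c (TY cT) hz.symm) hr.1 (hz ▸ mem_Ce.1 hr.2)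
      have e2 := M1.inv h.ab.comm (YN (TY (mul_mem cT tT))) (free _ (TY (mul_mem cT tT)) ctz) hr.1
        (ctz ▸ mem_Ce.1 hr.2)
      rw [M1.cjm, ← e1] at e2
      exact M1.comm (by simpa using e2)
    refine eq_bot_iff.2 fun r hr => mem_bot.2 ?_
    have hr' : u⁻¹ * r * u ∈ R ⊓ Ce z := mem_inf.2 ⟨conj_mem_of_mem_normalizer' (YN hu) hr.1,
      mem_Ce.2 ((zu.inv_right.mul_right (mem_Ce.1 hr.2)).mul_right zu)⟩
    have k2 : Commute (u * t * u⁻¹) r := by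
      show _ = _
      calc u * t * u⁻¹ * r = u * (t * (u⁻¹ * r * u)) * u⁻¹ := by group
        _ = _ := by rw [(k1 _ hr').eq]; group
    have k3 := k2.mul_left (k1 r hr).inv_left
    rw [show u * t * u⁻¹ * t⁻¹ = u * (t * u * t⁻¹)⁻¹ by group, tu, inv_inv] at k3
    have rA : r ∈ zpowers a := hA ▸ mem_inf.2 ⟨hr.1, mem_Ce.2 (u_of r k3)⟩
    obtain ⟨k, rfl⟩ := mem_zpowers_iff.1 rA
    refine odd _ hr.1 ?_
    rw [← inv_zpow, ← za, conj_zpow, M1.conj (mem_Ce.1 hr.2)]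
  have zi : ∀ r ∈ R, z * r * z⁻¹ = r⁻¹ := fun r hr =>
    M1.inv h.ab.comm (YN (TY zT)) zfree hr (zz ▸ Commute.one_left r)
  obtain ⟨C, hC⟩ : ∃ C, C = R ⊓ Ce t := ⟨_, rfl⟩
  obtain ⟨I, hI⟩ : ∃ I, I = R ⊓ Ce (t * z) := ⟨_, rfl⟩
  have mI : ∀ r ∈ R, r ∈ I ↔ t * r * t⁻¹ = r⁻¹ := fun r hr => by
    rw [hI, mem_inf, mem_Ce]
    refine ⟨fun k => ?_, fun k => ⟨hr, M1.comm ?_⟩⟩
    · have := M1.conj k.2
      rw [M1.cjm, zi r hr, ← conj_inv] at this
      exact inv_eq_iff_eq_inv.1 this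
    · rw [M1.cjm, zi r hr, ← conj_inv, k, inv_inv]
  have CR : C ≤ R := hC ▸ inf_le_left
  have IR : I ≤ R := hI ▸ inf_le_left
  have nrm : ∀ A B : Subgroup X, A ≤ R → B ≤ R → A ≤ normalizer (B : Set X) := fun A B h1 h2 x hx =>
    centralizer_le_normalizer _ fun y hy => h.ab.comm y (h2 hy) x (h1 hx)
  have CI : C ⊓ I = ⊥ := eq_bot_iff.2 fun r hr => mem_bot.2 (odd r (CR hr.1) (by
    rw [← (mI r (CR hr.1)).1 hr.2, M1.conj (mem_Ce.1 (hC ▸ hr.1 : r ∈ R ⊓ Ce t).2)]))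
  have CI' : C ⊔ I = R := le_antisymm (sup_le CR IR) fun r hr => by
    have h1 : t * r * t⁻¹ ∈ R := conj_mem_of_mem_normalizer (YN (TY tT)) hr
    have h2 : t * (t * r * t⁻¹) * t⁻¹ = r := by rw [← M1.cjm, tt]; group
    have h4 : r * (t * r * t⁻¹) ∈ C := hC ▸ mem_inf.2 ⟨mul_mem hr h1, mem_Ce.2 (M1.comm (by
      rw [← conj_mul, h2, h.ab.comm r hr _ h1]))⟩
    have h5 : (t * r * t⁻¹)⁻¹ * r ∈ I := (mI _ (mul_mem (inv_mem h1) hr)).2 (by
      rw [← conj_mul, ← conj_inv, h2, mul_inv_rev, inv_inv])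
    have h6 := pow_mem (mul_mem (mem_sup_left h4) (mem_sup_right h5) : _ ∈ C ⊔ I) 3
    rwa [mul_assoc, mul_inv_cancel_left, ← sq, ← pow_mul, pow_succ, h.ab.exp r hr,
      one_mul] at h6
  have e1 := PG.card_sup_mul_card_inf (nrm C I CR IR)
  rw [CI, CI', card_bot, mul_one, h.ab.card] at e1
  have I'R : I.map (MulAut.conj u).toMonoidHom ≤ R := map_conj_le_of_mem_normalizer IR (YN hu)
  have II : I ⊓ I.map (MulAut.conj u).toMonoidHom = ⊥ := eq_bot_iff.2 fun r hr => by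
    have k1 : Commute (t * z) r := mem_Ce.1 (hI ▸ hr.1 : r ∈ R ⊓ Ce (t * z)).2
    have k2 : Commute (t * z) (u⁻¹ * r * u) :=
      mem_Ce.1 (hI ▸ mem_map_conj.1 hr.2 : u⁻¹ * r * u ∈ R ⊓ Ce (t * z)).2
    have k3 : Commute (u * (t * z) * u⁻¹) r := by
      show _ = _
      calc u * (t * z) * u⁻¹ * r = u * (t * z * (u⁻¹ * r * u)) * u⁻¹ := by group
        _ = _ := by rw [k2.eq]; group
    have k4 := k3.mul_left k1.inv_left
    rw [show u * (t * z) * u⁻¹ * (t * z)⁻¹ = u * (t * (z * u * z⁻¹) * t⁻¹)⁻¹ by group, M1.conj zu, tu,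
      inv_inv] at k4
    have rA : r ∈ zpowers a := hA ▸ mem_inf.2 ⟨IR hr.1, mem_Ce.2 (u_of r k4)⟩
    exact CI ▸ mem_inf.2 ⟨(zpowers_le.2 (hC ▸ mem_inf.2 ⟨aR, mem_Ce.2 (M1.comm ta)⟩) : zpowers a ≤ C) rA, hr.1⟩
  have e2 := PG.card_sup_mul_card_inf (nrm I _ IR I'R)
  have e3 := card_le_of_le (sup_le IR I'R)
  rw [II, card_bot, mul_one, card_map_conj] at e2
  rw [e2, h.ab.card] at e3
  have I1 : I ≠ ⊥ := fun e => by
    rw [e, sup_bot_eq] at CI'
    have k1 : ∀ r ∈ R, Commute t r := fun r hr => mem_Ce.1 (hC ▸ CI'.ge hr : r ∈ R ⊓ Ce t).2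
    have k2 : R ≤ Ce u := fun r hr => mem_Ce.2 (u_of r (by
      have k2 : Commute (u * t * u⁻¹) r := by
        show _ = _
        calc u * t * u⁻¹ * r = u * (t * (u⁻¹ * r * u)) * u⁻¹ := by group
          _ = _ := by rw [(k1 _ (conj_mem_of_mem_normalizer' (YN hu) hr)).eq]; group
      have k3 := k2.mul_left (k1 r hr).inv_left
      rwa [show u * t * u⁻¹ * t⁻¹ = u * (t * u * t⁻¹)⁻¹ by group, tu, inv_inv] at k3))
    have := h.three hu h3
    rw [inf_eq_left.2 k2, h.ab.card] at this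
    omega
  have I5 : Nat.card I = 5 := by
    obtain ⟨k, hk, e⟩ := (Nat.dvd_prime_pow Nat.prime_five).1 (Dvd.intro_left _ e1.symm)
    have : Nat.card I ≠ 1 := fun e => I1 (card_eq_one.1 e)
    rw [e] at e3 this ⊢
    interval_cases k <;> omega
  have C25 : Nat.card C = 25 := by rw [I5] at e1; omega
  have le := h.le_norm (TY tT) t2 (hC ▸ C25.symm.dvd) (hT ▸ card_dvd_of_le (le_inf TY Tt))
  have CN : Ce t ≤ Y ⊔ R := le.le.trans
    (sup_le (inf_le_left.trans le_sup_right) (inf_le_left.trans le_sup_left))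
  obtain ⟨S, -, TS, SN, hS⟩ := syl_move (T := T) (IsPGroup.of_card (n := 3) hT) (by rw [hT, h.card]; norm_num)
  obtain ⟨g, gS, gn⟩ := SetLike.not_le_iff_exists.1 fun k : S ≤ Ce t => by
    have h1 := (card_dvd_of_le (k.trans CN)).trans (Dvd.intro _ (PG.card_sup_mul_card_inf YN))
    rw [hS, hT, h.cY, h.ab.card] at h1
    omega
  obtain ⟨s, hs⟩ : ∃ s, s = g * t * g⁻¹ := ⟨_, rfl⟩
  have sT : s ∈ T := hs ▸ conj_mem_of_mem_normalizer (SN gS) tT
  have ss : s * s = 1 := by rw [hs, conj_mul, tt]; group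
  have s1 : s ≠ 1 := fun e => t1 (conj_eq_one_iff.1 (hs ▸ e))
  have st : s ≠ t := fun e => gn (mem_Ce.2 (M1.comm (hs ▸ e)).symm)
  obtain ⟨k, hk⟩ := hya s (TY sT)
  have e4 : a ^ ((k.val + 1) * (k.val + 1)) = a ^ 1 := by
    rw [pow_mul, ← hk, conj_pow, ← hk, ← M1.cjm, ss]; group
  have oa : orderOf a = 5 := haveI := Fact.mk Nat.prime_five; orderOf_eq_prime a5 a1
  rw [pow_eq_pow_iff_modEq, oa] at e4
  have k03 : k = 0 ∨ k = 3 := by clear hk; revert k; decide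
  rcases k03 with rfl | rfl
  · exact (uniq s sT (M1.comm (hk.trans (pow_one a)))).elim s1 st
  have sa : s * a * s⁻¹ = a⁻¹ := hk.trans (eq_inv_of_mul_eq_one_left (by rw [← pow_succ]; exact a5))
  rcases uniq _ (mul_mem sT zT) (M1.comm (by rw [M1.cjm, za, ← conj_inv, sa, inv_inv])) with e | e
  · have e5 : t = g⁻¹ * c * g * (g⁻¹ * c * g) := by
      have := (eq_inv_of_mul_eq_one_left e).trans (inv_eq_of_mul_eq_one_right zz)
      rw [hs, hz] at this
      calc t = g⁻¹ * (g * t * g⁻¹) * g := by group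
        _ = _ := by rw [this]; group
    exact uu (tu.symm.trans (M1.conj (e5 ▸ sq_u _ (TY (conj_mem_of_mem_normalizer' (SN gS) cT)))))
  · have e5 : s = t * z := by rw [← e, mul_assoc, zz, mul_one]
    have := h.card_conj (t := t) (s := t * z) (isConj_iff.2 ⟨g, hs.symm.trans e5⟩)
      (fun k => by rw [hC, k, card_bot] at C25; omega) (hI ▸ I1)
    rw [← hC, ← hI, C25, I5] at this
    omega

theorem TI5.case1 {R Y : Subgroup X} (h : TI5 R Y) {u : X} (hu : u ∈ Y) (h3 : orderOf u = 3)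
    (hn : Y ≤ normalizer (zpowers u : Set X)) : False := by
  classical
  have YN : Y ≤ normalizer (R : Set X) := h.sup ▸ le_sup_right
  have hA := h.three hu h3
  obtain ⟨⟨a, aA⟩, a1⟩ := ne_bot_iff_exists_ne_one.1 fun e : R ⊓ Ce u = ⊥ => by
    rw [e, card_bot] at hA; omega
  have a1 : a ≠ 1 := fun e => a1 (Subtype.ext e)
  have oa : orderOf a = 5 := haveI := Fact.mk Nat.prime_five; orderOf_eq_prime (h.ab.exp a aA.1) a1
  have eA : R ⊓ Ce u = zpowers a :=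
    (eq_of_le_of_card_ge (zpowers_le.2 aA) (by rw [hA, Nat.card_zpowers, oa])).symm
  have u1 : u ≠ 1 := fun e => by rw [e, orderOf_one] at h3; omega
  have hyu : ∀ y ∈ Y, y * u * y⁻¹ = u ∨ y * u * y⁻¹ = u⁻¹ := fun y hy => by
    have h1 := conj_mem_of_mem_normalizer (hn hy) (mem_zpowers u)
    rw [mem_zpowers_iff_mem_range_orderOf, h3, Finset.mem_image] at h1
    obtain ⟨k, hk, e⟩ := h1
    have := Finset.mem_range.1 hk
    interval_cases k
    · exact absurd (conj_eq_one_iff.1 (e.symm.trans (pow_zero u))) u1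
    · exact Or.inl (e.symm.trans (pow_one u))
    · exact Or.inr (e.symm.trans (eq_inv_of_mul_eq_one_left (by rw [← pow_succ]; exact orderOf_dvd_iff_pow_eq_one.1 h3.dvd)))
  have hya : ∀ y ∈ Y, ∃ k : Fin 4, y * a * y⁻¹ = a ^ (k.val + 1) := fun y hy => by
    have h0 : Commute (y⁻¹ * u * y⁻¹⁻¹) a := by
      rcases hyu _ (inv_mem hy) with e | e <;> rw [e]
      exacts [mem_Ce.1 aA.2, (mem_Ce.1 aA.2).inv_left]
    have h1 : y * a * y⁻¹ ∈ zpowers a := eA ▸ mem_inf.2 ⟨conj_mem_of_mem_normalizer (YN hy) aA.1, mem_Ce.2 (by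
      show _ = _
      calc u * (y * a * y⁻¹) = y * (y⁻¹ * u * y⁻¹⁻¹ * a) * y⁻¹ := by group
        _ = _ := by rw [h0.eq]; group)⟩
    rw [mem_zpowers_iff_mem_range_orderOf, oa, Finset.mem_image] at h1
    obtain ⟨k, hk, e⟩ := h1
    have := Finset.mem_range.1 hk
    cases k with
    | zero => exact absurd (conj_eq_one_iff.1 (e.symm.trans (pow_zero a))) a1
    | succ k => exact ⟨⟨k, by omega⟩, e.symm⟩
  obtain ⟨T0, hT0⟩ := haveI := Fact.mk Nat.prime_two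
    Sylow.exists_subgroup_card_pow_prime (G := Y) 2 (n := 3) (by rw [h.cY]; norm_num)
  obtain ⟨T, TY, hT⟩ : ∃ T ≤ Y, Nat.card T = 8 :=
    ⟨T0.map Y.subtype, map_subtype_le _, by rw [card_map_of_injective Y.subtype_injective, hT0]; rfl⟩
  have inj : ∀ y ∈ T, Commute y a → Commute y u → y = 1 := fun y hy ya yu => by
    have h1 : orderOf y ∣ 8 := hT ▸ orderOf_dvd_natCard T hy
    have h2 := yu.orderOf_mul_eq_mul_orderOf_of_coprime
      (h3 ▸ Nat.Coprime.coprime_dvd_left h1 (by norm_num))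
    have h4 := h.ord (mul_mem (TY hy) hu) (ne_bot_iff_exists_ne_one.2
      ⟨⟨a, mem_inf.2 ⟨aA.1, mem_Ce.2 (ya.mul_left (mem_Ce.1 aA.2))⟩⟩, fun e => a1 (congrArg Subtype.val e)⟩)
    rw [h2, h3] at h4
    exact orderOf_eq_one_iff.1 (by omega)
  choose κ hκ using hya
  have fi : Function.Injective fun y : T => (κ y (TY y.2), decide (y * u * (y : X)⁻¹ = u)) := by
    intro y y' e
    obtain ⟨e1, e2⟩ := Prod.mk.inj e
    have key : ∀ x : X, y * x * (y : X)⁻¹ = y' * x * (y' : X)⁻¹ → Commute ((y' : X)⁻¹ * y) x := fun x k =>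
      M1.comm (by rw [M1.cjm, k]; group)
    refine Subtype.ext (inv_mul_eq_one.1 (inj _ (mul_mem (inv_mem y'.2) y.2)
      (key a (by rw [hκ _ (TY y.2), hκ _ (TY y'.2), e1])) (key u ?_))).symm
    rw [decide_eq_decide] at e2
    by_cases k : y * u * (y : X)⁻¹ = u
    · rw [k, e2.1 k]
    · rw [(hyu _ (TY y.2)).resolve_left k, (hyu _ (TY y'.2)).resolve_left (fun l => k (e2.2 l))]
  have fs := (fi.bijective_of_nat_card_le (by rw [hT]; simp)).2
  obtain ⟨t, ht⟩ := fs (0, false)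
  obtain ⟨c, hc⟩ := fs (1, true)
  obtain ⟨t1, t2⟩ := Prod.mk.inj ht
  obtain ⟨c1, c2⟩ := Prod.mk.inj hc
  exact M1.fin h hu h3 eA a1 TY hT hyu (fun y hy => ⟨_, hκ y hy⟩) inj t.2 c.2
    (by rw [hκ _ (TY t.2), t1]; exact pow_one a) ((hyu _ (TY t.2)).resolve_left (of_decide_eq_false t2))
    (by rw [hκ _ (TY c.2), c1]; rfl) (of_decide_eq_true c2)

end Cfsg.Agent.SpS
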