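import Mathlib
import Cfsg.Agent.SpS.Defs
import Cfsg.Agent.SpS.Defs2
import Cfsg.Agent.SpS.M0
import Cfsg.Agent.SpS.T8
import Cfsg.Agent.SpS.SN
import Cfsg.Agent.GT.Conj

/-! S3586/S3535, piece M2: the complement of order `24` has no normal subgroup of order `8`
that is moved by an element of order `3`. -/

set_option autoImplicit false
set_option linter.unusedSectionVars false
set_option linter.unusedVariables false

namespace Cfsg.Agent.SpS

open Subgroup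

variable {G X : Type*} [Group G] [Finite G] [Group X] [Finite X] {p : ℕ}

namespace M2

theorem mCe {x g : X} : g ∈ Ce x ↔ x * g = g * x := by
  rw [mem_centralizer_singleton_iff, eq_comm]

theorem mCe' {x g : X} : g ∈ Ce x ↔ x * g * x⁻¹ = g := by
  rw [mCe, mul_inv_eq_iff_eq_mul]

theorem mod3 {B : Subgroup X} {u : X} (h3 : orderOf u = 3) (hu : u ∈ normalizer (B : Set X)) :
    Nat.card B % 3 = Nat.card (B ⊓ Ce u : Subgroup X) % 3 := by
  have : Fact (Nat.Prime 3) := ⟨by norm_num⟩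
  have := GT.card_modEq_card_inf_centralizer (L := B) (p := 3) (Q := zpowers u)
    (IsPGroup.of_card (n := 1) (by rw [Nat.card_zpowers, h3]; norm_num)) (zpowers_le.2 hu)
  rwa [SN.cen_zpowers] at this

theorem norm_inf {B : Subgroup X} {s g : X} (hg : g ∈ normalizer (B : Set X))
    (hs : g * s = s * g) : g ∈ normalizer ((B ⊓ Ce s : Subgroup X) : Set X) := by
  refine mem_normalizer_fintype fun n hn => ⟨(mem_normalizer_iff.1 hg n).1 hn.1, mCe.2 ?_⟩
  have h1 := mCe.1 hn.2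
  have h2 : s * g⁻¹ = g⁻¹ * s := by
    rw [mul_inv_eq_iff_eq_mul, mul_assoc, ← hs, inv_mul_cancel_left]
  calc s * (g * n * g⁻¹) = (s * g) * n * g⁻¹ := by simp only [mul_assoc]
    _ = g * (s * n) * g⁻¹ := by rw [← hs]; simp only [mul_assoc]
    _ = g * n * (s * g⁻¹) := by rw [h1]; simp only [mul_assoc]
    _ = g * n * g⁻¹ * s := by rw [h2]; simp only [mul_assoc]

theorem card_mul_le {P Q R : Subgroup X} (hP : P ≤ R) (hQ : Q ≤ R) (hd : Disjoint P Q) :
    Nat.card P * Nat.card Q ≤ Nat.card R := by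
  rw [← Nat.card_prod]
  refine Nat.card_le_card_of_injective
    (fun g : P × Q => (⟨g.1 * g.2, R.mul_mem (hP g.1.2) (hQ g.2.2)⟩ : R)) fun a b hab => ?_
  exact mul_injective_of_disjoint hd (congrArg Subtype.val hab)

theorem card_le_mul {P Q R : Subgroup X} (h : ∀ x ∈ R, ∃ a ∈ P, ∃ b ∈ Q, x = a * b) :
    Nat.card R ≤ Nat.card P * Nat.card Q := by
  rw [← Nat.card_prod]
  choose! a ha b hb hx using h
  refine Nat.card_le_card_of_injective
    (fun x : R => ((⟨a x, ha x x.2⟩, ⟨b x, hb x x.2⟩) : P × Q)) fun x y hxy => ?_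
  simp only [Prod.mk.injEq, Subtype.mk.injEq] at hxy
  exact Subtype.ext ((hx x x.2).trans (by rw [hxy.1, hxy.2]; exact (hx y y.2).symm))

theorem mul_conj_mem {x t : X} (h2 : t * t = 1) (hc : x * (t * x * t⁻¹) = (t * x * t⁻¹) * x) :
    x * (t * x * t⁻¹) ∈ Ce t := by
  refine mCe'.2 ?_
  have hi : t⁻¹ = t := inv_eq_of_mul_eq_one_right h2
  calc t * (x * (t * x * t⁻¹)) * t⁻¹ = (t * x * t⁻¹) * ((t * t) * x * (t * t)⁻¹) := by group
    _ = _ := by rw [h2, hc]; simp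

theorem inv_of_bot {B : Subgroup X} (hc : ∀ x ∈ B, ∀ y ∈ B, x * y = y * x) {t : X}
    (ht : t ∈ normalizer (B : Set X)) (h2 : t * t = 1) (h1 : B ⊓ Ce t = ⊥) :
    ∀ x ∈ B, t * x * t⁻¹ = x⁻¹ := by
  intro x hx
  have hy : t * x * t⁻¹ ∈ B := (mem_normalizer_iff.1 ht x).1 hx
  have : x * (t * x * t⁻¹) ∈ B ⊓ Ce t := ⟨B.mul_mem hx hy, mul_conj_mem h2 (hc _ hx _ hy)⟩
  rw [h1, mem_bot] at this
  exact eq_inv_of_mul_eq_one_right this

theorem le5 {d : ℕ} (h : d ∣ 5 ^ 3) (h25 : ¬ 25 ∣ d) : d ≤ 5 := by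
  obtain ⟨k, hk, rfl⟩ := (Nat.dvd_prime_pow Nat.prime_five).1 h
  interval_cases k <;> simp at h25 ⊢

theorem eq_one_of_inv {x : X} (h5 : x ^ 5 = 1) (h : x = x⁻¹) : x = 1 := by
  have h2 : x * x = 1 := by nth_rw 2 [h]; simp
  calc x = x ^ 5 * ((x * x) * (x * x))⁻¹ := by group
    _ = 1 := by rw [h5, h2]; simp

/-- A group of order `8` with a central involution `s`, an automorphism of order `3` fixing only
`1` and `s` and a second involution is elementary abelian. -/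
theorem elem {T : Subgroup X} (h8 : Nat.card T = 8) {u s t : X} (h3 : orderOf u = 3)
    (hu : u ∈ normalizer (T : Set X)) (hs : s ∈ T) (hs1 : s ≠ 1) (hs2 : s * s = 1)
    (hsu : s ∈ Ce u) (hsc : ∀ a ∈ T, s * a = a * s) (ht : t ∈ T) (htu : t ∉ Ce u)
    (ht2 : t * t = 1) : ∀ a ∈ T, a * a = 1 := by
  classical
  have hu3 : u * u * u = 1 := by rw [← pow_three', ← h3, pow_orderOf_eq_one]
  have hsu' := mCe'.1 hsu
  have step : ∀ a, a ∈ T ∧ a ∉ Ce u ∧ a * a = 1 →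
      (u * a * u⁻¹ ∈ T ∧ u * a * u⁻¹ ∉ Ce u ∧ (u * a * u⁻¹) * (u * a * u⁻¹) = 1) ∧
        u * a * u⁻¹ ≠ a ∧ u * a * u⁻¹ ≠ s * a := by
    rintro a ⟨h1, h2, h4⟩
    refine ⟨⟨(mem_normalizer_iff.1 hu a).1 h1, fun h => h2 ?_, ?_⟩, fun h => h2 (mCe'.2 h),
      fun h => h2 ?_⟩
    · have : a = u⁻¹ * (u * a * u⁻¹) * u := by group
      have hu' : u ∈ Ce u := mCe.2 rfl
      rw [this]
      exact (Ce u).mul_mem ((Ce u).mul_mem ((Ce u).inv_mem hu') h) hu'
    · calc u * a * u⁻¹ * (u * a * u⁻¹) = u * (a * a) * u⁻¹ := by group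
        _ = 1 := by rw [h4]; simp
    · have h5 : u * (u * a * u⁻¹) * u⁻¹ = a := by
        calc u * (u * a * u⁻¹) * u⁻¹ = u * (s * a) * u⁻¹ := by rw [h]
          _ = (u * s * u⁻¹) * (u * a * u⁻¹) := by group
          _ = a := by rw [hsu', h, ← mul_assoc, hs2, one_mul]
      refine mCe'.2 ?_
      calc u * a * u⁻¹ = u * (u * (u * a * u⁻¹) * u⁻¹) * u⁻¹ * 1 := by rw [h5, mul_one]
        _ = (u * u * u) * a * (u * u * u)⁻¹ := by group
        _ = a := by rw [hu3]; simp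
  obtain ⟨p1, n10, m10⟩ := step t ⟨ht, htu, ht2⟩
  obtain ⟨p2, n21, m21⟩ := step _ p1
  obtain ⟨-, n02, m02⟩ := step _ p2
  have e0 : u * (u * (u * t * u⁻¹) * u⁻¹) * u⁻¹ = t := by
    calc _ = (u * u * u) * t * (u * u * u)⁻¹ := by group
      _ = t := by rw [hu3]; simp
  rw [e0] at n02 m02
  generalize u * (u * t * u⁻¹) * u⁻¹ = c at *
  generalize u * t * u⁻¹ = b at *
  have sw : ∀ x y : X, x ≠ s * y → y ≠ s * x := fun x y h h' => h (by
    rw [h', ← mul_assoc, hs2, one_mul])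
  have nb : ∀ x : X, x ∉ Ce u → x ≠ 1 ∧ x ≠ s ∧ s * x ≠ 1 ∧ x ≠ s * x := fun x hx =>
    ⟨fun h => hx (h ▸ (Ce u).one_mem), fun h => hx (h ▸ hsu),
      fun h => hx (by rw [eq_inv_of_mul_eq_one_right h]; exact (Ce u).inv_mem hsu),
      fun h => hs1 (by simpa using h)⟩
  obtain ⟨a1, a2, a3, a4⟩ := nb t htu
  obtain ⟨b1, b2, b3, b4⟩ := nb b p1.2.1
  obtain ⟨c1, c2, c3, c4⟩ := nb c p2.2.1
  have m01 := sw _ _ m10
  have m12 := sw _ _ m21
  have m20 := sw _ _ m02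
  have hnd : [1, s, t, b, c, s * t, s * b, s * c].Nodup := by
    simp only [List.nodup_cons, List.mem_cons, List.not_mem_nil, or_false, not_or, left_eq_mul,
      mul_right_inj, List.nodup_nil, not_false_eq_true, and_true]
    refine ⟨⟨hs1.symm, a1.symm, b1.symm, c1.symm, a3.symm, b3.symm, c3.symm⟩,
      ⟨a2.symm, b2.symm, c2.symm, a1, b1, c1⟩, ⟨n10.symm, n02, a4, m01, m02⟩,
      ⟨n21.symm, m10, b4, m12⟩, ⟨m20, m21, c4⟩, ⟨n10.symm, n02⟩, n21.symm⟩
  have hcard := List.toFinset_card_of_nodup hnd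
  have hsub : (([1, s, t, b, c, s * t, s * b, s * c].toFinset : Finset X) : Set X) ⊆
      {a | a ∈ T ∧ a * a = 1} := by
    have hm : ∀ x, x ∈ T → x * x = 1 → s * x ∈ T ∧ s * x * (s * x) = 1 := fun x hx h2 =>
      ⟨T.mul_mem hs hx, by
        calc s * x * (s * x) = s * (x * s) * x := by simp only [mul_assoc]
          _ = (s * s) * (x * x) := by rw [← hsc x hx]; simp only [mul_assoc]
          _ = 1 := by rw [hs2, h2, one_mul]⟩
    intro x hx
    simp only [List.coe_toFinset, List.mem_cons, List.not_mem_nil, or_false,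
      Set.mem_ofPred_eq] at hx
    rcases hx with rfl | rfl | rfl | rfl | rfl | rfl | rfl | rfl
    · exact ⟨T.one_mem, one_mul _⟩
    · exact ⟨hs, hs2⟩
    · exact ⟨ht, ht2⟩
    · exact ⟨p1.1, p1.2.2⟩
    · exact ⟨p2.1, p2.2.2⟩
    · exact hm _ ht ht2
    · exact hm _ p1.1 p1.2.2
    · exact hm _ p2.1 p2.2.2
  have heq : {a | a ∈ T ∧ a * a = 1} = (T : Set X) := by
    refine Set.eq_of_subset_of_ncard_le (fun a ha => ha.1) ?_ (Set.toFinite _)
    have h1 := Set.ncard_le_ncard hsub (Set.toFinite _)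
    rw [Set.ncard_coe_finset, hcard] at h1
    have h2 : (T : Set X).ncard = 8 := h8
    rw [h2]; exact h1
  intro a ha
  have : a ∈ {a | a ∈ T ∧ a * a = 1} := heq ▸ ha
  exact this.2

/-- the fixed points of `u` on `T` -/
theorem fixed {T : Subgroup X} (h8 : Nat.card T = 8) {u : X} (h3 : orderOf u = 3)
    (hu : u ∈ normalizer (T : Set X)) (hc : u ∉ centralizer (T : Set X)) :
    ∃ s ∈ T, s ≠ 1 ∧ s * s = 1 ∧ s ∈ Ce u ∧ (∀ a ∈ T, s * a = a * s) ∧
      ∀ a ∈ T, a ∈ Ce u → a = 1 ∨ a = s := by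
  have two : ∀ C : Subgroup X, C ≤ T → Nat.card C % 3 = 2 → Nat.card C = 2 ∨ C = T := by
    intro C hC h2
    have hd : Nat.card C ∣ 2 ^ 3 := by
      have := card_dvd_of_le hC
      rwa [h8] at this
    obtain ⟨k, hk, e⟩ := (Nat.dvd_prime_pow Nat.prime_two).1 hd
    interval_cases k
    · rw [e] at h2; simp at h2
    · exact Or.inl e
    · rw [e] at h2; simp at h2
    · exact Or.inr (eq_of_le_of_card_ge hC (by rw [h8, e]; norm_num))
  have uniq : ∀ C : Subgroup X, Nat.card C = 2 → ∀ a ∈ C, ∀ b ∈ C, a ≠ 1 → b ≠ 1 → a = b := by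
    intro C hC a ha b hb a1 b1
    obtain ⟨y, -, hy⟩ := (Nat.card_eq_two_iff' (1 : C)).1 hC
    have e1 := hy ⟨a, ha⟩ (fun h => a1 (congrArg Subtype.val h))
    have e2 := hy ⟨b, hb⟩ (fun h => b1 (congrArg Subtype.val h))
    exact congrArg Subtype.val (e1.trans e2.symm)
  have hZ : Nat.card (T ⊓ Ce u : Subgroup X) = 2 := by
    refine (two _ inf_le_left (by rw [← mod3 h3 hu, h8])).resolve_right fun h => hc ?_
    intro a ha
    have : a ∈ T ⊓ Ce u := by rw [h]; exact ha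
    exact (mCe.1 this.2).symm
  obtain ⟨⟨s, hsT, hsu⟩, hs1, -⟩ := (Nat.card_eq_two_iff' (1 : (T ⊓ Ce u : Subgroup X))).1 hZ
  have hs1' : s ≠ 1 := fun h => hs1 (Subtype.ext h)
  have hs2 : s * s = 1 := by
    have := pow_card_eq_one' (x := (⟨s, hsT, hsu⟩ : (T ⊓ Ce u : Subgroup X)))
    rw [hZ, pow_two] at this
    exact congrArg Subtype.val this
  refine ⟨s, hsT, hs1', hs2, hsu, ?_, fun a ha hau => ?_⟩
  · have hus : u * s = s * u := mCe.1 hsu
    have h1 := mod3 h3 (norm_inf hu hus)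
    have h2 : T ⊓ Ce s ⊓ Ce u = T ⊓ Ce u := by
      refine le_antisymm (inf_le_inf_right _ inf_le_left) fun a ha => ⟨⟨ha.1, ?_⟩, ha.2⟩
      by_cases a1 : a = 1
      · rw [a1]; exact (Ce s).one_mem
      · rw [uniq _ hZ a ha s ⟨hsT, hsu⟩ a1 hs1']; exact mCe.2 rfl
    rw [h2, hZ] at h1
    rcases two _ inf_le_left h1 with h | h
    · have : Fact (Nat.Prime 2) := ⟨Nat.prime_two⟩
      have : Nontrivial T := Finite.one_lt_card_iff_nontrivial.1 (by rw [h8]; norm_num)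
      have hP : IsPGroup 2 T := IsPGroup.of_card (n := 3) h8
      have := hP.center_nontrivial
      obtain ⟨⟨z, hz⟩, z1⟩ := exists_ne (1 : center T)
      have hz' : ∀ a ∈ T, (z : X) * a = a * z := fun a ha =>
        (congrArg Subtype.val (mem_center_iff.1 hz ⟨a, ha⟩)).symm
      have z1' : (z : X) ≠ 1 := fun h => z1 (Subtype.ext (Subtype.ext h))
      rw [← uniq _ h z ⟨z.2, mCe.2 (hz' s hsT).symm⟩ s ⟨hsT, mCe.2 rfl⟩ z1' hs1']
      exact hz'
    · intro a ha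
      have : a ∈ T ⊓ Ce s := by rw [h]; exact ha
      exact mCe.1 this.2
  · by_cases a1 : a = 1
    · exact Or.inl a1
    · exact Or.inr (uniq _ hZ a ⟨ha, hau⟩ s ⟨hsT, hsu⟩ a1 hs1')

theorem ord2 {t : X} (h1 : t ≠ 1) (h2 : t * t = 1) : orderOf t = 2 :=
  haveI : Fact (Nat.Prime 2) := ⟨Nat.prime_two⟩
  orderOf_eq_prime (by rw [pow_two, h2]) h1

/-- `T` is elementary abelian and contains an involution that is moved by `u` and has at least
`25` fixed points on `R`. -/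
theorem key {R Y T : Subgroup X} (h : TI5 R Y) (hT : T ≤ Y) (h8 : Nat.card T = 8)
    (hn : Y ≤ normalizer (T : Set X)) {u : X} (hu : u ∈ Y) (h3 : orderOf u = 3)
    (hc : u ∉ centralizer (T : Set X)) :
    (∀ a ∈ T, a * a = 1) ∧ ∃ t ∈ T, t ∉ Ce u ∧ 25 ∣ Nat.card (R ⊓ Ce t : Subgroup X) := by
  have hYN : Y ≤ normalizer (R : Set X) := h.sup ▸ le_sup_right
  have hR := h.ab.card
  obtain ⟨s, hs, hs1, hs2, hsu, hsc, hZ⟩ := fixed h8 h3 (hn hu) hc
  have hus : u * s = s * u := mCe.1 hsu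
  have hdv : ∀ t : X, Nat.card (R ⊓ Ce t : Subgroup X) ∣ 5 ^ 3 := fun t =>
    hR ▸ card_dvd_of_le inf_le_left
  have hfix : ∀ t ∈ T, R ⊓ Ce t ≠ ⊥ → t * t = 1 := by
    intro t ht h1
    have hd : orderOf t ∣ 8 := h8 ▸ T.orderOf_dvd_natCard ht
    rcases h.ord (hT ht) h1 with e | e | e
    · rw [orderOf_eq_one_iff.1 e, one_mul]
    · rw [← pow_two, ← e, pow_orderOf_eq_one]
    · rw [e] at hd; norm_num at hd
  have hAB : ∀ x ∈ R, x ∈ Ce u → x ∈ Ce s → x = 1 := by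
    intro x hx h1 h2
    by_contra x1
    have h6 : orderOf (s * u) = 6 := by
      rw [(show Commute s u from hus.symm).orderOf_mul_eq_mul_orderOf_of_coprime
        (by rw [ord2 hs1 hs2, h3]; norm_num), ord2 hs1 hs2, h3]
    have hm : x ∈ R ⊓ Ce (s * u) := ⟨hx, mCe.2 (by
      rw [mul_assoc, mCe.1 h1, ← mul_assoc, mCe.1 h2, mul_assoc])⟩
    have := h.ord (Y.mul_mem (hT hs) hu) (fun e => x1 (by rwa [e, mem_bot] at hm))
    omega
  by_cases hB : R ⊓ Ce s = ⊥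
  · have hinv := inv_of_bot h.ab.comm (hYN (hT hs)) hs2 hB
    obtain ⟨t, ht, t1, hf⟩ : ∃ t ∈ T, t ≠ 1 ∧ R ⊓ Ce t ≠ ⊥ := by
      by_contra hno
      push Not at hno
      have := free_dvd (R := R) (Y := T) (hT.trans hYN) fun y hy x hx hxy => by
        by_cases y1 : y = 1
        · exact Or.inr y1
        · have : x ∈ R ⊓ Ce y := ⟨hx, mCe.2 hxy.symm⟩
          rw [hno y hy y1, mem_bot] at this
          exact Or.inl this
      rw [h8, hR] at this
      norm_num at this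
    have ht2 := hfix t ht hf
    have htu : t ∉ Ce u := fun h' => by
      rcases hZ t ht h' with e | e
      · exact t1 e
      · exact hf (e ▸ hB)
    refine ⟨elem h8 h3 (hn hu) hs hs1 hs2 hsu hsc ht htu ht2, ?_⟩
    have hle : Nat.card R ≤
        Nat.card (R ⊓ Ce t : Subgroup X) * Nat.card (R ⊓ Ce (s * t) : Subgroup X) := by
      refine card_le_mul fun x hx => ?_
      have hy : t * x * t⁻¹ ∈ R := (mem_normalizer_iff.1 (hYN (hT ht)) x).1 hx
      have hxy := h.ab.comm _ hx _ hy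
      have hw : x * (t * x * t⁻¹)⁻¹ ∈ R := R.mul_mem hx (R.inv_mem hy)
      refine ⟨(x * (t * x * t⁻¹)) ^ 3, pow_mem (mem_inf.2 ⟨R.mul_mem hx hy, mul_conj_mem ht2 hxy⟩) 3,
        (x * (t * x * t⁻¹)⁻¹) ^ 3, pow_mem (mem_inf.2 ⟨hw, mCe'.2 ?_⟩) 3, ?_⟩
      · have e1 : t * (x * (t * x * t⁻¹)⁻¹) * t⁻¹ = (x * (t * x * t⁻¹)⁻¹)⁻¹ := by
          calc _ = (t * x * t⁻¹) * ((t * t) * x⁻¹ * (t * t)⁻¹) := by group
            _ = _ := by rw [ht2]; group
        calc s * t * (x * (t * x * t⁻¹)⁻¹) * (s * t)⁻¹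
            = s * (t * (x * (t * x * t⁻¹)⁻¹) * t⁻¹) * s⁻¹ := by group
          _ = _ := by rw [e1, hinv _ (R.inv_mem hw), inv_inv]
      · generalize t * x * t⁻¹ = y at *
        have hcm : Commute (x * y) (x * y⁻¹) := h.ab.comm _ (R.mul_mem hx hy) _ hw
        rw [← hcm.mul_pow]
        have e : x * y * (x * y⁻¹) = x ^ 2 := by
          rw [mul_assoc, ← mul_assoc y, ← hxy, mul_inv_cancel_right, pow_two]
        rw [e, ← pow_mul, show 2 * 3 = 5 + 1 from rfl, pow_succ, h.ab.exp x hx, one_mul]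
    by_cases h1 : 25 ∣ Nat.card (R ⊓ Ce t : Subgroup X)
    · exact ⟨t, ht, htu, h1⟩
    refine ⟨s * t, T.mul_mem hs ht, fun h' => htu ?_, ?_⟩
    · exact (mul_mem_cancel_left hsu).1 h'
    · by_contra h2
      have := Nat.mul_le_mul (le5 (hdv _) h1) (le5 (hdv _) h2)
      rw [hR] at hle
      omega
  · have hA := h.three hu h3
    have hcB : ∀ x ∈ R ⊓ Ce s, ∀ y ∈ R ⊓ Ce s, x * y = y * x := fun x hx y hy =>
      h.ab.comm x hx.1 y hy.1
    have h25 : Nat.card (R ⊓ Ce s : Subgroup X) = 25 := by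
      have h1 := mod3 h3 (norm_inf (hYN hu) hus)
      have h2 : R ⊓ Ce s ⊓ Ce u = ⊥ := eq_bot_iff.2 fun x hx => hAB x hx.1.1 hx.2 hx.1.2
      rw [h2, card_bot] at h1
      obtain ⟨k, hk, e⟩ := (Nat.dvd_prime_pow Nat.prime_five).1 (hdv s)
      interval_cases k
      · exact absurd (card_eq_one.1 e) hB
      · rw [e] at h1; simp at h1
      · exact e
      · rw [e] at h1; simp at h1
    let J : Subgroup X :=
      { carrier := {x | x ∈ R ∧ s * x * s⁻¹ = x⁻¹}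
        one_mem' := ⟨R.one_mem, by simp⟩
        mul_mem' := fun {a b} ha hb => ⟨R.mul_mem ha.1 hb.1, by
          calc s * (a * b) * s⁻¹ = (s * a * s⁻¹) * (s * b * s⁻¹) := by group
            _ = _ := by rw [ha.2, hb.2, h.ab.comm a ha.1 b hb.1, mul_inv_rev]⟩
        inv_mem' := fun {a} ha => ⟨R.inv_mem ha.1, by
          calc s * a⁻¹ * s⁻¹ = (s * a * s⁻¹)⁻¹ := by group
            _ = _ := by rw [ha.2]⟩ }
    have hAJ : R ⊓ Ce u ≤ J := fun x hx => ⟨hx.1,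
      inv_of_bot (B := R ⊓ Ce u) (fun x hx y hy => h.ab.comm x hx.1 y hy.1)
        (norm_inf (hYN (hT hs)) hus.symm) hs2
        (eq_bot_iff.2 fun x hx => hAB x hx.1.1 hx.1.2 hx.2) x hx⟩
    have hJA : R ⊓ Ce u = J := by
      refine eq_of_le_of_card_ge hAJ ?_
      have := card_mul_le (P := J) (Q := R ⊓ Ce s) (R := R) (fun x hx => hx.1) inf_le_left
        (disjoint_def.2 fun {x} h1 h2 =>
          eq_one_of_inv (h.ab.exp x h1.1) ((mCe'.1 h2.2).symm.trans h1.2))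
      rw [h25, hR] at this
      omega
    obtain ⟨c, hcT, hcu⟩ : ∃ c ∈ T, c ∉ Ce u := by
      by_contra hno
      push Not at hno
      exact hc fun a ha => (mCe.1 (hno a ha)).symm
    obtain ⟨x0, hx0, x01⟩ : ∃ x ∈ R ⊓ Ce u, x ≠ 1 := by
      by_contra hno
      push Not at hno
      rw [(eq_bot_iff_forall _).2 hno, card_bot] at hA
      omega
    have hns : ∀ t ∈ T, t ≠ 1 → R ⊓ Ce u ≤ Ce t → t ∉ Ce u := by
      intro t ht t1 hle h'
      rcases hZ t ht h' with e | e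
      · exact t1 e
      · exact x01 (hAB x0 hx0.1 hx0.2 (e ▸ hle hx0))
    have big : ∀ t, R ⊓ Ce u ≤ Ce t → R ⊓ Ce s ⊓ Ce t ≠ ⊥ →
        25 ∣ Nat.card (R ⊓ Ce t : Subgroup X) := by
      intro t hle hne
      by_contra h2
      have h4 := le5 (hdv _) h2
      have h5 := card_mul_le (P := R ⊓ Ce u) (Q := R ⊓ Ce s ⊓ Ce t) (R := R ⊓ Ce t)
        (le_inf inf_le_left hle) (inf_le_inf_right _ inf_le_left)
        (disjoint_def.2 fun {x} h1 h2 => hAB x h1.1 h1.2 h2.1.2)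
      have h6 := (one_lt_card_iff_ne_bot _).2 hne
      rw [hA] at h5
      omega
    have ht : u⁻¹ * c⁻¹ * u * c ∈ T := by
      refine T.mul_mem ?_ hcT
      have := (mem_normalizer_iff.1 ((normalizer (T : Set X)).inv_mem (hn hu)) c⁻¹).1
        (T.inv_mem hcT)
      rwa [inv_inv] at this
    have t1 : u⁻¹ * c⁻¹ * u * c ≠ 1 := fun e => hcu (mCe.2 (by
      calc u * c = c * u * (u⁻¹ * c⁻¹ * u * c) := by group
        _ = c * u := by rw [e, mul_one]))
    have htA : R ⊓ Ce u ≤ Ce (u⁻¹ * c⁻¹ * u * c) := by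
      intro x hx
      have h1 : c * x * c⁻¹ ∈ J := ⟨(mem_normalizer_iff.1 (hYN (hT hcT)) x).1 hx.1, by
        calc s * (c * x * c⁻¹) * s⁻¹ = (s * c) * x * (s * c)⁻¹ := by group
          _ = c * (s * x * s⁻¹) * c⁻¹ := by rw [hsc c hcT]; group
          _ = _ := by rw [(hAJ hx).2]; group⟩
      rw [← hJA] at h1
      have h2 := mCe'.1 h1.2
      have h4 := mCe'.1 hx.2
      refine mCe'.2 ?_
      calc u⁻¹ * c⁻¹ * u * c * x * (u⁻¹ * c⁻¹ * u * c)⁻¹
          = u⁻¹ * c⁻¹ * (u * (c * x * c⁻¹) * u⁻¹) * c * u := by group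
        _ = u⁻¹ * x * u := by rw [h2]; group
        _ = u⁻¹ * (u * x * u⁻¹) * u := by rw [h4]
        _ = x := by group
    generalize u⁻¹ * c⁻¹ * u * c = t at ht t1 htA
    have htu := hns t ht t1 htA
    have ht2 := hfix t ht fun e => x01 (by
      have : x0 ∈ R ⊓ Ce t := ⟨hx0.1, htA hx0⟩
      rwa [e, mem_bot] at this)
    have hel := elem h8 h3 (hn hu) hs hs1 hs2 hsu hsc ht htu ht2
    refine ⟨hel, ?_⟩
    have ht' : u * t * u⁻¹ ∈ T := (mem_normalizer_iff.1 (hn hu) t).1 ht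
    have htA' : R ⊓ Ce u ≤ Ce (u * t * u⁻¹) := by
      intro x hx
      have h1 := mCe'.1 (htA hx)
      have h2 := mCe'.1 hx.2
      have h4 : u⁻¹ * x * u = x := by
        conv_lhs => rw [← h2]
        group
      refine mCe'.2 ?_
      calc u * t * u⁻¹ * x * (u * t * u⁻¹)⁻¹ = u * (t * (u⁻¹ * x * u) * t⁻¹) * u⁻¹ := by group
        _ = x := by rw [h4, h1, h2]
    have t1' : u * t * u⁻¹ ≠ 1 := fun e => t1 (by simpa using e)
    have hne : t * (u * t * u⁻¹) ≠ 1 := fun e => htu (mCe'.2 (by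
      rw [eq_inv_of_mul_eq_one_right e, inv_eq_of_mul_eq_one_right ht2]))
    generalize u * t * u⁻¹ = t' at ht' htA' t1' hne
    by_cases b1 : R ⊓ Ce s ⊓ Ce t = ⊥
    swap
    · exact ⟨t, ht, htu, big t htA b1⟩
    by_cases b2 : R ⊓ Ce s ⊓ Ce t' = ⊥
    swap
    · exact ⟨t', ht', hns t' ht' t1' htA', big t' htA' b2⟩
    have i1 := inv_of_bot hcB (norm_inf (hYN (hT ht)) (hsc t ht).symm) ht2 b1
    have i2 := inv_of_bot hcB (norm_inf (hYN (hT ht')) (hsc t' ht').symm) (hel t' ht') b2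
    refine ⟨t * t', T.mul_mem ht ht', hns _ (T.mul_mem ht ht') hne fun x hx => mCe.2 ?_, ?_⟩
    · rw [mul_assoc, mCe.1 (htA' hx), ← mul_assoc, mCe.1 (htA hx), mul_assoc]
    · rw [← h25]
      refine card_dvd_of_le fun x hx => ⟨hx.1, mCe'.2 ?_⟩
      calc t * t' * x * (t * t')⁻¹ = t * (t' * x * t'⁻¹) * t⁻¹ := by group
        _ = x := by rw [i2 x hx, i1 _ (inv_mem hx), inv_inv]

end M2

open M2 in
theorem TI5.case2 {R Y T : Subgroup X} (h : TI5 R Y) (hT : T ≤ Y) (h8 : Nat.card T = 8)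
    (hn : Y ≤ normalizer (T : Set X)) {u : X} (hu : u ∈ Y) (h3 : orderOf u = 3)
    (hc : u ∉ centralizer (T : Set X)) : False := by
  have hYN : Y ≤ normalizer (R : Set X) := h.sup ▸ le_sup_right
  obtain ⟨hel, t, ht, htu, h25⟩ := key h hT h8 hn hu h3 hc
  have hab : ∀ a ∈ T, ∀ b ∈ T, a * b = b * a := by
    intro a ha b hb
    rw [← inv_eq_of_mul_eq_one_right (hel _ (T.mul_mem ha hb)), mul_inv_rev,
      inv_eq_of_mul_eq_one_right (hel a ha), inv_eq_of_mul_eq_one_right (hel b hb)]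
  have t1 : t ≠ 1 := fun e => htu (e ▸ (Ce u).one_mem)
  have hTC : T ≤ Ce t := fun a ha => mCe.2 (hab t ht a ha)
  have hle : T ≤ Y ⊓ Ce t := le_inf hT hTC
  have hd8 : 8 ∣ Nat.card (Y ⊓ Ce t : Subgroup X) := h8 ▸ card_dvd_of_le hle
  have hYT : Y ⊓ Ce t = T := by
    refine (eq_of_le_of_card_ge hle ?_).symm
    have h1 : Nat.card (Y ⊓ Ce t : Subgroup X) ∣ 24 := h.cY ▸ card_dvd_of_le inf_le_left
    have h2 : Nat.card (Y ⊓ Ce t : Subgroup X) ≠ 24 := fun e => by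
      have h4 : Y ⊓ Ce t = Y := eq_of_le_of_card_ge inf_le_left (by rw [e, h.cY])
      have : u ∈ Y ⊓ Ce t := by rw [h4]; exact hu
      exact htu (mCe.2 (mCe.1 this.2).symm)
    obtain ⟨k, hk⟩ := hd8
    rw [hk] at h1 h2 ⊢
    have h4 : k ∣ 3 := Nat.dvd_of_mul_dvd_mul_left (by norm_num : 0 < 8) h1
    rcases (Nat.dvd_prime Nat.prime_three).1 h4 with e | e <;> omega
  have hC := h.le_norm (hT ht) (ord2 t1 (hel t ht)) h25 hd8
  rw [hYT] at hC
  have hdec : ∀ g ∈ Ce t, ∃ b ∈ R, ∃ c ∈ T, b * c = g := by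
    intro g hg
    have h1 : g ∈ ((R ⊓ Ce t ⊔ T : Subgroup X) : Set X) := by rw [← hC]; exact hg
    rw [coe_mul_of_right_le_normalizer_left _ _
      (fun a ha => norm_inf (hYN (hT ha)) (hab a ha t ht))] at h1
    obtain ⟨b, hb, c, hc, e⟩ := h1
    exact ⟨b, hb.1, c, hc, e⟩
  have : Fact (Nat.Prime 2) := ⟨Nat.prime_two⟩
  have hP : IsPGroup 2 T := IsPGroup.of_card (n := 3) h8
  refine t8 h8 (fun a ha => by rw [pow_two, hel a ha]) ht ⟨hTC, hP, fun Q hQ hQC hTQ => ?_⟩ ?_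
    (hn hu) ⟨1, by rw [h3, pow_one]⟩ hc (by rw [h.card]; norm_num)
  · refine le_antisymm (fun q hq => ?_) hTQ
    obtain ⟨b, hb, c, hc, rfl⟩ := hdec q (hQC hq)
    have hbQ : b ∈ Q := (mul_mem_cancel_right (hTQ hc)).1 hq
    obtain ⟨k, hk⟩ := hQ ⟨b, hbQ⟩
    have hk' : b ^ 2 ^ k = 1 := congrArg Subtype.val hk
    have h1 : b = 1 := by
      have := (pow_gcd_eq_one (a := b)).2 ⟨hk', h.ab.exp b hb⟩
      rwa [Nat.Coprime.gcd_eq_one (Nat.Coprime.pow_left k (by norm_num)), pow_one] at this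
    rw [h1, one_mul]; exact hc
  · rintro g ⟨hg1, hg2⟩
    obtain ⟨b, hb, c, hc, rfl⟩ := hdec g hg2
    have hbN : b ∈ normalizer (T : Set X) :=
      (mul_mem_cancel_right (le_normalizer hc)).1 hg1
    refine mul_mem (fun a ha => ?_) fun a ha => hab a ha c hc
    have h1 : b * a * b⁻¹ * a⁻¹ ∈ T :=
      T.mul_mem ((mem_normalizer_iff.1 hbN a).1 ha) (T.inv_mem ha)
    have h2 : b * a * b⁻¹ * a⁻¹ ∈ R := by
      have := R.mul_mem hb ((mem_normalizer_iff.1 (hYN (hT ha)) b⁻¹).1 (R.inv_mem hb))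
      simpa only [mul_assoc] using this
    have h4 := eq_one_of_inv (h.ab.exp _ h2) (inv_eq_of_mul_eq_one_right (hel _ h1)).symm
    calc a * b = (b * a * b⁻¹ * a⁻¹)⁻¹ * (b * a) := by group
      _ = b * a := by rw [h4]; simp

end Cfsg.Agent.SpS
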