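import Mathlib
import Cfsg.Agent.SpS.Defs
import Cfsg.Agent.SpS.Defs2
import Cfsg.Agent.SpS.PA

/-! S3586/S3535, piece PE1: coordinates on an extraspecial group of order `p ^ 3`. -/

set_option autoImplicit false
set_option linter.unusedSectionVars false
set_option linter.unusedVariables false

namespace Cfsg.Agent.SpS

open Subgroup
open scoped commutatorElement

variable {G X : Type*} [Group G] [Finite G] [Group X] [Finite X] {p : ℕ}

theorem pe1_center {R : Type*} [Group R] [Fact p.Prime] (hR : Nat.card R = p ^ 3)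
    (hn : ¬ IsMulCommutative R) : Nat.card (center R) = p ∧ ∀ x y : R, ⁅x, y⁆ ∈ center R := by
  obtain ⟨k, k0, hk⟩ := IsPGroup.card_center_eq_prime_pow hR (by norm_num)
  have e := (center R).card_mul_index
  rw [hk, hR, index_eq_card] at e
  have hp : p.Prime := Fact.out
  have k1 : k = 1 := by
    by_contra k1
    obtain ⟨j, rfl⟩ : ∃ j, k = 2 + j := ⟨k - 2, by omega⟩
    have : IsCyclic (R ⧸ center R) := isCyclic_of_card_dvd_prime (p := p)
      ⟨p ^ j, mul_left_cancel₀ (pow_ne_zero 2 hp.ne_zero) (by rw [← pow_succ, ← e]; ring)⟩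
    exact hn (isMulCommutative_of_isCyclic_quotient_center_self R)
  subst k1
  refine ⟨by rw [hk, pow_one], fun x y => ?_⟩
  have h2 : Nat.card (R ⧸ center R) = p ^ 2 :=
    mul_left_cancel₀ (pow_ne_zero 1 hp.ne_zero) (by rw [e]; ring)
  rw [← QuotientGroup.eq_one_iff, ← QuotientGroup.mk'_apply, map_commutatorElement,
    commutatorElement_eq_one_iff_mul_comm]
  exact (IsPGroup.isMulCommutative_of_card_eq_prime_sq h2).is_comm.comm _ _

theorem pe1_log (hp : p.Prime) {z : X} (oz : orderOf z = p) : ∃ ℓ : X → ZMod p,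
    (∀ u ∈ zpowers z, z ^ (ℓ u).val = u) ∧
      (∀ u ∈ zpowers z, ∀ v ∈ zpowers z, ℓ (u * v) = ℓ u + ℓ v) ∧ ℓ z = 1 ∧ ℓ 1 = 0 := by
  have := Fact.mk hp
  have inj : Function.Injective fun c : ZMod p => z ^ c.val := fun a b e => by
    have e' := pow_eq_pow_iff_modEq.1 e
    rw [oz, ← ZMod.natCast_eq_natCast_iff, ZMod.natCast_zmod_val, ZMod.natCast_zmod_val] at e'
    exact e'
  have md : ∀ n : ℕ, z ^ (n % p) = z ^ n := fun n => by rw [← oz, pow_mod_orderOf]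
  have sj : ∀ u ∈ zpowers z, z ^ (Function.invFun (fun c : ZMod p => z ^ c.val) u).val = u := fun u hu => by
    obtain ⟨n, rfl⟩ := mem_powers_iff_mem_zpowers.2 hu
    exact Function.invFun_eq (f := fun c : ZMod p => z ^ c.val) ⟨n, by simp only [ZMod.val_natCast, md]⟩
  refine ⟨_, sj, fun u hu v hv => inj ?_, inj ?_, inj ?_⟩
  · simp only [ZMod.val_add, md, pow_add, sj _ hu, sj _ hv, sj _ (mul_mem hu hv)]
  · simp only [sj _ (mem_zpowers z), ZMod.val_one, pow_one]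
  · simp only [sj _ (one_mem _), ZMod.val_zero, pow_zero]

theorem pe1_pow {M : Type*} [AddCommGroup M] {R : Subgroup X} {f : X → M}
    (hf : ∀ x ∈ R, ∀ y ∈ R, f (x * y) = f x + f y) {x : X} (hx : x ∈ R) (n : ℕ) : f (x ^ n) = n • f x := by
  induction n with
  | zero =>
    have := hf 1 (one_mem R) 1 (one_mem R)
    rw [mul_one, left_eq_add] at this
    rw [pow_zero, this, zero_smul]
  | succ n ih => rw [pow_succ, hf _ (pow_mem hx n) _ hx, ih, succ_nsmul]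

theorem pe1_ex (hp : p.Prime) {R : Subgroup X} (card : Nat.card R = p ^ 3) (exp : ∀ x ∈ R, x ^ p = 1)
    {z x0 y0 : X} (oz : orderOf z = p) (zc : ∀ x, x ∈ zpowers z ↔ x ∈ R ∧ x ∈ centralizer (R : Set X))
    (hc : ∀ x ∈ R, ∀ y ∈ R, ⁅x, y⁆ ∈ zpowers z) (hx : x0 ∈ R) (hy : y0 ∈ R) (h0 : ⁅x0, y0⁆ = z) :
    Nonempty (Ex p X) := by
  have := Fact.mk hp
  obtain ⟨ℓ, l1, l2, l3, l4⟩ := pe1_log hp oz
  have zR : ∀ {u}, u ∈ zpowers z → u ∈ R := fun k => ((zc _).1 k).1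
  have zC : ∀ {u x}, u ∈ zpowers z → x ∈ R → x * u = u * x := fun k k' => ((zc _).1 k).2 _ k'
  have bl : ∀ y ∈ R, ∀ x ∈ R, ∀ x' ∈ R, ℓ ⁅x * x', y⁆ = ℓ ⁅x, y⁆ + ℓ ⁅x', y⁆ := fun y hy x hx x' hx' => by
    rw [commutatorElement_mul_left_eq_conj_mul, zC (hc _ hx' _ hy) hx, mul_inv_cancel_right,
      l2 _ (hc _ hx' _ hy) _ (hc _ hx _ hy), add_comm]
  have ba : ∀ x ∈ R, ∀ y ∈ R, ℓ ⁅y, x⁆ = -ℓ ⁅x, y⁆ := fun x hx y hy => by
    rw [eq_neg_iff_add_eq_zero, ← l2 _ (hc _ hy _ hx) _ (hc _ hx _ hy), ← commutatorElement_inv, inv_mul_cancel, l4]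
  have bz : ∀ u ∈ zpowers z, ∀ y ∈ R, ℓ ⁅u, y⁆ = 0 := fun u hu y hy => by
    rw [commutatorElement_eq_one_iff_mul_comm.2 (zC hu hy).symm, l4]
  obtain ⟨κ, hκ⟩ : ∃ κ : X → Fin 2 → ZMod p, ∀ x, κ x = ![ℓ ⁅x, y0⁆, -ℓ ⁅x, x0⁆] := ⟨_, fun _ => rfl⟩
  have km : ∀ x ∈ R, ∀ y ∈ R, κ (x * y) = κ x + κ y := fun x hx' y hy' => by
    rw [hκ, hκ, hκ, bl _ hy _ hx' _ hy', bl _ hx _ hx' _ hy', neg_add]
    simp
  have kz : ∀ u ∈ zpowers z, κ u = 0 := fun u hu => by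
    rw [hκ, bz _ hu _ hy, bz _ hu _ hx]
    simp
  have kx : κ x0 = ![1, 0] := by rw [hκ, h0, l3, commutatorElement_self, l4, neg_zero]
  have ky : κ y0 = ![0, 1] := by rw [hκ, commutatorElement_self, l4, ba _ hx _ hy, h0, l3, neg_neg]
  have wR : ∀ v : Fin 2 → ZMod p, x0 ^ (v 0).val * y0 ^ (v 1).val ∈ R := fun v =>
    mul_mem (pow_mem hx _) (pow_mem hy _)
  have kw : ∀ v : Fin 2 → ZMod p, κ (x0 ^ (v 0).val * y0 ^ (v 1).val) = v := fun v => by
    rw [km _ (pow_mem hx _) _ (pow_mem hy _), pe1_pow km hx, pe1_pow km hy, kx, ky]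
    ext i
    fin_cases i <;> simp
  have kk : ∀ x ∈ R, κ x = 0 ↔ x ∈ zpowers z := fun x hx' => by
    refine ⟨fun e => ?_, kz x⟩
    let f : R →* Multiplicative (Fin 2 → ZMod p) :=
      MonoidHom.mk' (fun x => Multiplicative.ofAdd (κ x)) fun a b => congrArg _ (km _ a.2 _ b.2)
    have fs : Function.Surjective f := fun v => ⟨⟨_, wR v.toAdd⟩, congrArg Multiplicative.ofAdd (kw _)⟩
    have c1 := f.ker.card_mul_index
    rw [index_ker, MonoidHom.range_eq_top.2 fs, card_top, Nat.card_congr Multiplicative.toAdd, Nat.card_fun,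
      Nat.card_zmod, Nat.card_fin, card, pow_succ' p 2, mul_left_inj' (pow_ne_zero 2 hp.ne_zero)] at c1
    have c2 : (zpowers z).subgroupOf R = f.ker :=
      eq_of_le_of_card_ge (fun u hu => congrArg Multiplicative.ofAdd (kz _ hu))
        (by rw [c1, Nat.card_congr (subgroupOfEquivOfLe fun u => zR).toEquiv, Nat.card_zpowers, oz])
    exact (c2.ge (show (⟨x, hx'⟩ : R) ∈ f.ker from congrArg Multiplicative.ofAdd e) :)
  have dc : ∀ x ∈ R, ∃ u ∈ zpowers z, x = x0 ^ (κ x 0).val * y0 ^ (κ x 1).val * u := fun x hx' => by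
    refine ⟨(x0 ^ (κ x 0).val * y0 ^ (κ x 1).val)⁻¹ * x, (kk _ (mul_mem (inv_mem (wR _)) hx')).1 ?_,
      (mul_inv_cancel_left _ _).symm⟩
    have := km _ (wR (κ x)) _ (mul_mem (inv_mem (wR (κ x))) hx')
    rwa [mul_inv_cancel_left, kw, left_eq_add] at this
  have cm : ∀ x ∈ R, ∀ y ∈ R, ⁅x, y⁆ = z ^ (κ x 0 * κ y 1 - κ x 1 * κ y 0).val := fun x hx' y hy' => by
    obtain ⟨u, hu, e⟩ := dc x hx'
    rw [← l1 _ (hc _ hx' _ hy')]
    congr 2
    conv_lhs => rw [e]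
    rw [bl _ hy' _ (wR _) _ (zR hu), bz _ hu _ hy', bl _ hy' _ (pow_mem hx _) _ (pow_mem hy _),
      pe1_pow (f := fun x => ℓ ⁅x, y⁆) (bl _ hy') hx, pe1_pow (f := fun x => ℓ ⁅x, y⁆) (bl _ hy') hy,
      ba _ hy' _ hx, ba _ hy' _ hy, hκ y]
    simp [sub_eq_add_neg]
  have nR : ∀ (g : normalizer (R : Set X)), ∀ x ∈ R, g * x * (g : X)⁻¹ ∈ R := fun g x hx' =>
    (mem_normalizer_iff.1 g.2 x).1 hx'
  have nz : ∀ (g : normalizer (R : Set X)), ∀ u ∈ zpowers z, g * u * (g : X)⁻¹ ∈ zpowers z := fun g u hu =>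
    (zc _).2 ⟨nR g _ (zR hu), fun x hx' => by
      have := zC hu (nR g⁻¹ x hx')
      rw [coe_inv, inv_inv] at this
      calc x * (g * u * (g : X)⁻¹) = g * ((g : X)⁻¹ * x * g * u) * (g : X)⁻¹ := by group
        _ = _ := by rw [this]; group⟩
  obtain ⟨M, hM⟩ : ∃ M : X → Matrix (Fin 2) (Fin 2) (ZMod p), ∀ g, M g =
    !![κ (g * x0 * g⁻¹) 0, κ (g * y0 * g⁻¹) 0; κ (g * x0 * g⁻¹) 1, κ (g * y0 * g⁻¹) 1] := ⟨_, fun _ => rfl⟩
  have Mk : ∀ (g : normalizer (R : Set X)), ∀ x ∈ R, κ (g * x * (g : X)⁻¹) = (M g).mulVec (κ x) :=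
    fun g x hx' => by
      obtain ⟨u, hu, e⟩ := dc x hx'
      conv_lhs => rw [e, ← conj_mul, ← conj_mul, ← conj_pow, ← conj_pow]
      rw [km _ (mul_mem (pow_mem (nR g _ hx) _) (pow_mem (nR g _ hy) _)) _ (nR g _ (zR hu)), kz _ (nz g _ hu),
        km _ (pow_mem (nR g _ hx) _) _ (pow_mem (nR g _ hy) _), pe1_pow km (nR g _ hx), pe1_pow km (nR g _ hy), hM,
        ← Nat.cast_smul_eq_nsmul (ZMod p), ← Nat.cast_smul_eq_nsmul (ZMod p), ZMod.natCast_zmod_val,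
        ZMod.natCast_zmod_val]
      ext i
      fin_cases i <;> simp [Matrix.mulVec, dotProduct] <;> ring
  have Me : ∀ A B : Matrix (Fin 2) (Fin 2) (ZMod p), (∀ x ∈ R, A.mulVec (κ x) = B.mulVec (κ x)) → A = B :=
    fun A B k => Matrix.mulVec_injective (funext fun v => by rw [← kw v]; exact k _ (wR v))
  let ψ : normalizer (R : Set X) →* Matrix (Fin 2) (Fin 2) (ZMod p) :=
    { toFun := fun g => M g
      map_one' := Me _ _ fun x hx' => by rw [← Mk _ _ hx']; simp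
      map_mul' := fun a b => Me _ _ fun x hx' => by
        rw [← Matrix.mulVec_mulVec, ← Mk _ _ hx', ← Mk _ _ hx', ← Mk _ _ (nR b _ hx')]
        congr 1
        simp [mul_assoc] }
  have ker : ∀ g : normalizer (R : Set X), ψ.toHomUnits g = 1 ↔ ∀ x ∈ R, κ (g * x * (g : X)⁻¹) = κ x := fun g => by
    rw [Units.ext_iff]
    exact ⟨fun e x hx' => by rw [Mk _ _ hx', show M g = 1 from e, Matrix.one_mulVec],
      fun k => Me _ _ fun x hx' => by
        rw [Units.val_one, Matrix.one_mulVec]; exact (Mk _ _ hx').symm.trans (k x hx')⟩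
  refine ⟨⟨R, z, card, exp, oz, zc, κ, km, kk, fun v => ⟨_, wR v, kw v⟩, cm, ψ.toHomUnits, Mk, fun g => ?_,
    fun g => ⟨fun e => ?_, fun e => ?_⟩⟩⟩
  · rw [show (ψ.toHomUnits g : Matrix (Fin 2) (Fin 2) (ZMod p)) = M g from rfl, hM, Matrix.det_fin_two_of,
      mul_comm (κ (g * y0 * _) 0), ← cm _ (nR g _ hx) _ (nR g _ hy), ← h0, conjugate_commutatorElement]
  · have k := (ker g).1 e
    have mz : ∀ x ∈ R, g * x * (g : X)⁻¹ * x⁻¹ ∈ zpowers z := fun x hx' => by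
      refine (kk _ (mul_mem (nR g _ hx') (inv_mem hx'))).1 ?_
      have := km _ (mul_mem (nR g _ hx') (inv_mem hx')) _ hx'
      rwa [inv_mul_cancel_right, k x hx', right_eq_add] at this
    obtain ⟨r, hr, kr⟩ : ∃ r ∈ R, κ r = ![ℓ (g * y0 * (g : X)⁻¹ * y0⁻¹), -ℓ (g * x0 * (g : X)⁻¹ * x0⁻¹)] :=
      ⟨_, wR _, kw _⟩
    have cj : ∀ {x}, r * x * r⁻¹ * x⁻¹ = g * x * (g : X)⁻¹ * x⁻¹ → Commute x (r⁻¹ * g) := fun {x} e => by
      rw [mul_left_inj] at e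
      calc x * (r⁻¹ * g) = r⁻¹ * (r * x * r⁻¹) * g := by group
        _ = _ := by rw [e]; group
    have c1 : Commute x0 (r⁻¹ * g) := cj (by
      rw [← commutatorElement_def, cm _ hr _ hx, kr, kx, ← l1 _ (mz _ hx)]
      simp [l1 _ (mz _ hx)])
    have c2 : Commute y0 (r⁻¹ * g) := cj (by
      rw [← commutatorElement_def, cm _ hr _ hy, kr, ky]
      simp [l1 _ (mz _ hy)])
    have c3 : Commute z (r⁻¹ * g) := h0 ▸ ((c1.mul_left c2).mul_left c1.inv_left).mul_left c2.inv_left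
    rw [← mul_inv_cancel_left r g]
    refine mul_mem_sup hr fun x hx' => ?_
    obtain ⟨u, ⟨n, rfl⟩, e⟩ := dc x hx'
    rw [e]
    exact (((c1.pow_left _).mul_left (c2.pow_left _)).mul_left (c3.zpow_left n)).eq
  · have : R ⊔ centralizer (R : Set X) ≤ ψ.toHomUnits.ker.map (normalizer (R : Set X)).subtype :=
      sup_le (fun r hr => ⟨⟨r, le_normalizer hr⟩, (ker _).2 fun x hx' => by
          have := km _ (mul_mem (mul_mem hr hx') (inv_mem hr)) _ hr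
          rw [inv_mul_cancel_right, km _ hr _ hx', add_comm, add_left_inj] at this
          exact this.symm, rfl⟩)
        fun c hc' => ⟨⟨c, centralizer_le_normalizer _ hc'⟩, (ker _).2 fun x hx' => by
          rw [← hc' x hx', mul_inv_cancel_right], rfl⟩
    obtain ⟨g', h1, h2⟩ := this e
    exact (Subtype.ext h2 : g' = g) ▸ h1

theorem PL.ab_or_ex (h : PL p X) : (∃ R : Subgroup X, Ab p R) ∨ Nonempty (Ex p X) := by
  have hp := h.prime
  have := Fact.mk hp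
  obtain ⟨R, hR⟩ := Sylow.exists_subgroup_card_pow_prime p h.d3
  have exp : ∀ x ∈ R, x ^ p = 1 := fun x hx => by
    obtain ⟨k, k0, hk⟩ := IsPGroup.card_center_eq_prime_pow hR (by norm_num)
    obtain ⟨c, hc⟩ := exists_prime_orderOf_dvd_card' (G := center R) p (hk ▸ dvd_pow_self p k0.ne')
    have c1 : Commute (c.1.1 : X) x := (congrArg Subtype.val (mem_center_iff.1 c.2 ⟨x, hx⟩)).symm
    have d : orderOf x ∣ p ^ 3 := hR ▸ orderOf_dvd_natCard R hx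
    rw [← orderOf_dvd_iff_pow_eq_one]
    rcases h.cen _ x (by rw [orderOf_coe, orderOf_coe, hc]) c1 with e | e <;>
      rw [← orderOf_dvd_iff_pow_eq_one] at e <;> have := Nat.dvd_gcd d e <;>
      rcases h.p57 with rfl | rfl <;> exact this
  by_cases hn : IsMulCommutative R
  · exact Or.inl ⟨R, hR, fun x hx y hy => congrArg Subtype.val (hn.is_comm.comm ⟨x, hx⟩ ⟨y, hy⟩), exp⟩
  obtain ⟨c1, c2⟩ := pe1_center hR hn
  obtain ⟨x0, y0, h0⟩ : ∃ x0 y0 : R, ⁅x0, y0⁆ ≠ 1 := by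
    by_contra k
    push Not at k
    exact hn ⟨⟨fun a b => commutatorElement_eq_one_iff_mul_comm.1 (k a b)⟩⟩
  have oz : orderOf ⁅x0, y0⁆ = p := orderOf_eq_prime (Subtype.ext (exp _ ⁅x0, y0⁆.2)) h0
  have e : zpowers ⁅x0, y0⁆ = center R :=
    eq_of_le_of_card_ge (zpowers_le.2 (c2 _ _)) (by rw [c1, Nat.card_zpowers, oz])
  have zc : ∀ x, x ∈ zpowers ((⁅x0, y0⁆ : R) : X) ↔ x ∈ R ∧ x ∈ centralizer (R : Set X) := fun x => by
    rw [← coe_subtype, ← MonoidHom.map_zpowers, e]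
    exact ⟨fun ⟨u, hu, k⟩ => k ▸ ⟨u.2, fun y hy => congrArg Subtype.val (mem_center_iff.1 hu ⟨y, hy⟩)⟩,
      fun k => ⟨⟨x, k.1⟩, mem_center_iff.2 fun y => Subtype.ext (k.2 _ y.2), rfl⟩⟩
  exact Or.inr (pe1_ex hp hR exp (by rw [orderOf_coe, oz]) zc (fun x hx y hy => (zc _).2
    ⟨(⁅(⟨x, hx⟩ : R), (⟨y, hy⟩ : R)⁆).2, fun w hw => congrArg Subtype.val (mem_center_iff.1 (c2 ⟨x, hx⟩ ⟨y, hy⟩) ⟨w, hw⟩)⟩)
    x0.2 y0.2 rfl)

end Cfsg.Agent.SpS
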