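import Mathlib
import Cfsg.Agent.SpS.Defs
import Cfsg.Agent.SpS.Defs2

/-! Subgroups of `GL₂(7)` (S3586/S3535, piece G7). -/

set_option autoImplicit false
set_option linter.unusedSectionVars false
set_option linter.unusedVariables false
set_option synthInstance.maxSize 100000
set_option maxRecDepth 100000

namespace Cfsg.Agent.SpS

open Subgroup

variable {G X : Type*} [Group G] [Finite G] [Group X] [Finite X] {p : ℕ}

namespace G7

open Matrix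

/-- Matrices. -/
abbrev Mt := Matrix (Fin 2) (Fin 2) (ZMod 7)
/-- The group. -/
abbrev GG := GL (Fin 2) (ZMod 7)
/-- Vectors. -/
abbrev Vc := Fin 2 → ZMod 7

theorem d1 : ∀ l : ZMod 7, (l = 3 ∨ l = 5) → ∀ a b c d : ZMod 7, a * d - b * c = l → ∀ x y : ZMod 7,
    l * (a * x + b * y) = x → l * (c * x + d * y) = y → (x ≠ 0 ∨ y ≠ 0) →
    ∃ p q : ZMod 7, a * p + b * q = l * l * p ∧ c * p + d * q = l * l * q ∧ x * q - p * y ≠ 0 := by
  decide +kernel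

theorem d2 : ∀ a b c d : ZMod 7, a * d - b * c = 1 → !![a, b; c, d] * !![a, b; c, d] * !![a, b; c, d] = 1 →
    !![a, b; c, d] = 1 ∨ (a + d = -1 ∧ !![a, b; c, d] * !![a, b; c, d] = -!![a, b; c, d] - 1) := by
  decide +kernel

theorem d3 : ∀ a b c d : ZMod 7, a * d - b * c = 1 → !![a, b; c, d] * !![a, b; c, d] = 1 →
    !![a, b; c, d] = 1 ∨ !![a, b; c, d] = -1 := by
  decide +kernel

theorem cube {m : Mt} (hd : m.det = 1) (h : m * m * m = 1) : m = 1 ∨ (m.trace = -1 ∧ m * m = -m - 1) := by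
  rw [det_fin_two] at hd
  rw [trace_fin_two]
  have := d2 _ _ _ _ hd
  rw [← eta_fin_two] at this
  exact this h

theorem sq {m : Mt} (hd : m.det = 1) (h : m * m = 1) : m = 1 ∨ m = -1 := by
  rw [det_fin_two] at hd
  have := d3 _ _ _ _ hd
  rw [← eta_fin_two] at this
  exact this h

/-- The elements of determinant one. -/
def S1 (A : Subgroup GG) : Set GG := {N | N ∈ A ∧ (mt N).det = 1}

variable {A : Subgroup GG}

theorem S1_mul {a b : GG} (ha : a ∈ S1 A) (hb : b ∈ S1 A) : a * b ∈ S1 A :=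
  ⟨mul_mem ha.1 hb.1, by rw [mt, Units.val_mul, det_mul, ha.2, hb.2, one_mul]⟩

theorem S1_one : (1 : GG) ∈ S1 A := ⟨one_mem _, by simp⟩

theorem tri (h : GE 7 A) {g : GG} (hg : g ∈ S1 A) :
    g = 1 ∨ g = -1 ∨ (g * g * g = 1 ∧ (mt g).trace = -1 ∧ mt g * mt g = -mt g - 1) := by
  rcases h.det g hg.1 hg.2 with e | e
  · rw [pow_two] at e
    rcases sq hg.2 (congrArg Units.val e) with o | o
    · exact Or.inl (Units.ext o)
    · exact Or.inr (Or.inl (Units.ext o))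
  · rw [pow_three'] at e
    rcases cube hg.2 (congrArg Units.val e) with o | o
    · exact Or.inl (Units.ext o)
    · exact Or.inr (Or.inr ⟨e, o⟩)

theorem neg_ne : (-1 : GG) ≠ 1 := fun h => absurd (congrArg Units.val h) (by decide)

theorem cls (h : GE 7 A) : S1 A = {1} ∨ S1 A = {1, -1} ∨
    ∃ g, g * g * g = 1 ∧ g ≠ 1 ∧ (mt g).trace = -1 ∧ S1 A = {1, g, g * g} := by
  by_cases hx : ∃ g ∈ S1 A, g ≠ 1 ∧ g ≠ -1
  · obtain ⟨g, hg, g1, g2⟩ := hx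
    obtain ⟨g3, gt, -⟩ := ((tri h hg).resolve_left g1).resolve_left g2
    have nn : -1 ∉ S1 A := fun hn => by
      rcases tri h (S1_mul hn hg) with e | e | ⟨e, -⟩
      · exact g2 (by rw [← e]; simp)
      · exact g1 (by simpa using e)
      · have : -1 * g * (-1 * g) * (-1 * g) = -(g * g * g) := by simp
        rw [this, g3] at e
        exact neg_ne e
    have tr : ∀ a ∈ S1 A, a = 1 ∨ (a * a * a = 1 ∧ (mt a).trace = -1 ∧ mt a * mt a = -mt a - 1) := fun a ha =>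
      (tri h ha).imp_right fun o => o.resolve_left fun e => nn (e ▸ ha)
    refine Or.inr (Or.inr ⟨g, g3, g1, gt, Set.Subset.antisymm (fun a ha => ?_) ?_⟩)
    · rcases tr a ha with e | ⟨a3, -, aa⟩
      · exact Or.inl e
      rcases tr _ (S1_mul hg ha) with e | ⟨-, t1, -⟩
      · refine Or.inr (Or.inr ?_)
        exact mul_left_cancel (a := g) (e.trans (by rw [← mul_assoc, g3]))
      rcases tr _ (S1_mul hg (S1_mul ha ha)) with e | ⟨-, t2, -⟩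
      · refine Or.inr (Or.inl ?_)
        exact mul_right_cancel (b := a * a) ((by rw [← mul_assoc, a3] : a * (a * a) = 1).trans e.symm)
      · simp only [mt, Units.val_mul] at t1 t2 aa gt
        rw [aa, mul_sub, mul_neg, mul_one, trace_sub, trace_neg, t1, gt] at t2
        exact absurd t2 (by decide)
    · rintro a (rfl | rfl | rfl)
      exacts [S1_one, hg, S1_mul hg hg]
  · push Not at hx
    by_cases hn : -1 ∈ S1 A
    · refine Or.inr (Or.inl (Set.Subset.antisymm (fun a ha => ?_) ?_))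
      · exact (eq_or_ne a 1).imp_right (hx a ha)
      · rintro a (rfl | rfl)
        exacts [S1_one, hn]
    · refine Or.inl (Set.Subset.antisymm (fun a ha => ?_) ?_)
      · by_contra o
        exact hn (hx a ha o ▸ ha)
      · rintro a rfl
        exact S1_one

theorem ncard3 {g : GG} (g3 : g * g * g = 1) (g1 : g ≠ 1) : ({1, g, g * g} : Set GG).ncard = 3 :=
  Set.ncard_eq_three.2 ⟨_, _, _, g1.symm, fun e => g1 (by rw [← e, one_mul] at g3; exact g3),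
    fun e => g1 (by simpa using e), rfl⟩

/-- The determinant on `A`. -/
def dA (A : Subgroup GG) : A →* (ZMod 7)ˣ := GeneralLinearGroup.det.comp A.subtype

theorem card_eq (A : Subgroup GG) : Nat.card A = (S1 A).ncard * Nat.card (dA A).range := by
  have e : S1 A = ((dA A).ker.map A.subtype : Subgroup GG) := by
    ext N
    constructor
    · rintro ⟨h1, h2⟩
      exact ⟨⟨N, h1⟩, Units.ext h2, rfl⟩
    · rintro ⟨N, h1, rfl⟩
      exact ⟨N.2, congrArg Units.val h1⟩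
  rw [← (dA A).ker.card_mul_index, index_ker, e, ← Nat.card_coe_set_eq]
  congr 1
  exact (card_map_of_injective A.subtype_injective).symm

theorem f7 : Fact (Nat.Prime 7) := ⟨by norm_num⟩

theorem range_dvd (A : Subgroup GG) : Nat.card (dA A).range ∣ 6 := by
  have := f7
  have := card_subgroup_dvd_card (dA A).range
  rwa [Nat.card_eq_fintype_card (α := (ZMod 7)ˣ), ZMod.card_units] at this

/-- A decidable form of `Tor`. -/
def T (m : Mt) (w : Vc) : Prop :=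
  ((m 0 0 * m 1 1 - m 0 1 * m 1 0 = 3 ∧ m *ᵥ w = (5 : ZMod 7) • w) ∨
    (m 0 0 * m 1 1 - m 0 1 * m 1 0 = 5 ∧ m *ᵥ w = (3 : ZMod 7) • w)) ∧ w ≠ 0

instance decT (m : Mt) (w : Vc) : Decidable (T m w) := by unfold T; infer_instance

theorem ord6 {l : (ZMod 7)ˣ} : orderOf l = 6 ↔ (l : ZMod 7) = 3 ∨ (l : ZMod 7) = 5 := by
  rw [orderOf_eq_iff (by norm_num)]
  revert l
  decide +kernel

theorem tor_iff {N : GG} {w : Vc} : Tor N w ↔ T (mt N) w := by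
  rw [T, ← det_fin_two, and_comm]
  refine and_congr_right fun _ => ⟨?_, ?_⟩
  · rintro ⟨l, h1, h2, h3⟩
    rw [Units.smul_def] at h3
    rcases ord6.1 h1 with e | e
    · exact Or.inl ⟨h2.trans e, by rw [h3, Units.inv_eq_of_mul_eq_one_right (a := 5) (by rw [e]; decide)]⟩
    · exact Or.inr ⟨h2.trans e, by rw [h3, Units.inv_eq_of_mul_eq_one_right (a := 3) (by rw [e]; decide)]⟩
  · rintro (⟨h1, h2⟩ | ⟨h1, h2⟩)
    · exact ⟨⟨3, 5, by decide, by decide⟩, ord6.2 (Or.inl rfl), h1, h2⟩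
    · exact ⟨⟨5, 3, by decide, by decide⟩, ord6.2 (Or.inr rfl), h1, h2⟩

/-- Powers of a diagonal matrix. -/
def Dg (a b : ZMod 7) (j : ℕ) : Mt := !![a ^ j, 0; 0, b ^ j]

theorem Dg_pow (a b : ZMod 7) (j : ℕ) : Dg a b 1 ^ j = Dg a b j := by
  induction j with
  | zero => rw [pow_zero, Dg, pow_zero, pow_zero, one_fin_two]
  | succ j ih => rw [pow_succ, ih]; simp [Dg, pow_succ]

/-- The two diagonal matrices. -/
def Two (a b : ZMod 7) : Prop := (a = 5 ∧ b = 2) ∨ (a = 3 ∧ b = 4)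

theorem ex_iff {M : GG} (hM : M ∈ A) {a b : ZMod 7} (h2 : Two a b) (hD : mt M = Dg a b 1) {L : List Mt}
    (hL : ∀ m, m ∈ L ↔ ∃ n ∈ S1 A, mt n = m) (Φ : Mt → Prop) :
    (∃ N ∈ A, Φ (mt N)) ↔ ∃ n ∈ L, ∃ j < 6, Φ (n * Dg a b j) := by
  have e : ∀ (n : GG) (j : ℕ), mt (n * M ^ j) = mt n * Dg a b j := fun n j => by
    rw [mt, Units.val_mul, Units.val_pow_eq_pow_val, ← Dg_pow, ← hD]
  constructor
  · rintro ⟨N, hN, h⟩
    have k : ∀ x : ZMod 7, x ≠ 0 → ∃ j < 6, x = a ^ j * b ^ j := by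
      rcases h2 with ⟨rfl, rfl⟩ | ⟨rfl, rfl⟩ <;> decide
    have := f7
    obtain ⟨j, hj, hx⟩ := k _ (GeneralLinearGroup.det_ne_zero N)
    have e1 := e (N * (M ^ j)⁻¹) j
    rw [inv_mul_cancel_right] at e1
    refine ⟨_, (hL _).2 ⟨N * (M ^ j)⁻¹, ⟨mul_mem hN (inv_mem (pow_mem hM j)), ?_⟩, rfl⟩, j, hj, e1 ▸ h⟩
    have e2 := congrArg det e1
    rw [det_mul, Dg, det_fin_two_of, mul_zero, sub_zero, ← hx] at e2
    exact mul_right_cancel₀ (GeneralLinearGroup.det_ne_zero N) (e2.symm.trans (one_mul _).symm)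
  · rintro ⟨m, hm, j, -, h⟩
    obtain ⟨n, hn, rfl⟩ := (hL _).1 hm
    exact ⟨n * M ^ j, mul_mem hn.1 (pow_mem hM j), e n j ▸ h⟩

/-- A decidable form of `TV`. -/
def TL (L : List Mt) (a b : ZMod 7) (w : Vc) : Prop := ∃ n ∈ L, ∃ j < 6, T (n * Dg a b j) w

instance decTL (L : List Mt) (a b : ZMod 7) (w : Vc) : Decidable (TL L a b w) := by unfold TL; infer_instance

theorem c1 {a b : ZMod 7} (h : Two a b) : ∀ w, TL [1] a b w → ∃ c : ZMod 7, w = c • ![1, 0] := by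
  rcases h with ⟨rfl, rfl⟩ | ⟨rfl, rfl⟩ <;> decide +kernel

theorem c2 {a b : ZMod 7} (h : Two a b) : (Finset.univ.filter (TL [1, -1] a b)).card ≤ 12 := by
  rcases h with ⟨rfl, rfl⟩ | ⟨rfl, rfl⟩ <;> decide +kernel

theorem c3 {a b : ZMod 7} (h : Two a b) : ∀ x u : ZMod 7, x + u = -1 → ∀ y z : ZMod 7, x * u - y * z = 1 →
    (Dg a b 1 * !![x, y; z, u] = !![x, y; z, u] * Dg a b 1 ∨
      Dg a b 1 * !![x, y; z, u] = !![x, y; z, u] * !![x, y; z, u] * Dg a b 1) →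
    (x = 3 ∧ u = 3 ∧ y * z = 1) ∨ ∃ n ∈ [1, !![x, y; z, u], !![x, y; z, u] * !![x, y; z, u]], ∃ j < 6,
      (n * Dg a b j) *ᵥ ![0, 1] = ![0, 1] ∧ (n * Dg a b j) ^ 2 ≠ 1 ∧ (n * Dg a b j) ^ 3 ≠ 1 := by
  rcases h with ⟨rfl, rfl⟩ | ⟨rfl, rfl⟩ <;> decide +kernel

theorem c4 {a b : ZMod 7} (h : Two a b) : ∀ y z : ZMod 7, y * z = 1 → ∀ L : List Mt,
    L = [1, !![3, y; z, 3], !![3, y; z, 3] * !![3, y; z, 3]] → (Finset.univ.filter (TL L a b)).card = 18 ∧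
    (∀ w, TL L a b w → ∃ n ∈ L, ∃ j < 6, ∃ c : ZMod 7, w = c • (n * Dg a b j) *ᵥ ![1, 0]) ∧
    ∀ w, w ≠ 0 → ¬ TL L a b w → ∃ n ∈ L, ∃ j < 6, (n * Dg a b j) *ᵥ w = w ∧
      (n * Dg a b j) 0 0 * (n * Dg a b j) 1 1 - (n * Dg a b j) 0 1 * (n * Dg a b j) 1 0 ≠ 1 := by
  rintro y z hyz _ rfl
  revert y z
  rcases h with ⟨rfl, rfl⟩ | ⟨rfl, rfl⟩ <;> decide +kernel

/-- The three cases. -/
def Cn (A : Subgroup GG) (v : Vc) : Prop :=
  (Nat.card A = 6 ∧ TV A ⊆ Ln v) ∨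
    (Nat.card A = 12 ∧ (∃ N ∈ A, (mt N).det = 1 ∧ orderOf N = 2) ∧ Set.ncard (TV A) ≤ 12) ∨
    (Nat.card A = 18 ∧ Set.ncard (TV A) = 18 ∧
      (∀ w ∈ TV A, ∃ N ∈ A, w ∈ Ln ((mt N).mulVec v)) ∧
      ∀ w, w ≠ 0 → w ∉ TV A → ∃ N ∈ A, (mt N).mulVec w = w ∧ (mt N).det ≠ 1)

theorem std (h : GE 7 A) {M : GG} (hM : M ∈ A) {a b : ZMod 7} (h2 : Two a b) (hD : mt M = Dg a b 1) :
    Cn A ![1, 0] := by
  have r6 : Nat.card (dA A).range = 6 := by
    refine Nat.dvd_antisymm (range_dvd A) ?_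
    have o : orderOf (dA A ⟨M, hM⟩) = 6 := by
      refine ord6.2 ?_
      change (mt M).det = 3 ∨ (mt M).det = 5
      rw [hD, Dg, det_fin_two_of]
      rcases h2 with ⟨rfl, rfl⟩ | ⟨rfl, rfl⟩ <;> decide
    rw [← o]
    exact orderOf_dvd_natCard _ ⟨_, rfl⟩
  have cA := card_eq A
  rw [r6] at cA
  have tv : ∀ {L : List Mt}, (∀ m, m ∈ L ↔ ∃ n ∈ S1 A, mt n = m) → ∀ w, w ∈ TV A ↔ TL L a b w := fun hL w => by
    simp only [TV, Set.mem_ofPred_eq, tor_iff]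
    exact ex_iff hM h2 hD hL fun m => T m w
  have nc : ∀ {L : List Mt}, (∀ m, m ∈ L ↔ ∃ n ∈ S1 A, mt n = m) →
      (TV A).ncard = (Finset.univ.filter (TL L a b)).card := fun hL => by
    rw [← Set.ncard_coe_finset]
    congr 1
    ext w
    simp [tv hL]
  rcases cls h with e | e | ⟨g, g3, g1, gt, e⟩
  · have hL : ∀ m, m ∈ [(1 : Mt)] ↔ ∃ n ∈ S1 A, mt n = m := fun m => by simp [e, eq_comm]
    refine Or.inl ⟨by rw [cA, e, Set.ncard_singleton], fun w hw => c1 h2 w ((tv hL w).1 hw)⟩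
  · have hL : ∀ m, m ∈ [(1 : Mt), -1] ↔ ∃ n ∈ S1 A, mt n = m := fun m => by simp [e, eq_comm]
    have hn : -1 ∈ S1 A := by rw [e]; simp
    refine Or.inr (Or.inl ⟨by rw [cA, e, Set.ncard_pair neg_ne.symm], ⟨-1, hn.1, hn.2, ?_⟩, nc hL ▸ c2 h2⟩)
    exact orderOf_eq_prime (by simp) neg_ne
  · have hL : ∀ m, m ∈ [(1 : Mt), mt g, mt g * mt g] ↔ ∃ n ∈ S1 A, mt n = m := fun m => by simp [e, eq_comm]
    have hg : g ∈ S1 A := by rw [e]; simp
    have hc : M * g * M⁻¹ ∈ S1 A := ⟨mul_mem (mul_mem hM hg.1) (inv_mem hM), (det_units_conj M _).trans hg.2⟩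
    have hc' : mt M * mt g = mt g * mt M ∨ mt M * mt g = mt g * mt g * mt M := by
      rw [e] at hc
      rcases hc with o | o | o
      · exact absurd (by simpa using o) g1
      · exact Or.inl (congrArg Units.val (mul_inv_eq_iff_eq_mul.1 o))
      · exact Or.inr (congrArg Units.val (mul_inv_eq_iff_eq_mul.1 o))
    have hd := hg.2
    rw [det_fin_two] at hd
    rw [trace_fin_two] at gt
    have k := c3 h2 _ _ gt _ _ hd
    rw [← eta_fin_two, ← hD] at k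
    rcases k hc' with ⟨o1, o2, o3⟩ | k
    · obtain ⟨k1, k2, k3⟩ := c4 h2 _ _ o3 [1, mt g, mt g * mt g]
        (by rw [← o1]; nth_rw 2 4 6 [o1.trans o2.symm]; rw [← eta_fin_two])
      refine Or.inr (Or.inr ⟨by rw [cA, e, ncard3 g3 g1], (nc hL).trans k1, fun w hw => ?_, fun w w0 hw => ?_⟩)
      · exact (ex_iff hM h2 hD hL fun m => ∃ c : ZMod 7, w = c • m *ᵥ ![1, 0]).2 (k2 w ((tv hL w).1 hw))
      · simp only [det_fin_two]
        exact (ex_iff hM h2 hD hL fun m => m *ᵥ w = w ∧ m 0 0 * m 1 1 - m 0 1 * m 1 0 ≠ 1).2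
          (k3 w w0 fun o => hw ((tv hL w).2 o))
    · obtain ⟨N, hN, n1, n2, n3⟩ :=
        (ex_iff hM h2 hD hL fun m => m *ᵥ ![0, 1] = ![0, 1] ∧ m ^ 2 ≠ 1 ∧ m ^ 3 ≠ 1).2 k
      rcases h.eig N hN _ (by decide) n1 with o | o
      · exact absurd (congrArg Units.val o) n2
      · exact absurd (congrArg Units.val o) n3

/-- The conjugate subgroup. -/
def cA (A : Subgroup GG) (P : GG) : Subgroup GG := A.comap (MulAut.conj P).toMonoidHom

variable {P N : GG} {w u : Vc}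

theorem mem_cA : N ∈ cA A P ↔ P * N * P⁻¹ ∈ A := Iff.rfl

theorem card_cA : Nat.card (cA A P) = Nat.card A :=
  Nat.card_congr ((MulAut.conj P).toEquiv.subtypeEquiv fun _ => Iff.rfl)

theorem mv (P N : GG) (w : Vc) : mt (P * N * P⁻¹) *ᵥ (mt P *ᵥ w) = mt P *ᵥ (mt N *ᵥ w) := by
  rw [mulVec_mulVec, mulVec_mulVec, mt, mt, mt, ← Units.val_mul, inv_mul_cancel_right, Units.val_mul]

theorem dc (P N : GG) : (mt (P * N * P⁻¹)).det = (mt N).det := det_units_conj P _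

theorem sur (P : GG) (w : Vc) : mt P *ᵥ (mt P⁻¹ *ᵥ w) = w := by
  rw [mulVec_mulVec, mt, mt, Units.mul_inv, one_mulVec]

theorem inj (P : GG) : Function.Injective fun w : Vc => mt P *ᵥ w := fun a b h => by
  have := congrArg (fun w => mt P⁻¹ *ᵥ w) h
  simpa only [mulVec_mulVec, mt, Units.inv_mul, one_mulVec] using this

theorem ne0 : mt P *ᵥ w ≠ 0 ↔ w ≠ 0 := by
  rw [← mulVec_zero (mt P)]
  exact (inj P).ne_iff

theorem ge_cA (h : GE 7 A) : GE 7 (cA A P) := by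
  have k : ∀ N : GG, (P * N * P⁻¹) ^ 2 = 1 ∨ (P * N * P⁻¹) ^ 3 = 1 → N ^ 2 = 1 ∨ N ^ 3 = 1 := fun N o => by
    simpa only [conj_pow, conj_eq_one_iff] using o
  exact ⟨by rw [card_cA]; exact h.cop, fun N hN v v0 hv => k N (h.eig _ (mem_cA.1 hN) (mt P *ᵥ v) (ne0.2 v0) (by rw [mv, hv])),
    fun N hN hd => k N (h.det _ (mem_cA.1 hN) ((dc P N).trans hd))⟩

theorem tor_cj : Tor (P * N * P⁻¹) (mt P *ᵥ w) ↔ Tor N w := by
  refine and_congr ne0 (exists_congr fun l => and_congr_right fun _ => and_congr (by rw [dc]) ?_)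
  rw [mv, Units.smul_def, Units.smul_def, ← mulVec_smul]
  exact ⟨fun h => inj P h, fun h => congrArg (fun w => mt P *ᵥ w) h⟩

theorem tv_cj : mt P *ᵥ w ∈ TV A ↔ w ∈ TV (cA A P) := by
  constructor
  · rintro ⟨N, hN, h⟩
    have e : P * (P⁻¹ * N * P) * P⁻¹ = N := by group
    exact ⟨P⁻¹ * N * P, by rw [mem_cA, e]; exact hN, tor_cj.1 (by rw [e]; exact h)⟩
  · rintro ⟨N, hN, h⟩
    exact ⟨_, hN, tor_cj.2 h⟩

theorem ln_cj (h : w ∈ Ln u) : mt P *ᵥ w ∈ Ln (mt P *ᵥ u) := by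
  obtain ⟨c, rfl⟩ := h
  exact ⟨c, mulVec_smul _ _ _⟩

theorem ncard_cj : (TV A).ncard = (TV (cA A P)).ncard := by
  rw [← Set.ncard_image_of_injective (TV (cA A P)) (inj P)]
  congr 1
  ext w
  constructor
  · intro h
    exact ⟨_, tv_cj.1 (by rw [sur]; exact h), sur P w⟩
  · rintro ⟨w, h, rfl⟩
    exact tv_cj.2 h

theorem cn_cj (h : Cn (cA A P) u) : Cn A (mt P *ᵥ u) := by
  rcases h with ⟨h1, h2⟩ | ⟨h1, ⟨N, hN, h2, h3⟩, h4⟩ | ⟨h1, h2, h3, h4⟩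
  · refine Or.inl ⟨card_cA.symm.trans h1, fun w hw => ?_⟩
    rw [← sur P w] at hw ⊢
    exact ln_cj (h2 (tv_cj.1 hw))
  · refine Or.inr (Or.inl ⟨card_cA.symm.trans h1, ⟨_, hN, (dc P N).trans h2, ?_⟩, ncard_cj.trans_le h4⟩)
    exact ((MulAut.conj P).orderOf_eq N).trans h3
  · refine Or.inr (Or.inr ⟨card_cA.symm.trans h1, ncard_cj.trans h2, fun w hw => ?_, fun w w0 hw => ?_⟩)
    · rw [← sur P w] at hw ⊢
      obtain ⟨N, hN, k⟩ := h3 _ (tv_cj.1 hw)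
      exact ⟨_, mem_cA.1 hN, by rw [mv]; exact ln_cj k⟩
    · rw [← sur P w] at w0 hw ⊢
      obtain ⟨N, hN, k1, k2⟩ := h4 _ (ne0.1 w0) fun o => hw (tv_cj.2 o)
      exact ⟨_, mem_cA.1 hN, by rw [mv, k1], by rw [dc]; exact k2⟩

theorem diag {M : GG} {v : Vc} (ht : Tor M v) :
    ∃ (P : GG) (a b : ZMod 7), Two a b ∧ mt (P⁻¹ * M * P) = Dg a b 1 ∧ mt P *ᵥ ![1, 0] = v := by
  obtain ⟨h, v0⟩ := tor_iff.1 ht
  have v1 : v 0 ≠ 0 ∨ v 1 ≠ 0 := by
    by_contra o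
    push Not at o
    exact v0 (funext (Fin.forall_fin_two.2 o))
  have key : ∀ l a : ZMod 7, (l = 3 ∨ l = 5) → l * a = 1 → mt M 0 0 * mt M 1 1 - mt M 0 1 * mt M 1 0 = l →
      mt M *ᵥ v = a • v → ∃ P : GG, mt (P⁻¹ * M * P) = Dg a (l * l) 1 ∧ mt P *ᵥ ![1, 0] = v := by
    intro l a hl la hd hv
    have e0 := congrFun hv 0
    have e1 := congrFun hv 1
    simp only [mulVec, dotProduct, Fin.sum_univ_two, Pi.smul_apply, smul_eq_mul] at e0 e1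
    obtain ⟨p, q, k1, k2, k3⟩ := d1 l hl _ _ _ _ hd (v 0) (v 1) (by rw [e0, ← mul_assoc, la, one_mul])
      (by rw [e1, ← mul_assoc, la, one_mul]) v1
    obtain ⟨r, hr⟩ := (by decide : ∀ x : ZMod 7, x ≠ 0 → ∃ r, x * r = 1) _ k3
    obtain ⟨P, hP⟩ : ∃ P : GG, mt P = !![v 0, p; v 1, q] :=
      ⟨GeneralLinearGroup.mk'' _ (by rw [det_fin_two_of]; exact IsUnit.of_mul_eq_one _ hr), rfl⟩
    refine ⟨P, ?_, ?_⟩
    · have e : mt M * mt P = mt P * Dg a (l * l) 1 := by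
        rw [hP, eta_fin_two (mt M), Dg, mul_fin_two, mul_fin_two, e0, e1, k1, k2]
        simp [mul_comm]
      rw [mul_assoc, mt, Units.val_mul, Units.val_mul, Units.inv_mul_eq_iff_eq_mul]
      exact e
    · rw [hP]
      ext i
      fin_cases i <;> simp [mulVec, dotProduct]
  rcases h with ⟨h1, h2⟩ | ⟨h1, h2⟩
  · obtain ⟨P, k⟩ := key 3 5 (Or.inl rfl) (by decide) h1 h2
    exact ⟨P, _, _, Or.inl ⟨rfl, by decide⟩, k⟩
  · obtain ⟨P, k⟩ := key 5 3 (Or.inr rfl) (by decide) h1 h2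
    exact ⟨P, _, _, Or.inr ⟨rfl, by decide⟩, k⟩

end G7

open G7 Matrix in
theorem GE.tor7 {A : Subgroup (GL (Fin 2) (ZMod 7))} (h : GE 7 A) {M : GL (Fin 2) (ZMod 7)} (hM : M ∈ A)
    {v : Fin 2 → ZMod 7} (ht : Tor M v) : (mt (M ^ 3)).det = -1 ∧ M ^ 6 = 1 ∧
      (∃ u, u ≠ 0 ∧ ∃ c : ZMod 7, c ^ 3 = 1 ∧ (mt M).mulVec u = c • u) ∧
      ((Nat.card A = 6 ∧ TV A ⊆ Ln v) ∨
        (Nat.card A = 12 ∧ (∃ N ∈ A, (mt N).det = 1 ∧ orderOf N = 2) ∧ Set.ncard (TV A) ≤ 12) ∨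
        (Nat.card A = 18 ∧ Set.ncard (TV A) = 18 ∧
          (∀ w ∈ TV A, ∃ N ∈ A, w ∈ Ln ((mt N).mulVec v)) ∧
          ∀ w, w ≠ 0 → w ∉ TV A → ∃ N ∈ A, (mt N).mulVec w = w ∧ (mt N).det ≠ 1)) := by
  obtain ⟨P, a, b, h2, hD, rfl⟩ := diag ht
  have e : P * (P⁻¹ * M * P) * P⁻¹ = M := by group
  generalize P⁻¹ * M * P = M' at hD e
  subst e
  have hp : ∀ j, mt (M' ^ j) = Dg a b j := fun j => by rw [mt, Units.val_pow_eq_pow_val, ← Dg_pow, ← hD]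
  refine ⟨?_, ?_, ⟨mt P *ᵥ ![0, 1], ne0.2 (by decide), b, ?_, ?_⟩, cn_cj (std (ge_cA h) hM h2 hD)⟩
  · rw [conj_pow, dc, hp, Dg, det_fin_two_of]
    rcases h2 with ⟨rfl, rfl⟩ | ⟨rfl, rfl⟩ <;> decide
  · rw [conj_pow, conj_eq_one_iff]
    refine Units.ext ((hp 6).trans ?_)
    rcases h2 with ⟨rfl, rfl⟩ | ⟨rfl, rfl⟩ <;> decide
  · rcases h2 with ⟨rfl, rfl⟩ | ⟨rfl, rfl⟩ <;> decide
  · rw [mv, ← mulVec_smul, hD]
    congr 1
    rcases h2 with ⟨rfl, rfl⟩ | ⟨rfl, rfl⟩ <;> decide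

open G7 in
theorem GE.card7 {A : Subgroup (GL (Fin 2) (ZMod 7))} (h : GE 7 A) :
    ∃ a b : ℕ, Set.ncard {N | N ∈ A ∧ (mt N).det = 1} = a ∧ (a = 1 ∨ a = 2 ∨ a = 3) ∧ b ∣ 6 ∧
      Nat.card A = a * b := by
  refine ⟨_, _, rfl, ?_, range_dvd A, card_eq A⟩
  change (S1 A).ncard = 1 ∨ (S1 A).ncard = 2 ∨ (S1 A).ncard = 3
  rcases cls h with e | e | ⟨g, g3, g1, -, e⟩ <;> rw [e]
  · exact Or.inl (Set.ncard_singleton _)
  · exact Or.inr (Or.inl (Set.ncard_pair neg_ne.symm))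
  · exact Or.inr (Or.inr (ncard3 g3 g1))

end Cfsg.Agent.SpS
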