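import Mathlib
import Cfsg.Agent.SpS.Defs
import Cfsg.Agent.SpS.Defs2
import Cfsg.Agent.SpS.PA

/-! S3586/S3535, piece PE2: the basic API of `Ex`. -/

set_option autoImplicit false
set_option linter.unusedSectionVars false
set_option linter.unusedVariables false

namespace Cfsg.Agent.SpS

open Subgroup

variable {G X : Type*} [Group G] [Finite G] [Group X] [Finite X] {p : ℕ}

theorem Ex.z_mem (E : Ex p X) : E.z ∈ E.R := ((E.zc _).1 (mem_zpowers _)).1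

theorem Ex.comm_z (E : Ex p X) {x : X} (hx : x ∈ E.R) : Commute x E.z :=
  mem_centralizer_iff.1 ((E.zc _).1 (mem_zpowers _)).2 x hx

theorem Ex.ord (E : Ex p X) (hp : p.Prime) {x : X} (hx : x ∈ E.R) (h1 : x ≠ 1) : orderOf x = p :=
  haveI := Fact.mk hp
  orderOf_eq_prime (E.exp x hx) h1

namespace PE2

theorem pw_nat {x : X} (hx : x ^ p = 1) (n : ℕ) : x ^ (n : ZMod p).val = x ^ n := by
  rw [ZMod.val_natCast, ← pow_eq_pow_mod n hx]

theorem pw_add [NeZero p] {x : X} (hx : x ^ p = 1) (a b : ZMod p) : x ^ (a + b).val = x ^ a.val * x ^ b.val := by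
  rw [ZMod.val_add, ← pow_eq_pow_mod _ hx, pow_add]

theorem pw_mul {x : X} (hx : x ^ p = 1) (a b : ZMod p) : x ^ (a * b).val = (x ^ a.val) ^ b.val := by
  rw [ZMod.val_mul, ← pow_eq_pow_mod _ hx, pow_mul]

theorem pw_eq_one [NeZero p] {x : X} (hx : orderOf x = p) {a : ZMod p} (h : x ^ a.val = 1) : a = 0 :=
  (ZMod.val_eq_zero a).1 (Nat.eq_zero_of_dvd_of_lt (hx.symm.dvd.trans (orderOf_dvd_of_pow_eq_one h)) a.val_lt)

variable (E : Ex p X)

theorem κ_z {x : X} (h : x ∈ zpowers E.z) : E.κ x = 0 := (E.κ_ker x ((E.zc x).1 h).1).2 h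

theorem κ_pow {x : X} (hx : x ∈ E.R) (n : ℕ) : E.κ (x ^ n) = (n : ZMod p) • E.κ x := by
  induction n with
  | zero => rw [pow_zero, κ_z E (one_mem _), Nat.cast_zero, zero_smul]
  | succ n ih => rw [pow_succ, E.κ_mul _ (pow_mem hx n) _ hx, ih, Nat.cast_succ, add_smul, one_smul]

theorem κ_inv {x : X} (hx : x ∈ E.R) : E.κ x⁻¹ = -E.κ x :=
  eq_neg_of_add_eq_zero_left (by rw [← E.κ_mul _ (inv_mem hx) _ hx, inv_mul_cancel, κ_z E (one_mem _)])

theorem eq_of_κ {x y : X} (hx : x ∈ E.R) (hy : y ∈ E.R) (h : E.κ x = E.κ y) : ∃ i : ℕ, y = x * E.z ^ i := by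
  obtain ⟨i, hi⟩ := mem_powers_iff_mem_zpowers.2 ((E.κ_ker _ (mul_mem (inv_mem hx) hy)).1
    (by rw [E.κ_mul _ (inv_mem hx) _ hy, κ_inv E hx, h, neg_add_cancel]))
  exact ⟨i, by rw [show E.z ^ i = x⁻¹ * y from hi, mul_inv_cancel_left]⟩

/-- the preimage of a line -/
def W (v : Fin 2 → ZMod p) : Subgroup X where
  carrier := {y | y ∈ E.R ∧ E.κ y ∈ Ln v}
  one_mem' := ⟨one_mem _, 0, by rw [κ_z E (one_mem _), zero_smul]⟩
  mul_mem' := fun ⟨h1, c, hc⟩ ⟨h2, d, hd⟩ =>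
    ⟨mul_mem h1 h2, c + d, by rw [E.κ_mul _ h1 _ h2, hc, hd, add_smul]⟩
  inv_mem' := fun ⟨h1, c, hc⟩ => ⟨inv_mem h1, -c, by rw [κ_inv E h1, hc, neg_smul]⟩

end PE2

open PE2

theorem Ex.conj (E : Ex p X) (hp : p.Prime) {x : X} (hx : x ∈ E.R) (hz : x ∉ zpowers E.z) (i : ℕ) :
    ∃ r ∈ E.R, r * x * r⁻¹ = x * E.z ^ i := by
  have := Fact.mk hp
  obtain ⟨v, hv⟩ : ∃ v : Fin 2 → ZMod p, v 0 * E.κ x 1 - v 1 * E.κ x 0 = i := by
    by_cases h1 : E.κ x 1 = 0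
    · have h0 : E.κ x 0 ≠ 0 := fun h0 => hz ((E.κ_ker x hx).1 (funext (Fin.forall_fin_two.2 ⟨h0, h1⟩)))
      exact ⟨![0, -(i / E.κ x 0)], by simp [h0]⟩
    · exact ⟨![i / E.κ x 1, 0], by simp [h1]⟩
  obtain ⟨r, hr, rfl⟩ := E.κ_surj v
  have := E.comm r hr x hx
  rw [hv, pw_nat (E.exp _ E.z_mem)] at this
  exact ⟨r, hr, (mul_inv_eq_iff_eq_mul.1 this).trans ((E.comm_z hx).pow_right i).eq.symm⟩

theorem Ex.conj' (E : Ex p X) (hp : p.Prime) {x y : X} (hx : x ∈ E.R) (hy : y ∈ E.R)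
    (hz : x ∉ zpowers E.z) (hk : E.κ x = E.κ y) : ∃ r ∈ E.R, r * x * r⁻¹ = y := by
  obtain ⟨i, rfl⟩ := eq_of_κ E hx hy hk
  exact E.conj hp hx hz i

theorem Ex.mem_V (E : Ex p X) (hp : p.Prime) {x y : X} (hx : x ∈ E.R) (hz : x ∉ zpowers E.z) :
    y ∈ E.V x ↔ y ∈ E.R ∧ E.κ y ∈ Ln (E.κ x) := by
  have := Fact.mk hp
  refine ⟨fun h => (show E.V x ≤ W E (E.κ x) from sup_le (zpowers_le.2 ⟨hx, 1, (one_smul _ _).symm⟩)
    (zpowers_le.2 ⟨E.z_mem, 0, by rw [κ_z E (mem_zpowers _), zero_smul]⟩)) h, fun ⟨hy, c, hc⟩ => ?_⟩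
  obtain ⟨i, rfl⟩ := eq_of_κ E (pow_mem hx c.val) hy (by rw [κ_pow E hx, ZMod.natCast_zmod_val, hc])
  exact mul_mem_sup (pow_mem (mem_zpowers _) _) (pow_mem (mem_zpowers _) _)

theorem Ex.card_V (E : Ex p X) (hp : p.Prime) {x : X} (hx : x ∈ E.R) (hz : x ∉ zpowers E.z) :
    Nat.card (E.V x) = p ^ 2 ∧ E.R ⊓ Ce x = E.V x ∧ E.R ≤ normalizer (E.V x : Set X) := by
  have := Fact.mk hp
  have h1 : E.V x ≤ E.R ⊓ Ce x := sup_le (zpowers_le.2 ⟨hx, mem_centralizer_singleton_iff.2 rfl⟩)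
    (zpowers_le.2 ⟨E.z_mem, mem_centralizer_singleton_iff.2 (E.comm_z hx).eq.symm⟩)
  refine ⟨?_, le_antisymm (fun y hy => (E.mem_V hp hx hz).2 ⟨hy.1, ?_⟩) h1, fun r hr =>
    mem_normalizer_fintype fun y hy => ?_⟩
  · have h2 := h1.trans inf_le_left
    obtain ⟨k, -, hk⟩ := (Nat.dvd_prime_pow hp).1 (E.card ▸ card_dvd_of_le h2)
    have l1 : zpowers E.z < E.V x := lt_of_le_of_ne le_sup_right fun e => hz (e ▸ mem_sup_left (mem_zpowers _))
    have l2 : E.V x < E.R := lt_of_le_of_ne h2 fun e => by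
      obtain ⟨r, hr, e1⟩ := E.conj hp hx hz 1
      rw [mem_centralizer_singleton_iff.1 (h1 (e ▸ hr)).2, mul_inv_cancel_right, pow_one, left_eq_mul] at e1
      exact hp.ne_one (by rw [← E.oz, e1, orderOf_one])
    have c : ∀ {A B : Subgroup X}, A < B → Nat.card A < Nat.card B := fun h =>
      lt_of_le_of_ne (card_le_of_le h.le) fun e => h.ne (eq_of_le_of_card_ge h.le e.ge)
    have c1 := c l1
    have c2 := c l2
    rw [Nat.card_zpowers, E.oz, hk] at c1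
    rw [E.card, hk, Nat.pow_lt_pow_iff_right hp.one_lt] at c2
    have := (Nat.pow_lt_pow_iff_right (n := 1) hp.one_lt).1 ((pow_one p).trans_lt c1)
    rw [hk, show k = 2 by omega]
  · have h2 := E.comm x hx y hy.1
    rw [← mem_centralizer_singleton_iff.1 hy.2, mul_inv_cancel_right, mul_inv_cancel] at h2
    have h3 := sub_eq_zero.1 (pw_eq_one E.oz h2.symm)
    by_cases h1 : E.κ x 1 = 0
    · have h0 : E.κ x 0 ≠ 0 := fun h0 => hz ((E.κ_ker x hx).1 (funext (Fin.forall_fin_two.2 ⟨h0, h1⟩)))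
      rw [h1, zero_mul, mul_eq_zero, or_iff_right h0] at h3
      exact ⟨E.κ y 0 / E.κ x 0, funext (Fin.forall_fin_two.2 ⟨by simp [h0], by simp [h1, h3]⟩)⟩
    · refine ⟨E.κ y 1 / E.κ x 1, funext (Fin.forall_fin_two.2 ⟨?_, by simp [h1]⟩)⟩
      rw [Pi.smul_apply, smul_eq_mul, div_mul_eq_mul_div, mul_comm, h3, mul_div_cancel_left₀ _ h1]
  · obtain ⟨h2, h3⟩ := (E.mem_V hp hx hz).1 hy
    refine (E.mem_V hp hx hz).2 ⟨mul_mem (mul_mem hr h2) (inv_mem hr), ?_⟩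
    rwa [E.κ_mul _ (mul_mem hr h2) _ (inv_mem hr), E.κ_mul _ hr _ h2, κ_inv E hr, add_neg_cancel_comm]

theorem Ex.NR_le (E : Ex p X) : normalizer (E.R : Set X) ≤ E.NZ := fun g hg =>
  mem_normalizer_fintype fun y ⟨k, hk⟩ => by
    rw [← hk, ← conj_zpow, show g * E.z * g⁻¹ = _ from E.φ_det ⟨g, hg⟩]
    exact zpow_mem (pow_mem (mem_zpowers _) _) _

theorem PE2.index (E : Ex p X) (h : PL p X) : ¬ p ∣ E.R.index := fun hd => h.d4 (by
  rw [← E.R.card_mul_index, E.card, pow_succ p 3]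
  exact Nat.mul_dvd_mul_left _ hd)

theorem Ex.syl (E : Ex p X) (h : PL p X) : Inv.Fz.IsSylIn p E.R ⊤ :=
  haveI := Fact.mk h.prime
  Inv.Fz.isSylIn_of_not_dvd le_top (IsPGroup.of_card E.card) (by rw [relIndex_top_right]; exact PE2.index E h)

theorem Ex.eig (E : Ex p X) (hp : p.Prime) (g : normalizer (E.R : Set X))
    (hg : (orderOf (g : X)).Coprime p) {v : Fin 2 → ZMod p} (hv : v ≠ 0) {l : ZMod p}
    (hl : (mt (E.φ g)).mulVec v = l • v) :
    ∃ w ∈ E.R, E.κ w = v ∧ g * w * (g : X)⁻¹ = w ^ l.val := by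
  have := Fact.mk hp
  obtain ⟨w, hw, rfl⟩ := E.κ_surj v
  have zp := E.exp _ E.z_mem
  have wp := E.exp _ hw
  obtain ⟨c0, hc⟩ := eq_of_κ E (pow_mem hw l.val) ((mem_normalizer_iff.1 g.2 w).1 hw)
    (by rw [κ_pow E hw, ZMod.natCast_zmod_val, E.φ_κ g w hw, hl])
  rw [← pw_nat zp] at hc
  generalize (c0 : ZMod p) = c at hc
  have hd := E.φ_det g
  generalize (E.φ g : Matrix (Fin 2) (Fin 2) (ZMod p)).det = d at hd
  have cz := E.comm_z hw
  have key : ∀ a b : ZMod p, g * (w ^ a.val * E.z ^ b.val) * (g : X)⁻¹ =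
      w ^ (l * a).val * E.z ^ (c * a + d * b).val := fun a b => by
    rw [← conj_mul, ← conj_pow, ← conj_pow, hc, hd, (cz.pow_pow _ _).mul_pow, pw_add zp, pw_mul wp, pw_mul zp,
      pw_mul zp, mul_assoc]
  obtain ⟨j, hj⟩ : ∃ j, c + d * j = j * l := by
    by_cases e : d = l
    swap
    · exact ⟨c / (l - d), by have := sub_ne_zero.2 (Ne.symm e); field_simp; ring⟩
    subst e
    have ind : ∀ k : ℕ, ∃ b, d * b = k * d ^ k * c ∧
        (g : X) ^ k * w * ((g : X) ^ k)⁻¹ = w ^ (d ^ k).val * E.z ^ b.val := fun k => by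
      induction k with
      | zero => exact ⟨0, by simp, by simp [ZMod.val_one]⟩
      | succ k ih =>
        obtain ⟨b, h1, h2⟩ := ih
        refine ⟨c * d ^ k + d * b, by rw [h1]; push_cast; ring, ?_⟩
        rw [pow_succ' d, ← key, ← h2, pow_succ']
        group
    obtain ⟨b, h1, h2⟩ := ind (orderOf (g : X))
    rw [pow_orderOf_eq_one, one_mul, inv_one, mul_one] at h2
    have h3 : d ^ orderOf (g : X) = 1 := by
      have := congrArg E.κ h2
      rw [E.κ_mul _ (pow_mem hw _) _ (pow_mem E.z_mem _), κ_z E (pow_mem (mem_zpowers _) _), add_zero, κ_pow E hw,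
        ZMod.natCast_zmod_val] at this
      exact smul_left_injective _ hv (this.symm.trans (one_smul _ _).symm)
    rw [h3, ZMod.val_one, pow_one, left_eq_mul] at h2
    rw [pw_eq_one E.oz h2, h3, mul_zero, mul_one, eq_comm, mul_eq_zero, ZMod.natCast_eq_zero_iff,
      or_iff_right (hp.coprime_iff_not_dvd.1 hg.symm)] at h1
    exact ⟨0, by simp [h1]⟩
  refine ⟨w * E.z ^ j.val, mul_mem hw (pow_mem E.z_mem _), ?_, ?_⟩
  · rw [E.κ_mul _ hw _ (pow_mem E.z_mem _), κ_z E (pow_mem (mem_zpowers _) _), add_zero]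
  · have := key 1 j
    rwa [ZMod.val_one, pow_one, mul_one, mul_one, hj, pw_mul zp, ← (cz.pow_right _).mul_pow] at this

theorem PE2.cop (E : Ex p X) (h : PL p X) : (Nat.card E.im).Coprime p :=
  (h.prime.coprime_iff_not_dvd.2 fun hd => PE2.index E h (by
    rw [Ex.im, ← index_ker] at hd
    exact (hd.trans (index_dvd_of_le (H := E.R.subgroupOf _) fun g hg => (E.φ_ker g).2 (mem_sup_left hg))).trans
      (Dvd.intro _ (relIndex_mul_index le_normalizer)))).symm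

theorem Ex.lift (E : Ex p X) (h : PL p X) {M : GL (Fin 2) (ZMod p)} (hM : M ∈ E.im) :
    ∃ g : normalizer (E.R : Set X), E.φ g = M ∧ (orderOf (g : X)).Coprime p ∧
      ∀ q : ℕ, q.Prime → q ∣ orderOf (g : X) → q ∣ orderOf M := by
  obtain ⟨⟨g, hg⟩, hm⟩ := (measure fun g : {g // E.φ g = M} => orderOf g.1).wf.has_min Set.univ
    ⟨⟨_, hM.choose_spec⟩, trivial⟩
  have key : ∀ q : ℕ, q.Prime → q ∣ orderOf (g : X) → q ∣ orderOf M := fun q hq hd => by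
    by_contra hn
    obtain ⟨u, hu⟩ := exists_pow_eq_self_of_coprime (hq.coprime_iff_not_dvd.2 hn)
    rw [orderOf_coe] at hd
    refine hm.2 ⟨(g ^ q) ^ u, by rw [map_pow, map_pow, hg, hu]⟩ trivial ?_
    refine (Nat.le_of_dvd (orderOf_pos _) (orderOf_pow_dvd u)).trans_lt ?_
    rw [orderOf_pow_of_dvd hq.ne_zero hd]
    exact Nat.div_lt_self (orderOf_pos _) hq.one_lt
  refine ⟨g, hg, (h.prime.coprime_iff_not_dvd.2 fun hd => ?_).symm, key⟩
  exact h.prime.coprime_iff_not_dvd.1 (PE2.cop E h).symm ((key p h.prime hd).trans (E.im.orderOf_dvd_natCard hM))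

theorem Ex.ge (E : Ex p X) (h : PL p X) : GE p E.im := by
  have := Fact.mk h.prime
  have key : ∀ (g : normalizer (E.R : Set X)) (w : X), orderOf w = p → g * w * (g : X)⁻¹ = w ^ (1 : ZMod p).val →
      (orderOf (g : X)).Coprime p → E.φ g ^ 2 = 1 ∨ E.φ g ^ 3 = 1 := fun g w hw hc hg => by
    rw [ZMod.val_one, pow_one, mul_inv_eq_iff_eq_mul] at hc
    have := h.ord hw hc.symm hg
    rw [orderOf_coe] at this
    rw [← map_pow, ← map_pow]
    rcases this with e | e | e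
    · exact .inl (by rw [orderOf_eq_one_iff.1 e, one_pow, map_one])
    · exact .inl (by rw [orderOf_dvd_iff_pow_eq_one.1 e.dvd, map_one])
    · exact .inr (by rw [orderOf_dvd_iff_pow_eq_one.1 e.dvd, map_one])
  refine ⟨PE2.cop E h, fun M hM v hv e => ?_, fun M hM e => ?_⟩
  all_goals obtain ⟨g, rfl, hg, -⟩ := E.lift h hM
  · obtain ⟨w, hw, rfl, h1⟩ := E.eig h.prime g hg hv (e.trans (one_smul _ _).symm)
    exact key g w (E.ord h.prime hw fun e => hv (κ_z E (e ▸ one_mem _))) h1 hg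
  · exact key g _ E.oz (e ▸ E.φ_det g) hg

theorem Ex.nice (E : Ex p X) (hp : p.Prime) (hn : ¬ Om X (3 * p)) {x : X} (hx : x ∈ E.R)
    (hz : x ∉ zpowers E.z)
    (h : (∃ a b : X, orderOf a = 2 ∧ orderOf b = 2 ∧ a ≠ b ∧ Commute a b ∧ Commute a x ∧ Commute b x) ∨
      ∃ t : X, orderOf t = 2 ∧ Commute t x ∧ t * E.z * t⁻¹ = E.z⁻¹) : Nice p X := by
  refine ⟨hn, x, E.z, E.ord hp hx fun e => hz (e ▸ one_mem _), E.oz, E.comm_z hx, hz, fun i => ?_⟩
  obtain ⟨r, hr, e⟩ := E.conj hp hx hz i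
  have e1 : MulAut.conj r x = x * E.z ^ i := e
  have e2 : MulAut.conj r E.z = E.z := mul_inv_eq_iff_eq_mul.2 (E.comm_z hr)
  generalize MulAut.conj r = f at e1 e2
  rw [← e1]
  refine h.imp (fun ⟨a, b, h1, h2, h3, h4, h5, h6⟩ => ⟨f a, f b, (f.orderOf_eq a).trans h1, (f.orderOf_eq b).trans h2,
    f.injective.ne h3, h4.map f, h5.map f, h6.map f⟩) fun ⟨t, h1, h2, h3⟩ =>
    ⟨f t, (f.orderOf_eq t).trans h1, h2.map f, ?_⟩
  rw [← e2, ← map_inv, ← map_mul, ← map_mul, h3, map_inv]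

end Cfsg.Agent.SpS
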