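import Mathlib
import Cfsg.Agent.SpS.Defs
import Cfsg.Agent.SpS.Defs2

/-! S3586/S3535, piece G5: subgroups of `GL₂(5)`. -/

set_option autoImplicit false
set_option linter.unusedSectionVars false
set_option linter.unusedVariables false
set_option synthInstance.maxSize 8192
set_option synthInstance.maxHeartbeats 200000

namespace Cfsg.Agent.SpS

open Subgroup

namespace G5

abbrev F5 : Type := ZMod 5
abbrev Mt : Type := Matrix (Fin 2) (Fin 2) F5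
abbrev Vt : Type := Fin 2 → F5

/-- Four-tuples model the matrices. -/
abbrev T4 : Type := F5 × F5 × F5 × F5

def mu (x y : T4) : T4 := (x.1 * y.1 + x.2.1 * y.2.2.1, x.1 * y.2.1 + x.2.1 * y.2.2.2,
  x.2.2.1 * y.1 + x.2.2.2 * y.2.2.1, x.2.2.1 * y.2.1 + x.2.2.2 * y.2.2.2)
def on : T4 := (1, 0, 0, 1)
def ne (x : T4) : T4 := (-x.1, -x.2.1, -x.2.2.1, -x.2.2.2)
def dt (x : T4) : F5 := x.1 * x.2.2.2 - x.2.1 * x.2.2.1
def ap (x : T4) (v : F5 × F5) : F5 × F5 := (x.1 * v.1 + x.2.1 * v.2, x.2.2.1 * v.1 + x.2.2.2 * v.2)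
def sm (c : F5) (v : F5 × F5) : F5 × F5 := (c * v.1, c * v.2)
abbrev Li (v w : F5 × F5) : Prop := ∃ c : F5, w = sm c v
abbrev Ok (x : T4) : Prop := mu x x = on ∨ mu x (mu x x) = on
abbrev To (x : T4) (v : F5 × F5) : Prop := (dt x = 2 ∨ dt x = 3) ∧ v ≠ (0, 0) ∧ sm (dt x) (ap x v) = v

theorem f1 : ∀ a b c d : F5, dt (a, b, c, d) = 1 → mu (a, b, c, d) (a, b, c, d) = on →
    (a, b, c, d) = on ∨ (a, b, c, d) = ne on := by decide +kernel

theorem f2 : ∀ a b c d : F5, dt (a, b, c, d) = 1 → mu (a, b, c, d) (mu (a, b, c, d) (a, b, c, d)) = on →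
    (a, b, c, d) ≠ on → ∀ e f g h : F5, dt (e, f, g, h) = 1 → Ok (e, f, g, h) → Ok (mu (a, b, c, d) (e, f, g, h)) →
      Ok (mu (a, b, c, d) (mu (a, b, c, d) (e, f, g, h))) →
        (e, f, g, h) = on ∨ (e, f, g, h) = (a, b, c, d) ∨ (e, f, g, h) = mu (a, b, c, d) (a, b, c, d) := by
  decide +kernel

theorem f3 : ∀ a b c d : F5, dt (a, b, c, d) = 2 →
    mu (mu (a, b, c, d) (a, b, c, d)) (mu (a, b, c, d) (a, b, c, d)) = on →
    ¬ Ok (a, b, c, d) ∧ ¬ Ok (ne (a, b, c, d)) ∧ ∃ x y : F5, (x, y) ≠ (0, 0) ∧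
      (ap (a, b, c, d) (x, y) = (x, y) ∨ ap (ne (a, b, c, d)) (x, y) = (x, y)) ∧
        ap (mu (a, b, c, d) (a, b, c, d)) (x, y) = (x, y) := by decide +kernel

theorem f4 : ∀ a b c d : F5, dt (a, b, c, d) = -1 → mu (a, b, c, d) (a, b, c, d) = on →
    (∃ x y : F5, (x, y) ≠ (0, 0) ∧ ap (a, b, c, d) (x, y) = (x, y)) ∧
    ∀ e f g h : F5, dt (e, f, g, h) = 1 → mu (e, f, g, h) (mu (e, f, g, h) (e, f, g, h)) = on →
      mu (a, b, c, d) (e, f, g, h) = mu (e, f, g, h) (a, b, c, d) → (e, f, g, h) = on := by decide +kernel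

theorem f5 : ∀ a b c d x y : F5, To (a, b, c, d) (x, y) →
    mu (mu (a, b, c, d) (a, b, c, d)) (mu (a, b, c, d) (a, b, c, d)) = on ∧ dt (mu (a, b, c, d) (a, b, c, d)) = -1 ∧
    ¬ Ok (ne (a, b, c, d)) ∧
    (∀ r s : F5, To (a, b, c, d) (r, s) ∨ To (mu (a, b, c, d) (mu (a, b, c, d) (a, b, c, d))) (r, s) →
      Li (x, y) (r, s)) ∧
    ∃ u u' : F5, ap (ne (a, b, c, d)) (u, u') = (u, u') ∧ ¬ Li (x, y) (u, u') ∧
      ap (mu (a, b, c, d) (a, b, c, d)) (u, u') = (u, u') ∧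
      ∀ r s : F5, ¬ Li (x, y) (r, s) → ¬ Li (u, u') (r, s) → ¬ Li (r, s) (ap (a, b, c, d) (r, s)) ∧
        ¬ Li (r, s) (ap (mu (a, b, c, d) (a, b, c, d)) (r, s)) ∧
        ¬ Li (r, s) (ap (mu (a, b, c, d) (mu (a, b, c, d) (a, b, c, d))) (r, s)) := by decide +kernel

theorem g1 : ∀ x : F5, x ≠ 0 → x ^ 2 ≠ 1 → x = 2 ∨ x = 3 := by decide
theorem g2 : ∀ x : F5, x ≠ 0 → x ^ 4 = 1 := by decide
theorem g3 : ∀ x l : F5, x ≠ 0 → (l = 2 ∨ l = 3) → x = l ^ 0 ∨ x = l ^ 1 ∨ x = l ^ 2 ∨ x = l ^ 3 := by decide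

theorem fact5 : Fact (Nat.Prime 5) := ⟨by norm_num⟩

attribute [local instance] fact5

abbrev GL5 : Type := GL (Fin 2) F5

def tu (M : GL5) : T4 := (mt M 0 0, mt M 0 1, mt M 1 0, mt M 1 1)
def pr (v : Vt) : F5 × F5 := (v 0, v 1)

theorem tu_mul (M N : GL5) : tu (M * N) = mu (tu M) (tu N) := by
  simp [tu, mu, mt, Matrix.mul_apply, Fin.sum_univ_two]

theorem tu_one : tu 1 = on := by simp [tu, on, mt]

theorem tu_neg (M : GL5) : tu (-M) = ne (tu M) := by simp [tu, ne, mt]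

theorem tu_inj {M N : GL5} (h : tu M = tu N) : M = N := by
  simp only [tu, Prod.mk.injEq] at h
  refine Units.ext (Matrix.ext fun i j => ?_)
  fin_cases i <;> fin_cases j
  exacts [h.1, h.2.1, h.2.2.1, h.2.2.2]

theorem tu_eq {M : GL5} : tu M = on ↔ M = 1 := ⟨fun h => tu_inj (h.trans tu_one.symm), fun h => h ▸ tu_one⟩

theorem tu_det (M : GL5) : (mt M).det = dt (tu M) := Matrix.det_fin_two _

theorem tu_sq (M : GL5) : tu (M ^ 2) = mu (tu M) (tu M) := by rw [pow_two, tu_mul]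

theorem tu_cu (M : GL5) : tu (M ^ 3) = mu (tu M) (mu (tu M) (tu M)) := by rw [pow_three, tu_mul, tu_mul]

theorem tu_four (M : GL5) : tu (M ^ 4) = mu (mu (tu M) (tu M)) (mu (tu M) (tu M)) := by
  rw [show 4 = 2 + 2 from rfl, pow_add, tu_mul, tu_sq]

theorem ok_iff {M : GL5} : M ^ 2 = 1 ∨ M ^ 3 = 1 ↔ Ok (tu M) := by rw [Ok, ← tu_cu, ← tu_sq, tu_eq, tu_eq]

theorem pr_inj {v w : Vt} (h : pr v = pr w) : v = w := by
  simp only [pr, Prod.mk.injEq] at h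
  funext i
  fin_cases i
  exacts [h.1, h.2]

theorem pr_ap (M : GL5) (v : Vt) : pr ((mt M).mulVec v) = ap (tu M) (pr v) := by
  simp [pr, ap, tu, Matrix.mulVec, dotProduct, Fin.sum_univ_two]

theorem pr_ne {v : Vt} : v ≠ 0 ↔ pr v ≠ (0, 0) := not_congr ⟨fun h => h ▸ rfl, fun h => pr_inj h⟩

theorem fix_iff {M : GL5} {v : Vt} : (mt M).mulVec v = v ↔ ap (tu M) (pr v) = pr v :=
  ⟨fun h => by rw [← pr_ap, h], fun h => pr_inj (by rw [pr_ap, h])⟩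

theorem mem_Ln {v w : Vt} : w ∈ Ln v ↔ Li (pr v) (pr w) :=
  exists_congr fun c => ⟨fun h => h ▸ rfl, fun h => pr_inj h⟩

theorem to_of {M : GL5} {v : Vt} (h : Tor M v) : To (tu M) (pr v) := by
  obtain ⟨h0, l, hl, hd, hv⟩ := h
  rw [To, ← tu_det, hd]
  refine ⟨g1 _ l.ne_zero fun e => ?_, pr_ne.1 h0, ?_⟩
  · have : orderOf l ∣ 2 := orderOf_dvd_of_pow_eq_one (Units.ext e)
    rw [hl] at this
    omega
  · rw [← pr_ap, hv]
    exact congrArg pr (smul_inv_smul l v)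

theorem det_mul (M N : GL5) : (mt (M * N)).det = (mt M).det * (mt N).det := Matrix.det_mul _ _

theorem det_pow (M : GL5) (n : ℕ) : (mt (M ^ n)).det = (mt M).det ^ n := by
  rw [mt, Units.val_pow_eq_pow_val, Matrix.det_pow]

theorem det_ne (M : GL5) : (mt M).det ≠ 0 := M.det_ne_zero

theorem det_four (M : GL5) : (mt (M ^ 4)).det = 1 := by
  rw [det_pow, g2 _ (det_ne M)]

variable {A : Subgroup GL5}

/-- The elements of determinant one. -/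
abbrev S1 (A : Subgroup GL5) : Set GL5 := {N | N ∈ A ∧ (mt N).det = 1}

theorem card_eq (A : Subgroup GL5) :
    Nat.card A = (S1 A).ncard * Nat.card (A.map Matrix.GeneralLinearGroup.det) := by
  rw [← relIndex_ker, relIndex, ← ((MonoidHom.ker Matrix.GeneralLinearGroup.det).subgroupOf A).card_mul_index,
    ← Nat.card_coe_set_eq]
  congr 1
  exact Nat.card_congr ⟨fun x => ⟨x.1.1, x.1.2, congrArg Units.val x.2⟩,
    fun x => ⟨⟨x.1, x.2.1⟩, Units.ext x.2.2⟩, fun _ => rfl, fun _ => rfl⟩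

theorem card_un : Nat.card F5ˣ = 4 := by rw [Nat.card_eq_fintype_card, ZMod.card_units]

theorem tri (h : GE 5 A) : S1 A = {1} ∨ (-1 ∈ A ∧ S1 A = {1, -1}) ∨
    ∃ ρ ∈ A, (mt ρ).det = 1 ∧ ρ ^ 3 = 1 ∧ ρ ≠ 1 ∧ S1 A = {1, ρ, ρ ^ 2} := by
  have d1 : (mt (1 : GL5)).det = 1 := Matrix.det_one
  by_cases h3 : ∃ ρ ∈ A, (mt ρ).det = 1 ∧ ρ ^ 3 = 1 ∧ ρ ≠ 1
  · obtain ⟨ρ, hρ, e1, e3, n1⟩ := h3
    refine Or.inr (Or.inr ⟨ρ, hρ, e1, e3, n1, Set.ext fun N => ⟨fun ⟨hN, eN⟩ => ?_, ?_⟩⟩)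
    · have k1 := ok_iff.1 (h.det _ (mul_mem hρ hN) (by rw [det_mul, e1, eN, mul_one]))
      have k2 := ok_iff.1 (h.det _ (mul_mem hρ (mul_mem hρ hN)) (by rw [det_mul, det_mul, e1, eN, mul_one, mul_one]))
      simp only [tu_mul] at k1 k2
      have := f2 _ _ _ _ ((tu_det ρ).symm.trans e1) ((tu_cu ρ).symm.trans (tu_eq.2 e3)) (fun e => n1 (tu_eq.1 e))
        _ _ _ _ ((tu_det N).symm.trans eN) (ok_iff.1 (h.det N hN eN)) k1 k2
      exact this.imp tu_eq.1 (Or.imp tu_inj fun e => tu_inj (e.trans (tu_sq ρ).symm))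
    · rintro (rfl | rfl | rfl)
      exacts [⟨one_mem _, d1⟩, ⟨hρ, e1⟩, ⟨pow_mem hρ 2, by rw [det_pow, e1, one_pow]⟩]
  · have k : ∀ N ∈ S1 A, N = 1 ∨ N = -1 := fun N ⟨hN, eN⟩ => by
      rcases h.det N hN eN with e | e
      · exact (f1 _ _ _ _ ((tu_det N).symm.trans eN) ((tu_sq N).symm.trans (tu_eq.2 e))).imp tu_eq.1
          fun e => tu_inj (e.trans (by rw [tu_neg, tu_one]))
      · exact Or.inl (by_contra fun n => h3 ⟨N, hN, eN, e, n⟩)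
    by_cases hm : -1 ∈ A
    · refine Or.inr (Or.inl ⟨hm, Set.ext fun N => ⟨k N, ?_⟩⟩)
      rintro (rfl | rfl)
      exacts [⟨one_mem _, d1⟩, ⟨hm, by rw [tu_det, tu_neg, tu_one]; decide⟩]
    · refine Or.inl (Set.ext fun N => ⟨fun hN => (k N hN).resolve_right fun e => hm (e ▸ hN.1), ?_⟩)
      rintro rfl
      exact ⟨one_mem _, d1⟩

theorem n2 : ({1, -1} : Set GL5).ncard = 2 := Set.ncard_pair fun e => by
  have := congrArg tu e
  rw [tu_neg, tu_one] at this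
  revert this
  decide

theorem n3 {ρ : GL5} (h3 : ρ ^ 3 = 1) (h1 : ρ ≠ 1) : ({1, ρ, ρ ^ 2} : Set GL5).ncard = 3 :=
  Set.ncard_eq_three.2 ⟨1, ρ, ρ ^ 2, h1.symm, fun e => h1 (by rw [← h3, pow_succ, ← e, one_mul]),
    fun e => h1 (mul_left_cancel (a := ρ) (by rw [mul_one, ← pow_two, ← e])), rfl⟩

theorem cyc (hS : S1 A = {1}) {M : GL5} (hM : M ∈ A) (hl : (mt M).det = 2 ∨ (mt M).det = 3) {N : GL5}
    (hN : N ∈ A) : N = 1 ∨ N = M ∨ N = M ^ 2 ∨ N = M ^ 3 := by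
  have inj : ∀ i : ℕ, (mt N).det = (mt M).det ^ i → N = M ^ i := fun i e => by
    have : N * (M ^ i)⁻¹ ∈ S1 A := ⟨mul_mem hN (inv_mem (pow_mem hM i)), by
      refine mul_right_cancel₀ (det_ne (M ^ i)) ?_
      rw [← det_mul, inv_mul_cancel_right, one_mul, det_pow, e]⟩
    rw [hS] at this
    exact mul_inv_eq_one.1 this
  rcases g3 _ _ (det_ne N) hl with e | e | e | e
  exacts [Or.inl ((inj _ e).trans (pow_zero M)), Or.inr (Or.inl ((inj _ e).trans (pow_one M))),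
    Or.inr (Or.inr (Or.inl (inj _ e))), Or.inr (Or.inr (Or.inr (inj _ e)))]

theorem conj_cases {ρ N : GL5} (hρ : ρ ∈ A) (e1 : (mt ρ).det = 1) (n1 : ρ ≠ 1) (hS : S1 A = {1, ρ, ρ ^ 2})
    (hN : N ∈ A) : N * ρ * N⁻¹ = ρ ∨ N * ρ * N⁻¹ = ρ ^ 2 := by
  have : N * ρ * N⁻¹ ∈ S1 A := ⟨mul_mem (mul_mem hN hρ) (inv_mem hN), by
    rw [det_mul, det_mul, e1, mul_one, ← det_mul, mul_inv_cancel]; exact Matrix.det_one⟩
  rw [hS] at this
  exact this.resolve_left fun e => n1 (by simpa using e)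

theorem no_comm {ρ N : GL5} (e1 : (mt ρ).det = 1) (e3 : ρ ^ 3 = 1) (n1 : ρ ≠ 1) (h2 : N ^ 2 = 1)
    (hd : (mt N).det = -1) : N * ρ * N⁻¹ ≠ ρ := fun e =>
  n1 (tu_eq.1 ((f4 _ _ _ _ ((tu_det N).symm.trans hd) ((tu_sq N).symm.trans (tu_eq.2 h2))).2 _ _ _ _
    ((tu_det ρ).symm.trans e1) ((tu_cu ρ).symm.trans (tu_eq.2 e3))
    ((tu_mul N ρ).symm.trans ((congrArg tu (mul_inv_eq_iff_eq_mul.1 e)).trans (tu_mul ρ N)))))

theorem ex_two (hb : Nat.card (A.map Matrix.GeneralLinearGroup.det) = 4) : ∃ N ∈ A, (mt N).det = 2 := by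
  have : (Units.mk0 (2 : F5) (by decide)) ∈ A.map Matrix.GeneralLinearGroup.det :=
    eq_top_of_card_eq _ (hb.trans card_un.symm) ▸ mem_top _
  obtain ⟨N, hN, e⟩ := this
  exact ⟨N, hN, congrArg Units.val e⟩

theorem ex_neg (hb : Nat.card (A.map Matrix.GeneralLinearGroup.det) = 2) : ∃ N ∈ A, (mt N).det = -1 := by
  obtain ⟨⟨_, N, hN, rfl⟩, hx⟩ := exists_prime_orderOf_dvd_card' (G := A.map Matrix.GeneralLinearGroup.det) 2
    (by rw [hb])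
  rw [← orderOf_coe, orderOf_eq_prime_iff] at hx
  refine ⟨N, hN, (sq_eq_one_iff.1 (congrArg Units.val hx.1)).resolve_left fun e => hx.2 (Units.ext e)⟩

end G5

open G5

theorem GE.tor5 {A : Subgroup (GL (Fin 2) (ZMod 5))} (h : GE 5 A) {M : GL (Fin 2) (ZMod 5)} (hM : M ∈ A)
    {v : Fin 2 → ZMod 5} (ht : Tor M v) : Nat.card A = 4 ∧ TV A ⊆ Ln v ∧
      {N | N ∈ A ∧ (mt N).det = 1} = {1} ∧ (mt (M ^ 2)).det = -1 ∧
      ∃ u, u ∉ Ln v ∧ (mt (M ^ 2)).mulVec u = u ∧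
        ∀ w, w ∉ Ln v → w ∉ Ln u → ∀ N ∈ A, (mt N).mulVec w ∈ Ln w → N = 1 := by
  have t0 := to_of ht
  obtain ⟨k1, k2, k3, k4, u, u', k5, k6, k7, k8⟩ := f5 _ _ _ _ _ _ t0
  have d2 : (mt (M ^ 2)).det = -1 := by rw [tu_det, tu_sq]; exact k2
  have m4 : (M ^ 2) ^ 2 = 1 := by rw [← pow_mul]; exact tu_eq.1 ((tu_four M).trans k1)
  have hS : S1 A = {1} := by
    rcases tri h with e | ⟨hm, -⟩ | ⟨ρ, hρ, e1, e3, n1, e⟩
    · exact e
    · refine (k3 ?_).elim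
      have := ok_iff.1 (h.eig (-M) (by rw [← neg_one_mul]; exact mul_mem hm hM) ![u, u']
        (fun e => k6 ⟨0, (congrArg pr e).trans (by simp [pr, sm])⟩) (fix_iff.2 (by rw [tu_neg]; exact k5)))
      rwa [tu_neg] at this
    · refine (no_comm e1 e3 n1 m4 d2 ?_).elim
      have e0 : M ^ 2 * ρ * (M ^ 2)⁻¹ = M * (M * ρ * M⁻¹) * M⁻¹ := by rw [pow_two]; group
      rcases conj_cases hρ e1 n1 e hM with c | c
      · rw [e0, c, c]
      · rw [e0, c, ← conj_pow, c, ← pow_mul, show 2 * 2 = 3 + 1 from rfl, pow_succ, e3, one_mul]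
  have hc := fun N hN => cyc hS hM (by rw [tu_det]; exact t0.1) (N := N) hN
  refine ⟨?_, ?_, hS, d2, ![u, u'], fun e => k6 (mem_Ln.1 e), fix_iff.2 (by rw [tu_sq]; exact k7),
    fun w h1 h2 N hN hw => ?_⟩
  · obtain ⟨-, l, hl, hd, -⟩ := ht
    rw [card_eq, hS, Set.ncard_singleton, one_mul]
    refine Nat.dvd_antisymm (card_un ▸ card_subgroup_dvd_card _) ?_
    exact (show orderOf l = 4 from hl) ▸ Subgroup.orderOf_dvd_natCard _ ⟨M, hM, Units.ext hd⟩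
  · rintro w ⟨N, hN, hw⟩
    have t1 := to_of hw
    refine mem_Ln.2 (k4 _ _ ?_)
    rcases hc N hN with rfl | rfl | rfl | rfl
    · have := t1.1
      rw [tu_one] at this
      exact absurd this (by decide)
    · exact Or.inl t1
    · have := t1.1
      rw [← tu_det, d2] at this
      exact absurd this (by decide)
    · exact Or.inr (by rwa [tu_cu] at t1)
  · obtain ⟨a1, a2, a3⟩ := k8 (w 0) (w 1) (fun e => h1 (mem_Ln.2 e)) fun e => h2 (mem_Ln.2 e)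
    rw [mem_Ln, pr_ap] at hw
    rcases hc N hN with rfl | rfl | rfl | rfl
    · rfl
    · exact (a1 hw).elim
    · exact (a2 (by rwa [tu_sq] at hw)).elim
    · exact (a3 (by rwa [tu_cu] at hw)).elim

theorem GE.card5 {A : Subgroup (GL (Fin 2) (ZMod 5))} (h : GE 5 A) :
    ∃ a b : ℕ, Set.ncard {N | N ∈ A ∧ (mt N).det = 1} = a ∧ (a = 1 ∨ a = 2 ∨ a = 3) ∧ b ∣ 4 ∧
      Nat.card A = a * b ∧
      (a = 2 → b = 4 → ∃ N ∈ A, (mt (N ^ 4)).det = 1 ∧ N ^ 4 ≠ 1) ∧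
      (a = 1 → b = 4 → ∃ N ∈ A, ∃ v, v ≠ 0 ∧ N ^ 2 ≠ 1 ∧ (mt (N ^ 2)).mulVec v = v ∧ ∀ N' ∈ A, N' ∈ zpowers N) ∧
      (a ≠ 2 → b = 2 → ∃ N ∈ A, ∃ v, v ≠ 0 ∧ N ^ 2 = 1 ∧ (mt N).det = -1 ∧ (mt N).mulVec v = v ∧
        ∀ N' ∈ A, (mt N').det = 1 → N * N' * N⁻¹ = N'⁻¹) := by
  have vec : ∀ {N : GL5}, N ^ 2 = 1 → (mt N).det = -1 → ∃ v, v ≠ 0 ∧ (mt N).mulVec v = v := fun {N} h2 hd => by
    obtain ⟨x, y, k1, k2⟩ := (f4 _ _ _ _ ((tu_det N).symm.trans hd) ((tu_sq N).symm.trans (tu_eq.2 h2))).1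
    exact ⟨![x, y], pr_ne.2 k1, fix_iff.2 k2⟩
  refine ⟨_, _, rfl, ?_, card_un ▸ card_subgroup_dvd_card _, card_eq A, fun ha hb => ?_, fun ha hb => ?_,
    fun ha hb => ?_⟩
  · rcases tri h with e | ⟨-, e⟩ | ⟨ρ, -, -, e3, n1, e⟩ <;> rw [S1] at e <;> rw [e]
    exacts [Or.inl (Set.ncard_singleton _), Or.inr (Or.inl n2), Or.inr (Or.inr (n3 e3 n1))]
  · obtain ⟨N, hN, hd⟩ := ex_two hb
    refine ⟨N, hN, det_four N, fun e4 => ?_⟩
    obtain ⟨k1, k2, x, y, k3, k4, -⟩ := f3 _ _ _ _ ((tu_det N).symm.trans hd) ((tu_four N).symm.trans (tu_eq.2 e4))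
    have hm : -1 ∈ A := by
      rcases tri h with e | ⟨hm, -⟩ | ⟨ρ, -, -, e3, n1, e⟩
      · rw [S1] at e
        rw [e, Set.ncard_singleton] at ha
        omega
      · exact hm
      · rw [S1] at e
        rw [e, n3 e3 n1] at ha
        omega
    rcases k4 with k4 | k4
    · exact k1 (ok_iff.1 (h.eig N hN ![x, y] (pr_ne.2 k3) (fix_iff.2 k4)))
    · have := ok_iff.1 (h.eig (-N) (by rw [← neg_one_mul]; exact mul_mem hm hN) ![x, y] (pr_ne.2 k3)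
        (fix_iff.2 (by rw [tu_neg]; exact k4)))
      rw [tu_neg] at this
      exact k2 this
  · obtain ⟨N, hN, hd⟩ := ex_two hb
    have hS : S1 A = {1} := by
      rcases tri h with e | ⟨-, e⟩ | ⟨ρ, -, -, e3, n1, e⟩
      · exact e
      · rw [S1] at e
        rw [e, n2] at ha
        omega
      · rw [S1] at e
        rw [e, n3 e3 n1] at ha
        omega
    have e4 : N ^ 4 = 1 := by
      have : N ^ 4 ∈ S1 A := ⟨pow_mem hN 4, det_four N⟩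
      rwa [hS] at this
    obtain ⟨k1, -, x, y, k3, -, k5⟩ := f3 _ _ _ _ ((tu_det N).symm.trans hd) ((tu_four N).symm.trans (tu_eq.2 e4))
    refine ⟨N, hN, ![x, y], pr_ne.2 k3, fun e => k1 (ok_iff.1 (Or.inl e)), fix_iff.2 (by rw [tu_sq]; exact k5),
      fun N' hN' => ?_⟩
    rcases cyc hS hN (Or.inl hd) hN' with rfl | rfl | rfl | rfl
    exacts [one_mem _, mem_zpowers _, pow_mem (mem_zpowers _) _, pow_mem (mem_zpowers _) _]
  · obtain ⟨N, hN, hd⟩ := ex_neg hb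
    have h2 : N ^ 2 ∈ S1 A := ⟨pow_mem hN 2, by rw [det_pow, hd, neg_one_sq]⟩
    rcases tri h with e | ⟨-, e⟩ | ⟨ρ, hρ, e1, e3, n1, e⟩
    · rw [e] at h2
      obtain ⟨v, v0, hv⟩ := vec h2 hd
      refine ⟨N, hN, v, v0, h2, hd, hv, fun N' hN' d' => ?_⟩
      have : N' ∈ S1 A := ⟨hN', d'⟩
      rw [e] at this
      rw [show N' = 1 from this, mul_one, mul_inv_cancel, inv_one]
    · rw [S1] at e
      rw [e, n2] at ha
      exact (ha rfl).elim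
    · have s2 : (N ^ 3) ^ 2 = 1 := by
        rw [← pow_mul, mul_comm, pow_mul]
        rw [e] at h2
        rcases h2 with k | k | k <;> rw [k]
        · exact one_pow _
        · exact e3
        · rw [← pow_mul, mul_comm, pow_mul, e3, one_pow]
      have d3 : (mt (N ^ 3)).det = -1 := by rw [det_pow, hd]; decide
      obtain ⟨v, v0, hv⟩ := vec s2 d3
      have c := (conj_cases hρ e1 n1 e (pow_mem hN 3)).resolve_left (no_comm e1 e3 n1 s2 d3)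
      have ci : ρ ^ 2 = ρ⁻¹ := eq_inv_of_mul_eq_one_left (by rw [← pow_succ, e3])
      refine ⟨N ^ 3, pow_mem hN 3, v, v0, s2, d3, hv, fun N' hN' d' => ?_⟩
      have : N' ∈ S1 A := ⟨hN', d'⟩
      rw [e] at this
      rcases this with k | k | k <;> rw [k]
      · rw [mul_one, mul_inv_cancel, inv_one]
      · rw [c, ci]
      · rw [← conj_pow, c, ci, inv_pow, ci]

end Cfsg.Agent.SpS
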