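import Mathlib
import Cfsg.Agent.SpS.Defs
import Cfsg.Agent.SpS.Defs2
import Cfsg.Agent.SpS.M0
import Cfsg.Agent.SpS.T8
import Cfsg.Agent.SpS.SN

/-! S3586/S3535, piece M3: the complement of the TI Sylow `5`-subgroup is not `S₄`. -/

set_option autoImplicit false
set_option linter.unusedSectionVars false
set_option linter.unusedVariables false

namespace Cfsg.Agent.SpS

open Subgroup

variable {G X : Type*} [Group G] [Finite G] [Group X] [Finite X] {p : ℕ}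

namespace M3

open Inv.Fz Equiv

theorem mc {x g : X} : g ∈ Ce x ↔ g * x = x * g := mem_centralizer_singleton_iff

theorem cjc (g : X) {x t : X} (h : x ∈ Ce t) : g * x * g⁻¹ ∈ Ce (g * t * g⁻¹) :=
  (cj_centralizer_singleton g t).le (conj_mem_cj.2 h)

open scoped IsMulCommutative in
theorem transfer5 {H : Type*} [Group H] [Finite H] (W : Subgroup H) (hW : ∀ x ∈ W, ∀ y ∈ W, x * y = y * x)
    (ex : ∀ x ∈ W, x ^ 5 = 1) {a : H} (ha : a ∈ W) (a1 : a ≠ 1) (hi : ¬ 5 ∣ W.index)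
    (key : ∀ (k : ℕ) (g : H), g⁻¹ * a ^ k * g ∈ W → g⁻¹ * a ^ k * g = a ^ k) (P : Sylow 3 H) :
    ∃ x ∈ normalizer (P : Set H), orderOf x = 5 := by
  have : IsMulCommutative W := ⟨⟨fun a b => Subtype.ext (hW a a.2 b b.2)⟩⟩
  have : Fact (Nat.Prime 5) := ⟨by norm_num⟩
  let f : H →* W := MonoidHom.transfer (MonoidHom.id W)
  have e5 : ∀ w : W, w ^ 5 = 1 := fun w => Subtype.ext (ex w w.2)
  have fa : f a ≠ 1 := fun e => by
    have := congrArg Subtype.val ((MonoidHom.transfer_eq_pow (MonoidHom.id W) a key).symm.trans e)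
    exact hi (orderOf_eq_prime (ex a ha) a1 ▸ orderOf_dvd_of_pow_eq_one this)
  have hP : (P : Subgroup H) ≤ f.ker := fun x hx => by
    obtain ⟨k, hk⟩ := P.isPGroup' ⟨x, hx⟩
    have h1 : f x ^ 3 ^ k = 1 := by rw [← map_pow, show x ^ 3 ^ k = 1 from congrArg Subtype.val hk, map_one]
    have := pow_gcd_eq_one.2 ⟨h1, e5 (f x)⟩
    rwa [Nat.Coprime.pow_left k (by norm_num : Nat.Coprime 3 5), pow_one] at this
  by_contra! hn
  have : normalizer (P : Set H) ≤ f.ker := fun x hx => by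
    by_contra hf
    exact hn _ (pow_mem hx _) (orderOf_pow_orderOf_div (orderOf_pos x).ne'
      (orderOf_eq_prime (e5 (f x)) hf ▸ orderOf_map_dvd f x))
  exact fa ((sup_eq_right.2 this).symm.trans (P.normalizer_sup_eq_top' hP) ▸ mem_top a : a ∈ f.ker)

theorem two_le {Q H : Subgroup X} (hQ : IsPGroup 2 Q) (hle : Q ≤ H) {a m : ℕ} (ha : a ∣ 5 ^ 3)
    (h : Nat.card H = a * 2 ^ m) : Nat.card Q ≤ 2 ^ m := by
  obtain ⟨k, hk⟩ := IsPGroup.iff_card.1 hQ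
  have := card_dvd_of_le hle
  rw [h, hk] at this
  rw [hk]
  exact Nat.le_of_dvd (by positivity) ((Nat.Coprime.pow_left k
    (Nat.Coprime.coprime_dvd_right ha (by norm_num))).dvd_of_dvd_mul_left this)

variable {R Y : Subgroup X}

theorem YN (h : TI5 R Y) : Y ≤ normalizer (R : Set X) := h.sup ▸ le_sup_right

theorem cjR (h : TI5 R Y) {y x : X} (hy : y ∈ Y) (hx : x ∈ R) : y * x * y⁻¹ ∈ R :=
  (mem_normalizer_iff.1 (YN h hy) x).1 hx

theorem dvd125 (h : TI5 R Y) (K : Subgroup X) : Nat.card (R ⊓ K : Subgroup X) ∣ 5 ^ 3 :=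
  h.ab.card ▸ card_dvd_of_le inf_le_left

theorem ti (h : TI5 R Y) {g b : X} (hb : b ∈ R) (b1 : b ≠ 1) (hg : g⁻¹ * b * g ∈ R) :
    g ∈ normalizer (R : Set X) := by
  have : Fact (Nat.Prime 5) := ⟨by norm_num⟩
  have hp : IsPGroup 5 R := IsPGroup.of_card h.ab.card
  obtain ⟨c, hc, e⟩ := (h.syl (t := b) fun e => b1 (mem_bot.1 (e ▸ mem_inf.2 ⟨hb, mc.2 rfl⟩))).exists_cj_le
    (isPGroup_cj hp g) (cj_le_iff.2 fun x hx => mc.2 (by
      calc _ = g * (x * (g⁻¹ * b * g)) * g⁻¹ := by group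
        _ = _ := by rw [h.ab.comm x hx _ hg]; group))
  rw [cj_cj] at e
  exact (mul_mem_cancel_left (h.cen b hb b1 hc)).1 (cj_eq_iff.1 (cj_eq_of_le (e.trans inf_le_left)))

theorem nrm (h : TI5 R Y) {g x : X} (hg : g ∈ Y) (hx : x ∈ R) (e : g * g * x = x * (g * g)) :
    x * (g * x * g⁻¹) ∈ R ⊓ Ce g := by
  refine mem_inf.2 ⟨mul_mem hx (cjR h hg hx), mc.2 ?_⟩
  calc _ = g * x * g⁻¹ * (x * (g * g)) * g⁻¹ := by rw [h.ab.comm x hx _ (cjR h hg hx)]; group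
    _ = _ := by rw [← e]; group

theorem small (h : TI5 R Y) {K : Subgroup X} (hK : ¬ 25 ∣ Nat.card (R ⊓ K : Subgroup X)) {a : X} (ha : a ∈ R ⊓ K)
    (a1 : a ≠ 1) : R ⊓ K = zpowers a := by
  have : Fact (Nat.Prime 5) := ⟨by norm_num⟩
  refine (eq_of_le_of_card_ge (zpowers_le.2 ha) ?_).symm
  rw [Nat.card_zpowers, orderOf_eq_prime (h.ab.exp a ha.1) a1]
  obtain ⟨i, hi, e⟩ := (Nat.dvd_prime_pow (by norm_num)).1 (dvd125 h K)
  rw [e] at hK ⊢
  interval_cases i <;> simp_all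

theorem card_cj' (h : TI5 R Y) {y : X} (hy : y ∈ Y) (t : X) :
    Nat.card (R ⊓ Ce (y * t * y⁻¹) : Subgroup X) = Nat.card (R ⊓ Ce t : Subgroup X) := by
  rw [← card_cj y (R ⊓ Ce t), cj_inf, cj_eq_iff.2 (YN h hy), cj_centralizer_singleton]

theorem all (h : TI5 R Y) {t s : X} (ht : t ∈ Y) (hs : s ∈ Y) (t2 : t * t = 1) (s2 : s * s = 1)
    (ts : t * s * (t * s) = 1) (h1 : R ⊓ Ce s ≤ Ce t) (h2 : R ⊓ Ce (t * s) ≤ Ce t) : R ≤ Ce t := fun x hx => by
  have y := cjR h hs hx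
  have a := h1 (nrm h hs hx (by simp [s2]))
  have b := h2 (nrm h (mul_mem ht hs) hx (by simp [ts]))
  have c := (nrm h ht y (by simp [t2])).2
  have e : t * s * x * (t * s)⁻¹ = t * (s * x * s⁻¹) * t⁻¹ := by group
  rw [e] at b
  have z := cjR h ht y
  generalize t * (s * x * s⁻¹) * t⁻¹ = w at *
  generalize s * x * s⁻¹ = v at *
  have d := pow_mem (mul_mem (mul_mem b (inv_mem c)) (h.ab.comm x hx v y ▸ a)) 3
  rwa [show x * w * (v * w)⁻¹ * (v * x) = x ^ 2 by rw [pow_two]; group, ← pow_mul, pow_succ, h.ab.exp x hx,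
    one_mul] at d

theorem caseB (h : TI5 R Y) {t s τ w : X} (ht : t ∈ Y) (hs : s ∈ Y) (hτ : τ ∈ Y) (hw : w ∈ Y) (t2 : t * t = 1)
    (s2 : s * s = 1) (τ2 : τ * τ = 1) (ts : t * s = s * t) (tτ : t * τ = τ * t) (τs : τ * s * τ⁻¹ = t * s)
    (wt : w * t * w⁻¹ = s) (o4 : orderOf (τ * s) = 4) (h25 : ¬ 25 ∣ Nat.card (R ⊓ Ce t : Subgroup X)) :
    25 ∣ Nat.card (R ⊓ Ce τ : Subgroup X) ∧ ∃ a ∈ R, a ≠ 1 ∧ a ∈ Ce t ∧ a ∈ Ce τ := by
  have c2 := card_cj' h hw t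
  have c3 := (card_cj' h hτ s).trans (wt ▸ c2)
  rw [wt] at c2
  rw [τs] at c3
  have nall : ¬ (R ⊓ Ce s ≤ Ce t ∧ R ⊓ Ce (t * s) ≤ Ce t) := fun q => h25 (by
    rw [inf_eq_left.2 (all h ht hs t2 s2 (by rw [mul_assoc, ← mul_assoc s, ← ts, mul_assoc, s2, mul_one, t2])
      q.1 q.2), h.ab.card]; norm_num)
  have one : ∀ x ∈ R, x ∈ Ce t → x ∈ Ce s → x = 1 := fun x hx xt xs => by
    by_contra x1
    refine nall ⟨?_, ?_⟩
    · rw [small h (c2 ▸ h25) (mem_inf.2 ⟨hx, xs⟩) x1]; exact zpowers_le.2 xt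
    · rw [small h (c3 ▸ h25) (mem_inf.2 ⟨hx, mc.2 (by rw [← mul_assoc, mc.1 xt, mul_assoc, mc.1 xs, mul_assoc])⟩) x1]
      exact zpowers_le.2 xt
  have ne : R ⊓ Ce t ≠ ⊥ := fun e => by
    rw [e, card_bot, card_eq_one] at c2 c3
    exact nall ⟨c2 ▸ bot_le, c3 ▸ bot_le⟩
  obtain ⟨⟨a, aR, at'⟩, a1⟩ := ne_bot_iff_exists_ne_one.1 ne
  replace a1 : a ≠ 1 := fun e => a1 (Subtype.ext e)
  have cc : ∀ {x g k : X}, x ∈ Ce k → g * k = k * g → x * (g * x * g⁻¹) ∈ Ce k := fun hx hg =>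
    mul_mem hx (mul_mem (mul_mem (mc.2 hg) hx) (inv_mem (mc.2 hg)))
  have e1 := nrm h hs aR (by simp [s2])
  have e2 := one _ e1.1 (cc at' ts.symm) e1.2
  have e3 : R ⊓ Ce (τ * s) = ⊥ := by
    by_contra q
    have := h.ord (mul_mem hτ hs) q
    omega
  have e4 : τ * s * (τ * s) = t := by
    rw [inv_eq_of_mul_eq_one_right τ2] at τs
    rw [← mul_assoc, τs, mul_assoc, s2, mul_one]
  have e5 := mem_bot.1 (e3 ▸ nrm h (mul_mem hτ hs) aR (by rw [e4, mc.1 at']))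
  have aτ : a ∈ Ce τ := by
    rw [show τ * s * a * (τ * s)⁻¹ = τ * (s * a * s⁻¹) * τ⁻¹ by group, eq_inv_of_mul_eq_one_right e2] at e5
    exact (inv_mem_iff (x := a)).1 (mc.2 (mul_inv_eq_iff_eq_mul.1 (eq_inv_of_mul_eq_one_right e5)).symm)
  refine ⟨?_, a, aR, a1, at', aτ⟩
  by_contra q
  have bR := cjR h hw aR
  have bs : w * a * w⁻¹ ∈ Ce s := wt ▸ cjc w at'
  have b1 : w * a * w⁻¹ ≠ 1 := fun e => a1 (conj_eq_one_iff.1 e)
  generalize w * a * w⁻¹ = b at *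
  have f1 := nrm h ht bR (by simp [t2])
  have f2 := eq_inv_of_mul_eq_one_right (one _ f1.1 f1.2 (cc bs ts))
  have f3 := nrm h hτ bR (by simp [τ2])
  have f4 : b * (τ * b * τ⁻¹) ∈ Ce t := by
    rw [small h q (mem_inf.2 ⟨aR, aτ⟩) a1] at f3
    exact zpowers_le.2 at' f3
  have f5 : (b * (τ * b * τ⁻¹)) ^ 2 = 1 := by
    have : t * (b * (τ * b * τ⁻¹)) * t⁻¹ = b⁻¹ * (τ * b * τ⁻¹)⁻¹ := by
      calc _ = t * b * t⁻¹ * (t * τ * b * (t * τ)⁻¹) := by group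
        _ = t * b * t⁻¹ * (τ * (t * b * t⁻¹) * τ⁻¹) := by rw [tτ]; group
        _ = _ := by rw [f2]; group
    rw [← mc.1 f4, mul_inv_cancel_right, ← mul_inv_rev, h.ab.comm _ (cjR h hτ bR) b bR] at this
    rw [pow_two]; exact mul_eq_one_iff_eq_inv.2 this
  have f6 := pow_gcd_eq_one.2 ⟨f5, h.ab.exp _ f3.1⟩
  rw [show Nat.gcd 2 5 = 1 from rfl, pow_one] at f6
  have f7 : b⁻¹ ∈ Ce (t * s) := by
    rw [← τs, ← eq_inv_of_mul_eq_one_right f6]; exact cjc τ bs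
  refine b1 (one b bR (mc.2 ?_) bs)
  have := mc.1 (inv_mem_iff.1 f7)
  rwa [mul_assoc, ← mc.1 bs, ← mul_assoc, ← mul_assoc, mul_left_inj] at this

theorem big (h : TI5 R Y) {τ a : X} (hτ : τ ∈ Y) (o2 : orderOf τ = 2) (aR : a ∈ R) (a1 : a ≠ 1) (aτ : a ∈ Ce τ)
    (hY : Y ⊓ Ce τ ≤ Ce a) (hc : Nat.card (Ce τ) = 777600) : False := by
  have : Fact (Nat.Prime 5) := ⟨by norm_num⟩
  obtain ⟨P⟩ : Nonempty (Sylow 3 (Ce τ)) := inferInstance
  have hs := h.syl (t := τ) fun e => a1 (mem_bot.1 (e ▸ mem_inf.2 ⟨aR, aτ⟩))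
  obtain ⟨x, xN, x5⟩ := transfer5 ((R ⊓ Ce τ).subgroupOf (Ce τ))
    (fun x hx y hy => Subtype.ext (h.ab.comm x hx.1 y hy.1)) (fun x hx => Subtype.ext (h.ab.exp x hx.1))
    (a := ⟨a, aτ⟩) ⟨aR, aτ⟩ (fun e => a1 (congrArg Subtype.val e)) hs.not_dvd_relIndex (fun k g hg => by
      by_cases e : a ^ k = 1
      · rw [show (⟨a, aτ⟩ : Ce τ) ^ k = 1 from Subtype.ext e]; simp
      have q : (g : X) ∈ Ce a := (sup_le (fun r hr => mc.2 (h.ab.comm r hr.1 a aR)) hY : R ⊓ Ce τ ⊔ _ ≤ Ce a)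
        (h.cen_inf hτ ▸ mem_inf.2 ⟨g.2, ti h (pow_mem aR k) e hg.1⟩)
      exact Subtype.ext (Commute.inv_mul_cancel (Commute.pow_right (mc.1 q) k))) P
  have cP : Nat.card P = 243 := by
    rw [P.card_eq_multiplicity, hc, ← Nat.primeFactorsList_count_eq]
    simp [Nat.primeFactorsList_ofNat]
  have := free_dvd (R := (P : Subgroup (Ce τ))) (zpowers_le.2 xN) fun y hy z hz hc => by
    by_contra! q
    have y5 : orderOf (y : X) = 5 := by
      rw [orderOf_coe]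
      exact ((Nat.dvd_prime (by norm_num)).1 (x5 ▸ orderOf_dvd_of_mem_zpowers hy)).resolve_left
        fun e => q.2 (orderOf_eq_one_iff.1 e)
    have z3 : 3 ∣ orderOf (z : X) := by
      obtain ⟨k, hk⟩ := (IsPGroup.iff_orderOf.1 P.isPGroup') ⟨z, hz⟩
      rw [← orderOf_coe] at hk
      rw [orderOf_coe, hk]
      exact dvd_pow_self _ fun e => q.1 (orderOf_eq_one_iff.1 (by rw [hk, e, pow_zero]))
    have yτ : Commute (y : X) τ := mc.1 y.2
    exact h.ub.not_om (m := 3 * 10) (by decide) (Om.mul (Commute.mul_right (congrArg Subtype.val hc) (mc.1 z.2)) z3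
      (by rw [yτ.orderOf_mul_eq_mul_orderOf_of_coprime (by rw [y5, o2]; norm_num), y5, o2]) (by norm_num))
  rw [Nat.card_zpowers, x5, cP] at this
  omega

abbrev P4 := Perm (Fin 4)

def s1 : P4 := swap 0 1 * swap 2 3

def s2 : P4 := swap 0 2 * swap 1 3

def ta : P4 := swap 0 1

theorem cen_map (j : P4 →* X) (hj : Function.Injective j) {σ : P4} {x : X} :
    x ∈ j.range ⊓ Ce (j σ) ↔ ∃ ρ, ρ * σ = σ * ρ ∧ j ρ = x := by
  constructor
  · rintro ⟨⟨ρ, rfl⟩, e⟩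
    exact ⟨ρ, hj (by simpa only [map_mul] using mc.1 e), rfl⟩
  · rintro ⟨ρ, e, rfl⟩
    exact ⟨⟨ρ, rfl⟩, mc.2 (by rw [← map_mul, e, map_mul])⟩

theorem cen_card (j : P4 →* X) (hj : Function.Injective j) (σ : P4) :
    Nat.card (j.range ⊓ Ce (j σ) : Subgroup X) = Fintype.card {ρ // ρ * σ = σ * ρ} := by
  have : j.range ⊓ Ce (j σ) = (Ce σ).map j := by
    ext x
    rw [cen_map j hj, mem_map]
    simp only [mem_centralizer_singleton_iff]
  rw [this, card_map_of_injective hj, ← Nat.card_eq_fintype_card]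
  exact Nat.card_congr (Equiv.subtypeEquivRight fun _ => mem_centralizer_singleton_iff)

theorem core (j : P4 →* X) (hj : Function.Injective j) (h : TI5 R j.range) : False := by
  have m : ∀ σ, j σ ∈ j.range := fun σ => ⟨σ, rfl⟩
  have c8 : Nat.card (j.range ⊓ Ce (j s1) : Subgroup X) = 2 ^ 3 := (cen_card j hj _).trans (by decide)
  have c4 : Nat.card (j.range ⊓ Ce (j ta) : Subgroup X) = 2 ^ 2 := (cen_card j hj _).trans (by decide)
  have o1 : orderOf (j s1) = 2 := (orderOf_injective j hj _).trans (orderOf_eq_prime (by decide) (by decide))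
  have o2 : orderOf (j ta) = 2 := (orderOf_injective j hj _).trans (orderOf_eq_prime (by decide) (by decide))
  have hT : IsPGroup 2 (j.range ⊓ Ce (j s1) : Subgroup X) := IsPGroup.of_card c8
  have h16 : 2 * Nat.card (j.range ⊓ Ce (j s1) : Subgroup X) ∣ Nat.card X := by rw [c8, h.card]; norm_num
  by_cases h25 : 25 ∣ Nat.card (R ⊓ Ce (j s1) : Subgroup X)
  · obtain ⟨n, hn, q⟩ := h.idx (m _) o1 h25
    have hd := card_subgroup_dvd_card (Ce (j s1))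
    rw [c8] at hn
    rcases q with rfl | ⟨q, rfl | rfl⟩
    · refine syl_center (isSylIn_of_card_le inf_le_right hT fun Q hQ hle _ => c8 ▸ two_le hQ hle (dvd125 h _)
        (hn.trans (mul_one _))) ⟨m _, mc.2 rfl⟩ (fun a ha hc ho => ?_) o1 h16
      obtain ⟨σ, e, rfl⟩ := (cen_map j hj).1 ha
      have cm : ∀ ρ, ρ * s1 = s1 * ρ → ρ * σ = σ * ρ := fun ρ q => hj (by
        rw [map_mul, map_mul]; exact hc _ ((cen_map j hj).2 ⟨ρ, q, rfl⟩))
      have : ∀ σ : P4, σ * s1 = s1 * σ → s2 * σ = σ * s2 → ta * σ = σ * ta → σ = 1 ∨ σ = s1 := by decide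
      rcases this σ e (cm _ (by decide)) (cm _ (by decide)) with rfl | rfl
      · simp at ho
      · rfl
    all_goals rw [hn, q, h.card] at hd; norm_num at hd
  have tr : ∀ {a b c : P4}, a * b = c → j a * j b = j c := fun e => by rw [← map_mul, e]
  obtain ⟨h5, a, aR, a1, a2, a3⟩ := caseB h (m s1) (m s2) (m ta) (m (swap 1 2))
    ((tr (by decide)).trans j.map_one) ((tr (by decide)).trans j.map_one) ((tr (by decide)).trans j.map_one)
    ((tr rfl).trans (tr (by decide)).symm) ((tr rfl).trans (tr (by decide)).symm)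
    (by rw [← map_inv, tr rfl, tr rfl, tr rfl]; congr 1; decide) (by rw [← map_inv, tr rfl, tr rfl]; congr 1; decide)
    (by rw [tr rfl, orderOf_injective j hj]
        exact orderOf_eq_prime_pow (p := 2) (n := 1) (by decide) (by decide)) h25
  obtain ⟨n, hn, q⟩ := h.idx (m _) o2 h5
  rw [c4] at hn
  rcases q with rfl | ⟨q, rfl | rfl⟩
  · obtain ⟨S, hS, TS, SN, cS⟩ := syl_move hT h16
    obtain ⟨g, gS, gT⟩ : ∃ g ∈ S, g ∉ j.range ⊓ Ce (j s1) := by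
      by_contra! e
      have := card_le_of_le (H := S) e
      rw [cS, c8] at this
      omega
    have le : j.range ⊓ Ce (j ta) ≤ j.range ⊓ Ce (j s1) := fun x hx => by
      obtain ⟨σ, e, rfl⟩ := (cen_map j hj).1 hx
      exact (cen_map j hj).2 ⟨σ, (by decide : ∀ σ : P4, σ * ta = ta * σ → σ * s1 = s1 * σ) σ e, rfl⟩
    have eq : j.range ⊓ Ce (j ta) = S ⊓ Ce (j ta) := eq_of_le_of_card_ge (le_inf (le.trans TS) inf_le_right)
      (c4 ▸ two_le hS.to_inf_left inf_le_right (dvd125 h _) (hn.trans (mul_one _)))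
    obtain ⟨σ, e, hσ⟩ := (cen_map j hj).1 ((mem_normalizer_iff.1 (SN gS) _).1 (le ⟨m ta, mc.2 rfl⟩))
    have : ∀ σ : P4, σ * s1 = s1 * σ → σ * σ = 1 → σ = 1 ∨ (∃ y, y * σ * y⁻¹ = s1) ∨
      ∃ y, y * s1 = s1 * y ∧ y * σ * y⁻¹ = ta := by decide
    rcases this σ e (hj (by rw [map_mul, hσ, conj_mul, tr (c := 1) (by decide)]; simp)) with rfl | ⟨y, hy⟩ | ⟨y, y1, hy⟩
    · rw [map_one, eq_comm, conj_eq_one_iff] at hσ
      simp [hσ] at o2
    · refine h25 (h.card_conj (isConj_iff.2 ⟨j y * g, ?_⟩) (fun e => a1 (mem_bot.1 (e ▸ mem_inf.2 ⟨aR, a3⟩)))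
        (fun e => a1 (mem_bot.1 (e ▸ mem_inf.2 ⟨aR, a2⟩))) ▸ h5)
      rw [← hy, map_mul, map_mul, map_inv, hσ]; group
    · have yT := (cen_map j hj).2 ⟨y, y1, rfl⟩
      refine gT ((mul_mem_cancel_left yT).1 (le (eq ▸ mem_inf.2 ⟨mul_mem (TS yT) gS, mc.2 ?_⟩)))
      conv_rhs => rw [← hy, map_mul, map_mul, map_inv, hσ]
      group
  · have hd := card_subgroup_dvd_card (Ce (j ta))
    rw [hn, q, h.card] at hd; norm_num at hd
  · refine big h (m ta) o2 aR a1 a3 (fun x hx => ?_) (by rw [hn, q]; norm_num)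
    obtain ⟨σ, e, rfl⟩ := (cen_map j hj).1 hx
    have b1 : j s1 ∈ Ce a := mc.2 (mc.1 a2).symm
    have b2 : j ta ∈ Ce a := mc.2 (mc.1 a3).symm
    rcases (by decide : ∀ σ : P4, σ * ta = ta * σ → σ = 1 ∨ σ = s1 ∨ σ = ta ∨ σ = s1 * ta) σ e with
      rfl | rfl | rfl | rfl
    exacts [j.map_one ▸ one_mem _, b1, b2, j.map_mul _ _ ▸ mul_mem b1 b2]

end M3

theorem TI5.case3 {R Y : Subgroup X} (h : TI5 R Y) (e : Y ≃* Equiv.Perm (Fin 4)) : False := by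
  refine M3.core (R := R) (Y.subtype.comp e.symm.toMonoidHom) (Y.subtype_injective.comp e.symm.injective) ?_
  rwa [MonoidHom.range_comp, MonoidHom.range_eq_top.2 e.symm.surjective, ← MonoidHom.range_eq_map, range_subtype]

end Cfsg.Agent.SpS
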